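import Groth.Agent.PBCThm.Supp
import Groth.Agent.TriCat.RightDerivedBridge
import Groth.Agent.AcycFin.SkyTorsion

/-!
# Top degree compactly supported direct images
-/

set_option autoImplicit false
set_option linter.style.haveILetI false
set_option linter.unusedSectionVars false
set_option backward.isDefEq.respectTransparency false
set_option backward.isDefEq.respectTransparency.types false

universe u

open CategoryTheory CategoryTheory.Limits AlgebraicGeometry Opposite Abelian

namespace Groth.Agent.PBCThm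

open EtFound

attribute [local instance] EtFound.pull_preservesFiniteLimits

/-- Subsheaves of torsion sheaves are torsion. -/
theorem isTorsion_of_mono {X : Scheme.{u}} {A B : EtCoh.Ab X} (m : A ⟶ B) [Mono m] (hB : EtCoh.IsTorsion B) :
    EtCoh.IsTorsion A := by
  rw [H9Transfer.isTorsion_iff_stalks] at hB ⊢
  intro Ω _ _ ξ t
  haveI : Mono ((EtCoh.stalk ξ).map m) := (EtCoh.stalk ξ).map_mono m
  have hinj : Function.Injective ((EtCoh.stalk ξ).map m) := (AddCommGrpCat.mono_iff_injective _).1 inferInstance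
  obtain ⟨k, hk, h0⟩ := isOfFinAddOrder_iff_nsmul_eq_zero.1 (hB Ω ξ ((EtCoh.stalk ξ).map m t))
  exact isOfFinAddOrder_iff_nsmul_eq_zero.2 ⟨k, hk, hinj (by rw [map_nsmul, h0, map_zero])⟩

/-- Inverse images of extensions by zero are supported over the support. -/
theorem exists_mem_supp_of_mem_supp {U X P : Scheme.{u}} (j : U ⟶ X) [IsOpenImmersion j] [EtShriek.JCont j]
    (a : P ⟶ X) (F : EtCoh.Ab U) {z : P}
    (hz : z ∈ EtPBC.supp ((EtCoh.pull a).obj ((EtShriek.extZero j).obj F))) :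
    ∃ v ∈ EtPBC.supp F, j v = a z := by
  obtain ⟨Ω, _, _, ξ, hr, hne⟩ := hz
  haveI := FibDim.subsingleton_spec_field Ω
  have hz' : ξ.base (default : Spec (CommRingCat.of Ω)) = z :=
    Set.mem_singleton_iff.1 (hr ▸ Set.mem_range_self _)
  have hmem : (ξ ≫ a).base (default : Spec (CommRingCat.of Ω)) ∈ Set.range j.base := by
    by_contra h
    exact hne (IsZero.of_iso (isZero_stalk_extZero j (ξ ≫ a) h F) ((stalkPullIso a ξ).app _))
  obtain ⟨w, hw⟩ : ∃ w : Spec (CommRingCat.of Ω) ⟶ U, w ≫ j = ξ ≫ a := by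
    refine ⟨IsOpenImmersion.lift j (ξ ≫ a) ?_, IsOpenImmersion.lift_fac _ _ _⟩
    rintro _ ⟨t, rfl⟩
    rwa [Subsingleton.elim t default]
  refine ⟨w.base default, ⟨Ω, _, ‹_›, w, ?_, fun h0 => hne ?_⟩, ?_⟩
  · exact Set.eq_singleton_iff_unique_mem.2 ⟨Set.mem_range_self _, by
      rintro _ ⟨t, rfl⟩; rw [Subsingleton.elim t default]⟩
  · refine IsZero.of_iso ?_ ((stalkPullIso a ξ).app _)
    show IsZero ((EtCoh.stalk (ξ ≫ a)).obj _)
    rw [← hw]
    haveI : IsIso ((EtCoh.stalk w).map ((EtShriek.extZeroAdj j).unit.app F)) :=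
      isIso_stalk_unit j (A := AddCommGrpCat.{u + 1}) F w
    have h1 := IsZero.of_iso h0 (asIso ((EtCoh.stalk w).map ((EtShriek.extZeroAdj j).unit.app F))).symm
    haveI : IsIso (restrStalkMap j w ((EtShriek.extZero j).obj F)) :=
      (ConcreteCategory.isIso_iff_bijective _).2 (restrStalkMap_bijective j w _)
    exact IsZero.of_iso h1 (asIso (restrStalkMap j w ((EtShriek.extZero j).obj F))).symm
  · rw [← Scheme.Hom.comp_apply, hw, Scheme.Hom.comp_apply]
    exact congrArg a.base hz'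

/-- Vanishing of compactly supported higher direct images above twice the dimension of the support. -/
theorem isZero_Rpush_extZero_supp {U P S : Scheme.{u}} (j : U ⟶ P) [IsOpenImmersion j] [EtShriek.JCont j]
    (p : P ⟶ S) [IsProper p] (d : ℕ) (F : EtCoh.Ab U)
    (hdim : ∀ v ∈ EtPBC.supp F, FibDim.rd (j ≫ p) v ≤ d)
    (hF : EtCoh.IsTorsion F) (q : ℕ) (hq : 2 * d < q) :
    IsZero ((EtCoh.Rpush p q).obj ((EtShriek.extZero j).obj F)) := by
  refine (EtFound.isZero_iff_stalks _).2 fun Ω _ _ ξ => ?_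
  obtain ⟨e⟩ := nonempty_stalk_Rpush p ξ _ (isTorsion_extZero j F hF) q
  let a := pullback.fst p ξ
  let b := pullback.snd p ξ
  haveI : IsProper b := inferInstanceAs (IsProper (pullback.snd p ξ))
  haveI : QuasiSeparatedSpace ↥(pullback p ξ) := quasiSeparatedSpace_of_quasiSeparated b
  haveI := subsingleton_H_above_supp b (n := d) _ (H9Transfer.isTorsion_pull a _ (isTorsion_extZero j F hF))
    (fun z hz => ?_) q hq
  · exact IsZero.of_iso (AddCommGrpCat.isZero_of_subsingleton _) e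
  obtain ⟨v, hvs, hv⟩ := exists_mem_supp_of_mem_supp j a F hz
  have h1 : FibDim.rd b z ≤ FibDim.rd p (a z) := FibDim.rd_baseChange_le (IsPullback.of_hasPullback p ξ) z
  have h2 : FibDim.rd (j ≫ p) v ≤ d := hdim v hvs
  rw [FibDim.rd_comp, hv, FibDim.rd_eq_zero_of_quasiFinite j v, add_zero] at h2
  have h3 : VarDim.deg b z = FibDim.rd b z := by
    have h := (VarDim.deg_eq_tdeg b z).trans ((VarDim.tdeg_eq_rdeg b z).trans (FibDim.rd_eq_rdeg b z).symm)
    exact_mod_cast h
  omega

/-- The top compactly supported direct image is right exact on torsion sheaves. -/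
theorem epi_Rpush_extZero_top {U P S : Scheme.{u}} (j : U ⟶ P) [IsOpenImmersion j] [EtShriek.JCont j]
    (p : P ⟶ S) [IsProper p] (d : ℕ) (hdim : ∀ s : S, topologicalKrullDim ((j ≫ p).fiber s) ≤ d)
    {F G : EtCoh.Ab U} (hF : EtCoh.IsTorsion F) (φ : F ⟶ G) [Epi φ] :
    Epi ((EtCoh.Rpush p (2 * d)).map ((EtShriek.extZero j).map φ)) := by
  haveI := EtFound.extZero_preservesFiniteLimits j
  let T : ShortComplex (EtCoh.Ab U) := ShortComplex.mk (kernel.ι φ) φ (kernel.condition _)
  have hT : T.ShortExact :=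
    { exact := ShortComplex.exact_of_f_is_kernel _ (kernelIsKernel φ)
      mono_f := inferInstanceAs (Mono (kernel.ι φ))
      epi_g := inferInstanceAs (Epi φ) }
  letI := HasDerivedCategory.standard (EtCoh.Ab P)
  letI := HasDerivedCategory.standard (EtCoh.Ab S)
  obtain ⟨δ, w₁, w₂, w₃, -, h₂, -⟩ :=
    TriCat.exists_rightDerived_ses (EtCoh.push p) (hT.map_of_exact (EtShriek.extZero j)) (2 * d)
  exact h₂.epi_f ((isZero_Rpush_extZero j p d hdim _ (isTorsion_of_mono (kernel.ι φ) hF) (2 * d + 1)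
    (Nat.lt_succ_self _)).eq_of_tgt _ _)

/-- Removing a closed subset with smaller fibres does not change the top compactly supported direct image. -/
theorem isIso_Rpush_extZero_top {U Z X P S : Scheme.{u}} (jc : X ⟶ P) [IsOpenImmersion jc] [EtShriek.JCont jc]
    (p : P ⟶ S) [IsProper p] (d : ℕ) (j : U ⟶ X) [IsOpenImmersion j] [Etale j] [EtShriek.JCont j]
    (i : Z ⟶ X) [IsClosedImmersion i] (hij : Set.range j.base = (Set.range i.base)ᶜ)
    (hZ : ∀ s : S, topologicalKrullDim ↥((i ≫ jc ≫ p).fiber s) < d)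
    (F : EtCoh.Ab X) (hF : EtCoh.IsTorsion F) :
    IsIso ((EtCoh.Rpush p (2 * d)).map ((EtShriek.extZero jc).map ((EtShriek.extZeroAdj j).counit.app F))) := by
  haveI := EtFound.extZero_preservesFiniteLimits jc
  obtain ⟨w, hT⟩ := EtFound.recollement_shortExact i j hij F
  let Q := (EtCoh.push i).obj ((EtCoh.pull i).obj F)
  haveI : LocallyOfFiniteType (jc ≫ p) := inferInstance
  have hQt : EtCoh.IsTorsion Q := by
    haveI : Epi ((EtCoh.pullPushAdj i).unit.app F) := hT.epi_g
    exact AcycFin.SkyTorsion.isTorsion_of_epi ((EtCoh.pullPushAdj i).unit.app F) hF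
  have hsupp : ∀ v ∈ EtPBC.supp Q, v ∈ Set.range i.base := by
    rintro v ⟨Ω, _, _, ξ, hr, hne⟩
    by_contra h
    refine hne (EtFound.isZero_stalk_push_closed i _ ξ ?_)
    have hv : ξ.base (default : Spec (CommRingCat.of Ω)) ∈ ({v} : Set X) := hr ▸ Set.mem_range_self _
    rwa [Set.mem_singleton_iff.1 hv]
  have hlt : ∀ z : Z, FibDim.rd (i ≫ jc ≫ p) z < d := fun z => by
    have h := hZ ((i ≫ jc ≫ p) z)
    rw [FibDim.topologicalKrullDim_fiber] at h
    have h' := lt_of_le_of_lt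
      (le_iSup (fun w : {w // (i ≫ jc ≫ p) w = (i ≫ jc ≫ p) z} =>
        ((FibDim.rd (i ≫ jc ≫ p) w.1 : ℕ) : WithBot ℕ∞)) ⟨z, rfl⟩) h
    exact_mod_cast h'
  obtain ⟨e, he⟩ : ∃ e : ℕ, d = e + 1 ∨ (d = 0 ∧ IsEmpty Z) := by
    rcases d with _ | e
    · exact ⟨0, Or.inr ⟨rfl, ⟨fun z => Nat.not_lt_zero _ (hlt z)⟩⟩⟩
    · exact ⟨e, Or.inl rfl⟩
  have hvan : ∀ q : ℕ, 2 * e < q ∨ d = 0 → IsZero ((EtCoh.Rpush p q).obj ((EtShriek.extZero jc).obj Q)) := by
    intro q hq
    rcases he with rfl | ⟨rfl, hem⟩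
    · refine isZero_Rpush_extZero_supp jc p e Q (fun v hv => ?_) hQt q (hq.resolve_right (by omega))
      obtain ⟨z, rfl⟩ := hsupp v hv
      have h2 := Nat.lt_succ_iff.1 (hlt z)
      rw [FibDim.rd_comp] at h2
      exact le_trans (Nat.le_add_right _ _) h2
    · have hQ0 : IsZero Q := (EtFound.isZero_iff_stalks _).2 fun Ω _ _ ξ => by
        refine EtFound.isZero_stalk_push_closed i _ ξ ?_
        rintro ⟨z, -⟩
        exact hem.false z
      exact Functor.map_isZero _ (Functor.map_isZero _ hQ0)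
  letI := HasDerivedCategory.standard (EtCoh.Ab P)
  letI := HasDerivedCategory.standard (EtCoh.Ab S)
  let T := (ShortComplex.mk _ _ w).map (EtShriek.extZero jc)
  have hTS : T.ShortExact := hT.map_of_exact (EtShriek.extZero jc)
  obtain ⟨δ, w₁, w₂, w₃, h₁, -, -⟩ := TriCat.exists_rightDerived_ses (EtCoh.push p) hTS (2 * d)
  haveI : Epi ((EtCoh.Rpush p (2 * d)).map T.f) :=
    h₁.epi_f ((hvan (2 * d) (by omega)).eq_of_tgt _ _)
  haveI : Mono ((EtCoh.Rpush p (2 * d)).map T.f) := by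
    rcases Nat.eq_zero_or_pos d with rfl | hd
    · haveI := EtFound.push_preservesFiniteLimits p
      haveI : (EtCoh.push p).Additive := (EtCoh.pullPushAdj p).right_adjoint_additive
      haveI : Mono T.f := hTS.mono_f
      haveI : Mono ((EtCoh.push p).map T.f) := (EtCoh.push p).map_mono _
      exact ((MorphismProperty.monomorphisms _).arrow_mk_iso_iff
        (Arrow.isoMk ((EtCoh.push p).rightDerivedZeroIsoSelf.app _) ((EtCoh.push p).rightDerivedZeroIsoSelf.app _)
          ((EtCoh.push p).rightDerivedZeroIsoSelf.hom.naturality T.f).symm)).2 ‹Mono ((EtCoh.push p).map T.f)›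
    · obtain ⟨δ', w₁', w₂', w₃', -, -, h₃'⟩ := TriCat.exists_rightDerived_ses (EtCoh.push p) hTS (2 * d - 1)
      have h := h₃'.mono_g ((hvan (2 * d - 1) (by omega)).eq_of_src _ _)
      change Mono ((EtCoh.Rpush p (2 * d - 1 + 1)).map T.f) at h
      rwa [show 2 * d - 1 + 1 = 2 * d by omega] at h
  exact isIso_of_mono_of_epi ((EtCoh.Rpush p (2 * d)).map T.f)

end Groth.Agent.PBCThm
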