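import Groth.Agent.PBCThm.FieldExt
import Groth.Agent.S0642
import Mathlib.FieldTheory.IsSepClosed
import Mathlib.FieldTheory.PurelyInseparable.Basic
import Mathlib.FieldTheory.IsAlgClosed.AlgebraicClosure
import Mathlib.AlgebraicGeometry.Morphisms.UniversallyInjective

/-!
# Cohomology and extensions of separably closed fields
-/

set_option autoImplicit false
set_option linter.style.haveILetI false
set_option linter.unusedSectionVars false
set_option backward.isDefEq.respectTransparency false
set_option backward.isDefEq.respectTransparency.types false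

universe u

open CategoryTheory CategoryTheory.Limits AlgebraicGeometry Opposite Abelian

namespace Groth.Agent.PBCThm

open ClosedAffAcyc

attribute [local instance] EtFound.pull_preservesFiniteLimits

/-- Surjectivity in all degrees gives bijectivity, along surjective morphisms. -/
theorem bijective_Hpull_of_surjective {W W' : Scheme.{u}} (g : W' ⟶ W) [CompactSpace W] [QuasiSeparatedSpace W]
    [QuasiCompact g] [QuasiSeparated g] [Surjective g]
    (hs : ∀ (F : EtCoh.Ab W), EtCoh.IsTorsion F → ∀ q, Function.Surjective (EtCore.Hpull g F q)) :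
    ∀ (q : ℕ) (F : EtCoh.Ab W), EtCoh.IsTorsion F → Function.Bijective (EtCore.Hpull g F q) := by
  intro q
  induction q with
  | zero =>
    intro F hF
    refine ⟨?_, hs F hF 0⟩
    haveI := AcycFin.mono_unit g F
    refine (injective_iff_map_eq_zero _).2 fun x hx =>
      BcQCalc.eq_zero_of_comp_mono ((EtCoh.pullPushAdj g).unit.app F) x ?_
    refine (BcQCalc.HofPush_bijective_zero g _).1 ?_
    rw [← EtAcycLib.UnitRpush.Hpull_eq_HofPush, hx, map_zero]
  | succ q ih =>
    intro F hF
    exact ⟨AcycFin.injective_succ g q (L := Set.univ)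
      (fun G hG => (ih G (GabberAffine.isTorsion_of_univ hG)).2)
      (fun G hG => (ih G (GabberAffine.isTorsion_of_univ hG)).1) F (GabberAffine.isLTorsion_univ hF), hs F hF _⟩

theorem surjective_spec_field (k K : Type u) [Field k] [Field K] (φ : k →+* K) :
    Surjective (Spec.map (CommRingCat.ofHom φ)) :=
  ⟨fun x => ⟨(default : Spec (CommRingCat.of K)), Subsingleton.elim (α := PrimeSpectrum k) _ _⟩⟩

/-- The algebraic closure of a separably closed field gives a universal homeomorphism. -/
theorem universallyInjective_algClosure (k L : Type u) [Field k] [IsSepClosed k] [Field L] [Algebra k L]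
    [Algebra.IsAlgebraic k L] : UniversallyInjective (Spec.map (CommRingCat.ofHom (algebraMap k L))) := by
  refine ((tfae_universallyInjective _).out 0 1).2 ?_
  intro K iK g₁ g₂ hg
  letI : Field K := iK
  obtain ⟨φ₁, rfl⟩ := Spec.map_surjective g₁
  obtain ⟨φ₂, rfl⟩ := Spec.map_surjective g₂
  simp only [← Spec.map_comp] at hg
  refine congrArg Spec.map (CommRingCat.hom_ext ?_)
  refine IsPurelyInseparable.injective_comp_algebraMap k L K ?_
  exact congrArg CommRingCat.Hom.hom (Spec.map_injective hg)

theorem bijective_Hpull_algClosure {k L : Type u} [Field k] [IsSepClosed k] [Field L] [Algebra k L]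
    [Algebra.IsAlgebraic k L] {X P : Scheme.{u}} {p : X ⟶ Spec (CommRingCat.of k)} {a : P ⟶ X}
    {b : P ⟶ Spec (CommRingCat.of L)} (c : IsPullback a b p (Spec.map (CommRingCat.ofHom (algebraMap k L))))
    (G : EtCoh.Ab X) (q : ℕ) : Function.Bijective (EtCore.Hpull a G q) := by
  haveI := universallyInjective_algClosure k L
  haveI := surjective_spec_field k L (algebraMap k L)
  haveI : IsIntegralHom (Spec.map (CommRingCat.ofHom (algebraMap k L))) :=
    (HasAffineProperty.iff_of_isAffine (P := @IsIntegralHom)).2 ⟨inferInstance, by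
      exact (RingHom.isIntegral_respectsIso.arrow_mk_iso_iff (Arrow.isoMk (Scheme.ΓSpecIso _) (Scheme.ΓSpecIso _)
        (Scheme.ΓSpecIso_naturality _).symm)).2 (algebraMap_isIntegral_iff.2 inferInstance)⟩
  haveI : IsIntegralHom a := MorphismProperty.of_isPullback (P := @IsIntegralHom) c.flip ‹_›
  haveI : UniversallyInjective a := MorphismProperty.of_isPullback (P := @UniversallyInjective) c.flip ‹_›
  haveI : Surjective a := MorphismProperty.of_isPullback (P := @Surjective) c.flip ‹_›
  exact S0642.result a G q

/-- Pullback along an extension of separably closed fields is bijective, given the key property. -/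
theorem bijective_Hpull_sepClosed {k K : Type u} [Field k] [IsSepClosed k] [Field K] [IsSepClosed K]
    (φ : k →+* K) {X : Scheme.{u}} (p : X ⟶ Spec (CommRingCat.of k)) [IsProper p] (hK : Key p)
    (G : EtCoh.Ab X) (hG : EtCoh.IsTorsion G) (q : ℕ) :
    Function.Bijective (EtCore.Hpull (pullback.fst p (Spec.map (CommRingCat.ofHom φ))) G q) := by
  let k' := AlgebraicClosure k
  let K' := AlgebraicClosure K
  let ι : K →+* K' := algebraMap K K'
  letI : Algebra k K' := (ι.comp φ).toAlgebra
  let ψ : k' →ₐ[k] K' := IsAlgClosed.lift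
  letI : Algebra k' K' := ψ.toRingHom.toAlgebra
  let a1 := pullback.fst p (Spec.map (CommRingCat.ofHom (algebraMap k k')))
  let p1 := pullback.snd p (Spec.map (CommRingCat.ofHom (algebraMap k k')))
  have h1 := bijective_Hpull_algClosure (IsPullback.of_hasPullback p _) (a := a1) G q
  have hK1 : Key p1 := hK.baseChange (IsPullback.of_hasPullback p _)
  let sψ := Spec.map (CommRingCat.ofHom (algebraMap k' K'))
  let a2 := pullback.fst p1 sψ
  haveI : CompactSpace ↥(pullback p (Spec.map (CommRingCat.ofHom (algebraMap k k')))) :=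
    QuasiCompact.compactSpace_of_compactSpace p1
  haveI : QuasiSeparatedSpace ↥(pullback p (Spec.map (CommRingCat.ofHom (algebraMap k k')))) :=
    quasiSeparatedSpace_of_quasiSeparated p1
  haveI := surjective_spec_field k' K' (algebraMap k' K')
  haveI : Surjective a2 := inferInstanceAs (Surjective (pullback.fst p1 sψ))
  have h2 : Function.Bijective (EtCore.Hpull a2 ((EtCoh.pull a1).obj G) q) :=
    bijective_Hpull_of_surjective a2 (fun F hF r => surjective_Hpull_fieldExt k' K' p1 hK1 F hF r) q _
      (H9Transfer.isTorsion_pull a1 G hG)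
  let g := pullback.fst p (Spec.map (CommRingCat.ofHom φ))
  have w : a2 ≫ a1 ≫ p = (pullback.snd p1 sψ ≫ Spec.map (CommRingCat.ofHom ι)) ≫ Spec.map (CommRingCat.ofHom φ) := by
    show pullback.fst p1 sψ ≫ pullback.fst p _ ≫ p = _
    rw [pullback.condition, ← Category.assoc, pullback.condition, Category.assoc, Category.assoc, ← Spec.map_comp,
      ← Spec.map_comp]
    exact congrArg (fun f => pullback.snd p1 sψ ≫ Spec.map (CommRingCat.ofHom f)) ψ.comp_algebraMap
  let e : pullback p1 sψ ⟶ pullback p (Spec.map (CommRingCat.ofHom φ)) :=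
    pullback.lift (a2 ≫ a1) (pullback.snd p1 sψ ≫ Spec.map (CommRingCat.ofHom ι)) (by rw [Category.assoc]; exact w)
  have he : e ≫ g = a2 ≫ a1 := pullback.lift_fst _ _ _
  have big : IsPullback (e ≫ g) (pullback.snd p1 sψ) p
      (Spec.map (CommRingCat.ofHom ι) ≫ Spec.map (CommRingCat.ofHom φ)) := by
    rw [he, show Spec.map (CommRingCat.ofHom ι) ≫ Spec.map (CommRingCat.ofHom φ) =
      sψ ≫ Spec.map (CommRingCat.ofHom (algebraMap k k')) by
        rw [← Spec.map_comp, ← Spec.map_comp]
        exact congrArg (fun f => Spec.map (CommRingCat.ofHom f)) ψ.comp_algebraMap.symm]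
    exact (IsPullback.of_hasPullback p1 sψ).paste_horiz (IsPullback.of_hasPullback p _)
  have ce : IsPullback e (pullback.snd p1 sψ) (pullback.snd p (Spec.map (CommRingCat.ofHom φ)))
      (Spec.map (CommRingCat.ofHom ι)) := IsPullback.of_right big (pullback.lift_snd _ _ _) (IsPullback.of_hasPullback p _)
  have h3 : Function.Bijective (EtCore.Hpull e ((EtCoh.pull g).obj G) q) :=
    bijective_Hpull_algClosure ce _ q
  have h4 : Function.Bijective (EtCore.Hpull (a2 ≫ a1) G q) :=
    ((EtAcycLib.bijective_Hpull_comp_iff a2 a1 _ rfl G q).1).2 (h2.comp h1)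
  exact (Function.Bijective.of_comp_iff' h3 _).1
    (((EtAcycLib.bijective_Hpull_comp_iff e g _ he G q).1).1 h4)

end Groth.Agent.PBCThm
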