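import Groth.Agent.PBCThm.Proper
import Groth.Agent.PBCThm.SepClosed
import Groth.Agent.BcQCalc.Criterion
import Groth.Agent.RpushStalk.Transfer
import Groth.Prelude.Def_PBC

/-!
# Proper base change: the base change maps are isomorphisms
-/

set_option autoImplicit false
set_option linter.style.haveILetI false
set_option linter.unusedSectionVars false
set_option backward.isDefEq.respectTransparency false
set_option backward.isDefEq.respectTransparency.types false

universe u

open CategoryTheory CategoryTheory.Limits AlgebraicGeometry Opposite Abelian IsLocalRing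

namespace Groth.Agent.PBCThm

open ClosedAffAcyc

attribute [local instance] EtFound.pull_preservesFiniteLimits

/-- Pullback along a base change of separably closed fields of a proper scheme, for any presentation. -/
theorem bijective_Hpull_sepClosed' {k K : Type u} [Field k] [IsSepClosed k] [Field K] [IsSepClosed K]
    (φ : k →+* K) {X P : Scheme.{u}} {p : X ⟶ Spec (CommRingCat.of k)} [IsProper p] {a : P ⟶ X}
    {b : P ⟶ Spec (CommRingCat.of K)} (c : IsPullback a b p (Spec.map (CommRingCat.ofHom φ)))
    (G : EtCoh.Ab X) (hG : EtCoh.IsTorsion G) (q : ℕ) : Function.Bijective (EtCore.Hpull a G q) :=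
  ((EtAcycLib.bijective_Hpull_comp_iff c.isoPullback.hom (pullback.fst p (Spec.map (CommRingCat.ofHom φ))) a
    c.isoPullback_hom_fst G q).1).2
    ((EtAcycLib.bijective_Hpull_of_isIso c.isoPullback.hom _ q).comp
      (bijective_Hpull_sepClosed φ p (key_of_proper p) G hG q))

/-- Pullback between proper schemes over henselian local rings with separably closed residue fields. -/
theorem bijective_Hpull_henselian {RS RX : Type u} [CommRing RS] [HenselianLocalRing RS] [CommRing RX]
    [HenselianLocalRing RX] [IsSepClosed (ResidueField RS)] [IsSepClosed (ResidueField RX)]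
    (ψ : RS →+* RX) [IsLocalHom ψ] {PS PX : Scheme.{u}} (bS : PS ⟶ Spec (CommRingCat.of RS)) [IsProper bS]
    (bX : PX ⟶ Spec (CommRingCat.of RX)) (m : PX ⟶ PS)
    (c : IsPullback m bX bS (Spec.map (CommRingCat.ofHom ψ))) (G : EtCoh.Ab PS) (hG : EtCoh.IsTorsion G)
    (q : ℕ) : Function.Bijective (EtCore.Hpull m G q) := by
  haveI : IsProper bX := MorphismProperty.of_isPullback (P := @IsProper) c ‹_›
  let rS := Spec.map (CommRingCat.ofHom (residue RS))
  let rX := Spec.map (CommRingCat.ofHom (residue RX))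
  let iS : pullback bS rS ⟶ PS := closedIncl bS
  let iX : pullback bX rX ⟶ PX := closedIncl bX
  let sψ := Spec.map (CommRingCat.ofHom (ResidueField.map ψ))
  let m0 : pullback bX rX ⟶ pullback bS rS := pullback.lift (iX ≫ m) (pullback.snd bX rX ≫ sψ) (by
    rw [Category.assoc, c.w]
    show pullback.fst bX rX ≫ bX ≫ _ = _
    rw [pullback.condition_assoc, Category.assoc, BcQCalc.residue_square])
  have h0 : m0 ≫ iS = iX ≫ m := pullback.lift_fst _ _ _
  have big : IsPullback (m0 ≫ iS) (pullback.snd bX rX) bS (sψ ≫ rS) := by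
    rw [h0, show sψ ≫ rS = rX ≫ Spec.map (CommRingCat.ofHom ψ) from BcQCalc.residue_square ψ]
    exact (IsPullback.of_hasPullback bX rX).paste_horiz c
  have c0 : IsPullback m0 (pullback.snd bX rX) (pullback.snd bS rS) sψ :=
    IsPullback.of_right big (pullback.lift_snd _ _ _) (IsPullback.of_hasPullback bS rS)
  haveI : IsProper (pullback.snd bS rS) := inferInstance
  have h1 : Function.Bijective (EtCore.Hpull (m0 ≫ iS) G q) :=
    ((EtAcycLib.bijective_Hpull_comp_iff m0 iS _ rfl G q).1).2
      ((bijective_Hpull_sepClosed' (ResidueField.map ψ) c0 _ (H9Transfer.isTorsion_pull iS G hG) q).comp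
        (key_of_proper bS RS (𝟙 _) PS (𝟙 PS) bS IsPullback.of_id_fst G hG q))
  have h2 : Function.Bijective (EtCore.Hpull iX ((EtCoh.pull m).obj G) q) :=
    key_of_proper bX RX (𝟙 _) PX (𝟙 PX) bX IsPullback.of_id_fst _ (H9Transfer.isTorsion_pull m G hG) q
  exact (Function.Bijective.of_comp_iff' h2 _).1
    (((EtAcycLib.bijective_Hpull_comp_iff iX m _ h0.symm G q).1).1 h1)

/-- Proper base change: the canonical base change maps are isomorphisms. -/
theorem isIso_bcQ {X Y X' Y' : Scheme.{u}} {f : X ⟶ Y} {g : Y' ⟶ Y} {f' : X' ⟶ Y'} {g' : X' ⟶ X}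
    (h : IsPullback g' f' f g) [IsProper f] [PreservesFiniteLimits (EtCoh.pull g')] (F : EtCoh.Ab X)
    (hF : EtCoh.IsTorsion F) (q : ℕ) : IsIso (EtBC.bcQ f g f' g' h.w q F) := by
  refine (BcQCalc.isIso_bcQ_iff_strict g f f' g' h F q).1 ?_
  intro x RS _ _ _ _ _ RX _ _ _ _ _ ψ _ hψ PS PX aS bS cS aX bX cX m w hm _
  haveI : HenselianLocalRing RS :=
    _root_.Hensel.IsStrictHenselization.henselian (R := Y.presheaf.stalk (g.base x))
  haveI : HenselianLocalRing RX := _root_.Hensel.IsStrictHenselization.henselian (R := Y'.presheaf.stalk x)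
  haveI : IsSepClosed (ResidueField RS) := BcQCalc.isSepClosed_residueField_of_strict (Y.presheaf.stalk (g.base x)) RS
  haveI : IsSepClosed (ResidueField RX) := BcQCalc.isSepClosed_residueField_of_strict (Y'.presheaf.stalk x) RX
  haveI : IsProper bS := MorphismProperty.of_isPullback (P := @IsProper) cS ‹_›
  have c : IsPullback m bX bS (Spec.map (CommRingCat.ofHom ψ)) := by
    refine IsPullback.of_right ?_ hm cS
    rw [w, BcQCalc.specMap_psi g x RS RX ψ hψ]
    exact cX
  exact (bijective_via_iff F m aS aX w q).2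
    (bijective_Hpull_henselian ψ bS bX m c _ (H9Transfer.isTorsion_pull aS F hF) q)

end Groth.Agent.PBCThm

namespace Groth.Agent.PBCThm

open ClosedAffAcyc

attribute [local instance] EtFound.pull_preservesFiniteLimits

/-- Proper base change for the stalk: cohomology of the geometric fibre. -/
theorem nonempty_stalk_Rpush {X Y : Scheme.{u}} (f : X ⟶ Y) [IsProper f] {Ω : Type u} [Field Ω] [IsSepClosed Ω]
    (ξ : Spec (CommRingCat.of Ω) ⟶ Y) (F : EtCoh.Ab X) (hF : EtCoh.IsTorsion F) (n : ℕ) :
    Nonempty ((EtCoh.stalk ξ).obj ((EtCoh.Rpush f n).obj F) ≅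
      AddCommGrpCat.of (EtCoh.H (pullback f ξ) ((EtCoh.pull (pullback.fst f ξ)).obj F) n)) := by
  let y := ξ (closedPoint Ω)
  obtain ⟨R, _, _, _, _, hR⟩ := BcQCalc.exists_strictHens (Y.presheaf.stalk y)
  haveI := hR
  haveI : HenselianLocalRing R := _root_.Hensel.IsStrictHenselization.henselian (R := Y.presheaf.stalk y)
  haveI : IsSepClosed (ResidueField R) := BcQCalc.isSepClosed_residueField_of_strict (Y.presheaf.stalk y) R
  obtain ⟨D⟩ := RpushStalk.exists_model Y y R
  obtain ⟨l, hl⟩ := BcQCalc.exists_fac_geomPt ξ R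
  obtain ⟨l₀, rfl⟩ := Spec.map_surjective l
  let φ : ResidueField R →+* Ω := l₀.hom
  let h := Hens2.specOf Y y R
  let rR := Spec.map (CommRingCat.ofHom (residue R))
  let a := pullback.fst f h
  let p := pullback.snd f h
  let i : pullback p rR ⟶ pullback f h := closedIncl p
  have hl' : Spec.map (CommRingCat.ofHom φ) ≫ rR ≫ h = ξ := hl
  let m : pullback f ξ ⟶ pullback p rR := pullback.lift
    (pullback.lift (pullback.fst f ξ) ((pullback.snd f ξ ≫ Spec.map (CommRingCat.ofHom φ)) ≫ rR)
      (by rw [pullback.condition, ← hl']; simp only [Category.assoc]))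
    (pullback.snd f ξ ≫ Spec.map (CommRingCat.ofHom φ)) (pullback.lift_snd _ _ _)
  have hm : m ≫ i ≫ a = pullback.fst f ξ := by
    show m ≫ pullback.fst p rR ≫ a = _
    rw [← Category.assoc, pullback.lift_fst, pullback.lift_fst]
  haveI : IsProper p := inferInstance
  haveI : IsProper (pullback.snd p rR) := inferInstance
  have c : IsPullback m (pullback.snd f ξ) (pullback.snd p rR) (Spec.map (CommRingCat.ofHom φ)) := by
    refine IsPullback.of_right ?_ (pullback.lift_snd _ _ _)
      ((IsPullback.of_hasPullback p rR).paste_horiz (IsPullback.of_hasPullback f h))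
    rw [show m ≫ pullback.fst p rR ≫ a = pullback.fst f ξ from hm, hl']
    exact IsPullback.of_hasPullback f ξ
  let G := (EtCoh.pull a).obj F
  have hG : EtCoh.IsTorsion G := H9Transfer.isTorsion_pull a F hF
  have h1 : Function.Bijective (EtCore.Hpull i G n) :=
    key_of_proper p R (𝟙 _) _ (𝟙 _) p IsPullback.of_id_fst G hG n
  have h2 : Function.Bijective (EtCore.Hpull m ((EtCoh.pull i).obj G) n) :=
    bijective_Hpull_sepClosed' φ c _ (H9Transfer.isTorsion_pull i G hG) n
  let e₁ := (EtCore.pullComp m i).symm.app G ≪≫ (EtCore.pullComp (m ≫ i) a).symm.app F ≪≫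
    (EtCore.pullCongr ((Category.assoc m i a).trans hm)).app F
  obtain ⟨η⟩ := RpushStalk.nonempty_iso_pullback f D n
  refine ⟨(((EtFound.stalkExtIso AddCommGrpCat.{u + 1} (Hens2.geomPt Y y R) (Spec.map l₀)).app _) ≪≫
      eqToIso (by rw [hl])).symm ≪≫ η.app F ≪≫
    AddEquiv.toAddCommGrpIso ((AddEquiv.ofBijective (EtCore.Hpull i G n) h1).trans
      ((AddEquiv.ofBijective (EtCore.Hpull m ((EtCoh.pull i).obj G) n) h2).trans
        (AddEquiv.ofBijective (AddMonoidHom.mk' (fun x => x.comp (Ext.mk₀ e₁.hom) (add_zero n))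
          fun x y => Ext.add_comp _ _ _ _) (EtAcycLib.bijective_comp_mk₀ e₁))))⟩

/-- Cohomology commutes with base change for proper morphisms. -/
theorem cohCommutesWithBC {X Y : Scheme.{u}} (f : X ⟶ Y) [IsProper f] [EtCoh.BCCont f] :
    EtPBC.CohCommutesWithBC f := by
  intro X' Y' f' g' g _ _ _ h F hF q
  haveI := EtFound.pull_preservesFiniteLimits g'
  haveI := isIso_bcQ h F hF q
  exact ⟨asIso (EtBC.bcQ f g f' g' h.w q F)⟩

end Groth.Agent.PBCThm
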