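import Groth.Agent.PBCThm.DerBC
import Groth.Agent.PBCThm.Top
import Groth.Agent.RpushCop.Exact
import Groth.Agent.S3389

/-!
# Cohomological amplitude of derived direct images by proper morphisms
-/

set_option autoImplicit false
set_option linter.style.haveILetI false
set_option linter.unusedSectionVars false
set_option backward.isDefEq.respectTransparency false
set_option backward.isDefEq.respectTransparency.types false

universe v' v u' u

open CategoryTheory CategoryTheory.Limits AlgebraicGeometry Opposite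

attribute [local instance] HasDerivedCategory.standard

namespace Groth.Agent.PBCThm

open EtBCD5

section abstract

variable {A : Type u} [Category.{v} A] [Abelian A] [EnoughInjectives A] {B : Type u'} [Category.{v'} B]
  [Abelian B] (F : A ⥤ B) [F.Additive]

/-- The short exact sequence of cycles in a degree where the complex is exact. -/
theorem shortExact_cycles (T : CochainComplex A ℤ) (a b : ℤ) (h : a + 1 = b) (hb : T.ExactAt b) :
    ∃ S : ShortComplex A, S.ShortExact ∧ S.X₁ = kernel (T.d a (a + 1)) ∧ S.X₂ = T.X a ∧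
      S.X₃ = kernel (T.d b (b + 1)) := by
  subst h
  let S : ShortComplex A := ShortComplex.mk (kernel.ι (T.d a (a + 1)))
    (kernel.lift (T.d (a + 1) (a + 1 + 1)) (T.d a (a + 1)) (T.d_comp_d _ _ _))
    ((cancel_mono (kernel.ι _)).1 (by rw [Category.assoc, kernel.lift_ι, kernel.condition, zero_comp]))
  haveI : Mono S.f := inferInstanceAs (Mono (kernel.ι _))
  haveI : Epi S.g := (ShortComplex.exact_iff_epi_kernel_lift _).1
    ((T.exactAt_iff' a (a + 1) (a + 1 + 1) (by simp) (by simp)).1 hb)
  refine ⟨S, { exact := ShortComplex.exact_of_f_is_kernel _ (KernelFork.IsLimit.ofι' _ _ fun {W} k hk => ?_) },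
    rfl, rfl, rfl⟩
  refine ⟨kernel.lift _ k ?_, kernel.lift_ι _ _ _⟩
  rw [← kernel.lift_ι (T.d (a + 1) (a + 1 + 1)) (T.d a (a + 1)) (T.d_comp_d _ _ _), ← Category.assoc]
  exact (congrArg (· ≫ _) hk).trans zero_comp

variable [PreservesFiniteLimits F]

/-- Complexes of acyclic objects: the cohomology of the image vanishes beyond amplitude plus dimension. -/
theorem isZero_homology_map (T : CochainComplex A ℤ) (hT : ∀ m, TriCat.IsRightAcyclic F (T.X m)) (N : ℕ) (b : ℤ)
    (hex : ∀ m, b < m → T.ExactAt m)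
    (hcd : ∀ m q, N < q → IsZero ((F.rightDerived q).obj (kernel (T.d m (m + 1))))) (i : ℤ) (hi : b + N < i) :
    IsZero (((F.mapHomologicalComplex (ComplexShape.up ℤ)).obj T).homology i) := by
  letI := HasDerivedCategory.standard A
  letI := HasDerivedCategory.standard B
  have key : ∀ (j q : ℕ) (m : ℤ), 0 < q → b + j ≤ m → N < q + j →
      IsZero ((F.rightDerived q).obj (kernel (T.d m (m + 1)))) := by
    intro j
    induction j with
    | zero => exact fun q m _ _ h => hcd m q h
    | succ j ih =>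
      intro q m hq hm h
      obtain ⟨S, hS, h1, h2, h3⟩ := shortExact_cycles T (m - 1) m (by omega) (hex m (by omega))
      obtain ⟨δ, w₁, w₂, w₃, -, h₂, -⟩ := TriCat.exists_rightDerived_ses F hS q
      have z2 : IsZero ((F.rightDerived q).obj S.X₂) := by rw [h2]; exact hT (m - 1) q hq
      have z1 : IsZero ((F.rightDerived (q + 1)).obj S.X₁) := by
        rw [h1]; exact ih (q + 1) (m - 1) q.succ_pos (by omega) (by omega)
      rw [← h3]
      exact h₂.isZero_of_both_zeros (z2.eq_of_src _ _) (z1.eq_of_tgt _ _)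
  rw [← HomologicalComplex.exactAt_iff_isZero_homology,
    HomologicalComplex.exactAt_iff' _ (i - 1) i (i + 1) (by simp) (by simp), ShortComplex.exact_iff_epi_kernel_lift]
  let K := kernel (T.d i (i + 1))
  let p : T.X (i - 1) ⟶ K := kernel.lift (T.d i (i + 1)) (T.d (i - 1) i) (T.d_comp_d _ _ _)
  haveI : Epi p := (ShortComplex.exact_iff_epi_kernel_lift _).1
    ((T.exactAt_iff' (i - 1) i (i + 1) (by simp) (by simp)).1 (hex i (by omega)))
  let S : ShortComplex A := ShortComplex.mk (kernel.ι p) p (kernel.condition _)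
  have hS : S.ShortExact :=
    { exact := ShortComplex.exact_of_f_is_kernel _ (kernelIsKernel p)
      mono_f := inferInstanceAs (Mono (kernel.ι p))
      epi_g := inferInstanceAs (Epi p) }
  have e : kernel p ≅ kernel (T.d (i - 1) (i - 1 + 1)) :=
    (kernelCompMono p (kernel.ι _)).symm ≪≫
      kernelIsoOfEq (by rw [kernel.lift_ι]) ≪≫ eqToIso (by rw [show i - 1 + 1 = i by omega])
  have z : IsZero ((F.rightDerived 1).obj S.X₁) :=
    IsZero.of_iso (key N 1 (i - 1) Nat.one_pos (by omega) (by omega)) ((F.rightDerived 1).mapIso e)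
  haveI : Epi (F.map p) := (TriCat.shortExact_map_of_subsingleton hS z).epi_g
  let c : F.obj K ⟶ kernel (F.map (T.d i (i + 1))) := kernelComparison (T.d i (i + 1)) F
  haveI : IsIso c := inferInstanceAs (IsIso (kernelComparison _ F))
  have he : F.map p ≫ c = kernel.lift (F.map (T.d i (i + 1))) (F.map (T.d (i - 1) i))
      (by rw [← F.map_comp, T.d_comp_d, F.map_zero]) := by
    rw [← cancel_mono (kernel.ι (F.map (T.d i (i + 1)))), Category.assoc, kernelComparison_comp_ι, kernel.lift_ι,
      ← F.map_comp, kernel.lift_ι]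
  haveI : Epi (F.map p ≫ c) := inferInstance
  exact he ▸ this

end abstract

variable {X Y : Scheme.{u}} (f : X ⟶ Y)

/-- Derived direct images are computed by K-injective complexes. -/
theorem nonempty_RpushEt_iso [DCoh.HasRpushEt X f] {K : DCoh.DEt X} (I : Cx X) [I.IsKInjective]
    (e : K ≅ DerivedCategory.Qh.obj (qH I)) :
    Nonempty ((DCoh.RpushEt X f).obj K ≅ DerivedCategory.Q.obj ((pushC f).obj I)) := by
  haveI := isIso_rUnit f I
  exact ⟨(DCoh.RpushEt X f).mapIso e ≪≫ (asIso (rUnit f (qH I))).symm ≪≫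
    (DerivedCategory.quotientCompQhIso _).app ((pushC f).obj I)⟩

/-- Kernels of torsion complexes are torsion, and torsion parts give a model of the derived direct image. -/
theorem exists_torsion_model [IsProper f] [DCoh.HasRpushEt X f] (K : DCoh.DEt X) (n : ℤ) [K.IsGE n]
    (hK : ∀ i : ℤ, EtCoh.IsTorsion (DCoh.HDEt K i)) :
    ∃ T : Cx X, T.IsStrictlyGE n ∧ (∀ m, EtCoh.IsTorsion (T.X m)) ∧
      (∀ m, TriCat.IsRightAcyclic (EtCoh.push f) (T.X m)) ∧
      Nonempty (K ≅ DerivedCategory.Q.obj T) ∧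
      Nonempty ((DCoh.RpushEt X f).obj K ≅ DerivedCategory.Q.obj ((pushC f).obj T)) := by
  haveI : (EtCoh.push f).Additive := (EtCoh.pullPushAdj f).right_adjoint_additive
  obtain ⟨L, hL, ⟨eL⟩⟩ := DerivedCategory.exists_iso_Q_obj_of_isGE K n
  obtain ⟨I, r, hI1, hI2, -, hr⟩ := TriCat.exists_quasiIso_resolution (fun A : EtCoh.Ab X => Injective A)
    ⟨_, isZero_zero _, IsZero.injective (isZero_zero _)⟩
    (fun A => ⟨Injective.under A, Injective.ι A, inferInstance, inferInstance⟩) L n
  haveI : I.IsKInjective := CochainComplex.isKInjective_of_injective I n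
  haveI : IsIso (DerivedCategory.Q.map r) := (DerivedCategory.isIso_Q_map_iff_quasiIso (φ := r)).2 hr
  have hI : ∀ m, EtCoh.IsTorsion (I.homology m) := fun m =>
    isTorsion_of_iso ((DerivedCategory.homologyFunctor (EtCoh.Ab X) m).mapIso
      (eL ≪≫ asIso (DerivedCategory.Q.map r)) ≪≫
      (DerivedCategory.homologyFunctorFactors (EtCoh.Ab X) m).app I) (hK m)
  let T := torC I
  let a : T ⟶ I := torCι I
  haveI : QuasiIso a := quasiIso_torCι I hI
  haveI : IsIso (DerivedCategory.Q.map a) := (DerivedCategory.isIso_Q_map_iff_quasiIso (φ := a)).2 ‹_›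
  haveI hTn : T.IsStrictlyGE n := by
    rw [CochainComplex.isStrictlyGE_iff]
    exact fun i hi => Tor.map_isZero (I.isZero_of_isStrictlyGE n i hi)
  have hTor : ∀ m, EtCoh.IsTorsion (T.X m) := fun m => by
    rw [H9Transfer.isTorsion_iff_stalks]
    exact fun Ω _ _ ξ t => isOfFinAddOrder_stalk_torι ξ (I.X m) t
  have hacy : ∀ m, TriCat.IsRightAcyclic (EtCoh.push f) (T.X m) := fun m q hq =>
    IsZero.of_iso (isRightAcyclic_Tor_pull (IsPullback.of_horiz_isIso
        (⟨(Category.id_comp f).trans (Category.comp_id f).symm⟩ : CommSq (𝟙 X) f f (𝟙 Y))) (I.X m) q hq)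
      ((EtCoh.Rpush f q).mapIso ((EtDescSplit.pullId X).app (Tor.obj (I.X m))).symm)
  haveI : QuasiIso ((pushC f).map a) :=
    TriCat.quasiIso_map_of_adapted (isAdapted_acyclic f) a (fun m => mono_torι (I.X m)) n hacy
      (fun m => TriCat.isRightAcyclic_of_injective _)
  haveI : IsIso (DerivedCategory.Q.map ((pushC f).map a)) :=
    (DerivedCategory.isIso_Q_map_iff_quasiIso (φ := (pushC f).map a)).2 ‹_›
  let e : K ≅ DerivedCategory.Q.obj I := eL ≪≫ asIso (DerivedCategory.Q.map r)
  obtain ⟨e'⟩ := nonempty_RpushEt_iso f I (e ≪≫ ((DerivedCategory.quotientCompQhIso _).app I).symm)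
  exact ⟨T, hTn, hTor, hacy, ⟨e ≪≫ (asIso (DerivedCategory.Q.map a)).symm⟩,
    ⟨e' ≪≫ (asIso (DerivedCategory.Q.map ((pushC f).map a))).symm⟩⟩

/-- The derived direct image by a proper morphism has bounded amplitude on torsion objects. -/
theorem isZero_HDEt_RpushEt [IsProper f] [DCoh.HasRpushEt X f] {N : ℕ}
    (hdim : ∀ y : Y, topologicalKrullDim (f.fiber y) ≤ N) (K : DCoh.DEt X)
    (hK : ∀ i : ℤ, EtCoh.IsTorsion (DCoh.HDEt K i)) (a b : ℤ)
    (hab : ∀ i, i < a ∨ b < i → IsZero (DCoh.HDEt K i)) (i : ℤ) (hi : i < a ∨ b + (2 * N + 1 : ℕ) < i) :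
    IsZero (DCoh.HDEt ((DCoh.RpushEt X f).obj K) i) := by
  haveI : K.IsGE a := (DerivedCategory.isGE_iff _ _).2 fun j hj => hab j (Or.inl hj)
  obtain ⟨T, hT1, hT2, hT3, ⟨e⟩, ⟨e'⟩⟩ := exists_torsion_model f K a hK
  haveI := EtFound.push_preservesFiniteLimits f
  haveI : (EtCoh.push f).Additive := (EtCoh.pullPushAdj f).right_adjoint_additive
  refine IsZero.of_iso ?_ ((DerivedCategory.homologyFunctor (EtCoh.Ab Y) i).mapIso e' ≪≫
    (DerivedCategory.homologyFunctorFactors (EtCoh.Ab Y) i).app _)
  rcases hi with hi | hi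
  · exact (HomologicalComplex.exactAt_iff_isZero_homology _ _).1 (HomologicalComplex.ExactAt.of_isZero
      ((EtCoh.push f).map_isZero (T.isZero_of_isStrictlyGE a i hi)))
  · refine isZero_homology_map (EtCoh.push f) T hT3 (2 * N) b (fun m hm => ?_) (fun m q hq => ?_) i (by omega)
    · rw [HomologicalComplex.exactAt_iff_isZero_homology]
      exact IsZero.of_iso (hab m (Or.inr hm)) ((DerivedCategory.homologyFunctor (EtCoh.Ab X) m).mapIso e ≪≫
        (DerivedCategory.homologyFunctorFactors (EtCoh.Ab X) m).app T).symm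
    · exact isZero_Rpush_above f hdim _ (isTorsion_of_mono (kernel.ι _) (hT2 m)) q hq

/-- Cohomology sheaves commute with extension by zero on derived categories. -/
theorem nonempty_HDEt_extZeroD {U P : Scheme.{u}} (j : U ⟶ P) [Etale j] [EtShriek.JCont j]
    [PreservesFiniteLimits (EtShriek.extZero j)] (E : DCoh.DEt U) (i : ℤ) :
    Nonempty (DCoh.HDEt ((DEt.extZeroD j).obj E) i ≅ (EtShriek.extZero j).obj (DCoh.HDEt E i)) := by
  let L := DerivedCategory.Q.objPreimage E
  let e := DerivedCategory.Q.objObjPreimageIso E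
  exact ⟨(DerivedCategory.homologyFunctor _ i).mapIso ((DEt.extZeroD j).mapIso e.symm ≪≫
      (EtShriek.extZero j).mapDerivedCategoryFactors.app L) ≪≫
    (DerivedCategory.homologyFunctorFactors _ i).app _ ≪≫
    ((L.sc i).mapHomologyIso (EtShriek.extZero j)) ≪≫
    (EtShriek.extZero j).mapIso (((DerivedCategory.homologyFunctorFactors _ i).app L).symm ≪≫
      (DerivedCategory.homologyFunctor _ i).mapIso e)⟩

end Groth.Agent.PBCThm
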