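import Groth.Agent.PBCThm.BC
import Groth.Agent.FieldCd.FiniteType
import Groth.Agent.CurveCd.TorsionField
import Groth.Agent.EtCdp5.Proper
import Groth.Agent.EtCdDev.Main
import Groth.Agent.FibDim.BaseField
import Groth.Agent.FibDim.BaseChange
import Groth.Agent.FibDim.Comp

/-!
# Vanishing of higher direct images of proper morphisms in high degrees
-/

set_option autoImplicit false
set_option linter.style.haveILetI false
set_option linter.unusedSectionVars false
set_option backward.isDefEq.respectTransparency false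
set_option backward.isDefEq.respectTransparency.types false

universe u

open CategoryTheory CategoryTheory.Limits AlgebraicGeometry Opposite Abelian IsLocalRing

namespace Groth.Agent.PBCThm

attribute [local instance] EtFound.pull_preservesFiniteLimits

/-- Geometric fibres are no bigger than fibres. -/
theorem dim_pullback_le {X Y : Scheme.{u}} (f : X ⟶ Y) [LocallyOfFiniteType f] {n : ℕ}
    (hdim : ∀ y : Y, topologicalKrullDim (f.fiber y) ≤ n) {Ω : Type u} [Field Ω]
    (ξ : Spec (CommRingCat.of Ω) ⟶ Y) : topologicalKrullDim ↥(pullback f ξ) ≤ n := by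
  haveI := FibDim.subsingleton_spec_field Ω
  rw [FibDim.topologicalKrullDim_eq_iSup_rd (pullback.snd f ξ)]
  refine iSup_le fun z => ?_
  have h1 := FibDim.rd_baseChange_le (IsPullback.of_hasPullback f ξ) z
  have h2 := (FibDim.topologicalKrullDim_fiber_le_iff f _ n).1 (hdim _) (pullback.fst f ξ z) rfl
  exact_mod_cast h1.trans h2

/-- Torsion cohomology over a separably closed field vanishes above twice the dimension. -/
theorem subsingleton_H_above_twice {k : Type u} [Field k] [IsSepClosed k] {P : Scheme.{u}}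
    (a : P ⟶ Spec (CommRingCat.of k)) [LocallyOfFiniteType a] [QuasiCompact a] [QuasiSeparatedSpace P] {n : ℕ}
    (hn : topologicalKrullDim P ≤ n) (F : EtCoh.Ab P) (hF : EtCoh.IsTorsion F) (q : ℕ) (hq : 2 * n < q) :
    Subsingleton (EtCoh.H P F q) := by
  haveI : CompactSpace P := QuasiCompact.compactSpace_of_compactSpace a
  haveI : IsSepClosed (ResidueField k) := EtCdFun.isSepClosed_of_equiv
    (RingEquiv.ofBijective (residue k) ⟨RingHom.injective _, residue_surjective⟩)
  refine CurveCd.subsingleton_H_of_torsion q (fun ℓ hℓ G hG => ?_) F hF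
  exact FieldCd.cd_finite_type a hℓ (e := 0)
    (FieldCd.vanAbove_of_cohDimLEAt (EtCdFun.cohDimLEAt_zero_of_sepClosed k ℓ)) (FieldCd.deg_le_of_dim a hn) G hG q
    (by omega)

/-- Higher direct images of torsion sheaves by proper morphisms vanish above twice the fibre dimension. -/
theorem isZero_Rpush_above {X Y : Scheme.{u}} (f : X ⟶ Y) [IsProper f] {n : ℕ}
    (hdim : ∀ y : Y, topologicalKrullDim (f.fiber y) ≤ n) (F : EtCoh.Ab X) (hF : EtCoh.IsTorsion F) (q : ℕ)
    (hq : 2 * n < q) : IsZero ((EtCoh.Rpush f q).obj F) := by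
  refine (EtFound.isZero_iff_stalks _).2 fun Ω _ _ ξ => ?_
  obtain ⟨e⟩ := nonempty_stalk_Rpush f ξ F hF q
  haveI : IsProper (pullback.snd f ξ) := inferInstance
  haveI : QuasiSeparatedSpace ↥(pullback f ξ) := quasiSeparatedSpace_of_quasiSeparated (pullback.snd f ξ)
  haveI := subsingleton_H_above_twice (pullback.snd f ξ) (dim_pullback_le f hdim ξ) _
    (H9Transfer.isTorsion_pull (pullback.fst f ξ) F hF) q hq
  exact IsZero.of_iso (AddCommGrpCat.isZero_of_subsingleton _) e

/-- In characteristic `p`, higher direct images of `p`-primary sheaves vanish above the fibre dimension. -/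
theorem isZero_Rpush_char {X Y : Scheme.{u}} (f : X ⟶ Y) [IsProper f] {n : ℕ}
    (hdim : ∀ y : Y, topologicalKrullDim (f.fiber y) ≤ n) (p : ℕ) (hp : p.Prime) (hY : (p : Γ(Y, ⊤)) = 0)
    (F : EtCoh.Ab X) (hF : EtAcyc.IsLTorsion {p} F) (q : ℕ) (hq : n < q) :
    IsZero ((EtCoh.Rpush f q).obj F) := by
  haveI : Fact p.Prime := ⟨hp⟩
  have hT : EtCoh.IsTorsion F := GalCd5.isTorsion_of_isLTorsion hp (EtCdDev.isLTorsion_of_singleton hp hF)
  refine (EtFound.isZero_iff_stalks _).2 fun Ω _ _ ξ => ?_
  obtain ⟨e⟩ := nonempty_stalk_Rpush f ξ F hT q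
  haveI : IsProper (pullback.snd f ξ) := inferInstance
  haveI : CharP Ω p := by
    refine (CharP.charP_iff_prime_eq_zero hp).2 ?_
    have h := congrArg (Scheme.ΓSpecIso (CommRingCat.of Ω)).hom (congrArg ξ.appTop hY)
    simpa using h
  haveI := EtCdp5.cdp_le_proper p (pullback.snd f ξ) (dim_pullback_le f hdim ξ) _
    (EtCdDev.isLTorsion_of_singleton hp (EtAcycLib.isLTorsion_pull (pullback.fst f ξ) hF)) q hq
  exact IsZero.of_iso (AddCommGrpCat.isZero_of_subsingleton _) e

end Groth.Agent.PBCThm
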