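import Groth.Agent.PBCThm.Supp
import Groth.Agent.FinEtTrace5.Main
import Groth.Agent.EtCdp5.Main
import Groth.Agent.TopDescent.AcyclicComp
import Groth.Agent.S0071
import Groth.Agent.EtDescSplit.HFunctor

/-!
# Extension by zero and proper direct images
-/

set_option autoImplicit false
set_option linter.style.haveILetI false
set_option linter.unusedSectionVars false
set_option backward.isDefEq.respectTransparency false
set_option backward.isDefEq.respectTransparency.types false

universe u

open CategoryTheory CategoryTheory.Limits AlgebraicGeometry Opposite Abelian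

namespace Groth.Agent.PBCThm

open EtFound

attribute [local instance] EtFound.pull_preservesFiniteLimits

/-- Higher direct images of a direct image by a finite morphism. -/
theorem nonempty_Rpush_push_finite {U W V : Scheme.{u}} (c : U ⟶ W) [IsFinite c] (h : W ⟶ V) (g : U ⟶ V)
    (e : c ≫ h = g) (F : EtCoh.Ab U) (q : ℕ) :
    Nonempty ((EtCoh.Rpush h q).obj ((EtCoh.push c).obj F) ≅ (EtCoh.Rpush g q).obj F) := by
  subst e
  haveI := EtFound.push_preservesFiniteLimits c
  haveI := EtFound.push_preservesFiniteLimits h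
  haveI : (EtCoh.push c).Additive := (EtCoh.pullPushAdj c).right_adjoint_additive
  haveI : (EtCoh.push h).Additive := (EtCoh.pullPushAdj h).right_adjoint_additive
  obtain ⟨e⟩ := TopDescent.nonempty_rightDerived_comp_of_acyclic (EtCoh.push c) (EtCoh.push h)
    (fun I hI i hi => by
      haveI := hI
      haveI : Injective ((EtCoh.push c).obj I) := injective_push c I
      obtain ⟨j, rfl⟩ := Nat.exists_eq_succ_of_ne_zero hi.ne'
      exact (EtCoh.push h).isZero_rightDerived_obj_injective_succ j _)
    q F (fun i hi => S0071.result c F i hi)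
  exact ⟨e.symm ≪≫ (RDer.rightDerivedIso (EtCoh.pushComp h c) q).app F⟩

/-- Proper direct images commute with extensions by zero. -/
theorem nonempty_extZero_Rpush {U V X Y : Scheme.{u}} (j₁ : U ⟶ X) [IsOpenImmersion j₁] [EtShriek.JCont j₁]
    (j₂ : V ⟶ Y) [IsOpenImmersion j₂] [EtShriek.JCont j₂] (g : U ⟶ V) [IsProper g] (f : X ⟶ Y) [IsProper f]
    (w : j₁ ≫ f = g ≫ j₂) (F : EtCoh.Ab U) (hF : EtCoh.IsTorsion F) (q : ℕ) :
    Nonempty ((EtShriek.extZero j₂).obj ((EtCoh.Rpush g q).obj F) ≅
      (EtCoh.Rpush f q).obj ((EtShriek.extZero j₁).obj F)) := by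
  let E := (EtShriek.extZero j₁).obj F
  have hE : EtCoh.IsTorsion E := isTorsion_extZero j₁ F hF
  let G := (EtCoh.Rpush f q).obj E
  -- outside the open the direct image vanishes
  have hout : ∀ (Ω : Type u) [Field Ω] [IsSepClosed Ω] (ξ : Spec (CommRingCat.of Ω) ⟶ Y),
      ξ.base (default : Spec (CommRingCat.of Ω)) ∉ Set.range j₂.base → IsZero ((EtCoh.stalk ξ).obj G) := by
    intro Ω _ _ ξ hξ
    obtain ⟨e⟩ := nonempty_stalk_Rpush f ξ E hE q
    have hz : IsZero ((EtCoh.pull (pullback.fst f ξ)).obj E) := by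
      refine (isZero_iff_stalks _).2 fun K _ _ z => ?_
      refine IsZero.of_iso (isZero_stalk_extZero j₁ _ ?_ F) ((stalkPullIso (pullback.fst f ξ) z).app E)
      rintro ⟨v, hv⟩
      refine hξ ⟨g v, ?_⟩
      rw [← Scheme.Hom.comp_apply, ← w, Scheme.Hom.comp_apply, hv, ← Scheme.Hom.comp_apply, Category.assoc,
        pullback.condition, Scheme.Hom.comp_apply, Scheme.Hom.comp_apply]
      exact congrArg ξ.base (Subsingleton.elim (α := PrimeSpectrum Ω) _ _)
    haveI := EtCdp5.subsingleton_H_of_isZero hz q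
    exact IsZero.of_iso (AddCommGrpCat.isZero_of_subsingleton _) e
  haveI := extZero_iso_of_outside j₂ G hout
  -- over the open
  let W := pullback f j₂
  let k : W ⟶ X := pullback.fst f j₂
  let h : W ⟶ V := pullback.snd f j₂
  let c : U ⟶ W := pullback.lift j₁ g w
  have hck : c ≫ k = j₁ := pullback.lift_fst _ _ _
  have hch : c ≫ h = g := pullback.lift_snd _ _ _
  haveI : IsOpenImmersion k := inferInstanceAs (IsOpenImmersion (pullback.fst f j₂))
  haveI : IsProper h := inferInstanceAs (IsProper (pullback.snd f j₂))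
  haveI : IsOpenImmersion (c ≫ k) := hck.symm ▸ inferInstance
  haveI : IsOpenImmersion c := IsOpenImmersion.of_comp c k
  haveI : IsProper (c ≫ h) := hch.symm ▸ inferInstance
  haveI : IsProper c := IsProper.of_comp c h
  haveI : IsClosedImmersion c := IsClosedImmersion.of_isPreimmersion c c.isClosedMap.isClosed_range
  haveI := EtFound.jCont c
  haveI := EtFound.pull_preservesFiniteLimits k
  have sq : IsPullback c (𝟙 U) k j₁ := by
    haveI : Mono k := inferInstance
    refine IsPullback.of_isLimit' ⟨by rw [hck, Category.id_comp]⟩ (PullbackCone.IsLimit.mk _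
      (fun s => s.snd) (fun s => ?_) (fun s => Category.comp_id _) (fun s m _ hm => by rw [← hm]; exact (Category.comp_id m).symm))
    rw [← cancel_mono k, Category.assoc, hck]
    exact s.condition.symm
  obtain ⟨e1⟩ := nonempty_pull_extZero_iso j₁ k c (𝟙 U) sq
  let e2 : (EtCoh.pull k).obj E ≅ (EtCoh.push c).obj F :=
    (e1.app F).symm ≪≫ (EtShriek.extZero c).mapIso ((EtDescSplit.pullId U).app F) ≪≫
      (FinEtTrace5.shriekPushIso c).app F
  haveI := isIso_bcQ (IsPullback.of_hasPullback f j₂) E hE q
  obtain ⟨e3⟩ := nonempty_Rpush_push_finite c h g hch F q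
  let e4 : (EtShriek.restrAlong j₂).obj G ≅ (EtCoh.Rpush g q).obj F :=
    (EtCdp5.restrPullIso j₂).app G ≪≫ asIso (EtBC.bcQ f j₂ h k pullback.condition q E) ≪≫
      (EtCoh.Rpush h q).mapIso e2 ≪≫ e3
  exact ⟨(EtShriek.extZero j₂).mapIso e4.symm ≪≫ asIso ((EtShriek.extZeroAdj j₂).counit.app G)⟩

end Groth.Agent.PBCThm
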