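import Groth.Agent.QSheaf5.Field
import Groth.Agent.RpushCop.Exact
import Groth.Agent.TriCat.Resolve
import Groth.Agent.TriCat.AcyclicObj
import Groth.Agent.PBCThm.Bounded
import Mathlib.CategoryTheory.Limits.Preserves.Shapes.Products

/-!
# Derived direct images and coproducts of uniformly bounded below objects
-/

set_option autoImplicit false
set_option linter.style.haveILetI false
set_option linter.unusedSectionVars false
set_option backward.isDefEq.respectTransparency false
set_option backward.isDefEq.respectTransparency.types false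
set_option maxHeartbeats 1000000

universe w u

open CategoryTheory CategoryTheory.Limits AlgebraicGeometry Opposite

attribute [local instance] HasDerivedCategory.standard

namespace Groth.Agent.PBCThm

/-- Derived direct images along qcqs morphisms commute with uniformly bounded below coproducts. -/
theorem preservesColimit_RpushEt {X S : Scheme.{u}} (f : X ⟶ S) [QuasiCompact f] [QuasiSeparated f]
    [DCoh.HasRpushEt X f] {ι : Type u} (C : ι → DCoh.DEt X) (a : ℤ)
    (ha : ∀ i, ∀ n : ℤ, n < a → IsZero (DCoh.HDEt (C i) n)) :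
    PreservesColimit (Discrete.functor C) (DCoh.RpushEt X f) := by
  haveI : IsGrothendieckAbelian.{u + 1} (EtCoh.Ab X) := inferInstance
  haveI : IsGrothendieckAbelian.{u + 1} (EtCoh.Ab S) := inferInstance
  haveI := EtFound.push_preservesFiniteLimits f
  haveI : (EtCoh.push f).Additive := (EtCoh.pullPushAdj f).right_adjoint_additive
  let J := ULift.{u + 1} ι
  suffices PreservesColimit (Discrete.functor fun j : J => C j.down) (DCoh.RpushEt X f) by
    let e : Discrete ι ≌ Discrete J := Discrete.equivalence Equiv.ulift.symm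
    haveI : PreservesColimit (e.symm.functor ⋙ Discrete.functor C) (DCoh.RpushEt X f) :=
      preservesColimit_of_iso_diagram (K₁ := Discrete.functor fun j : J => C j.down) _
        (Discrete.natIso fun j => Iso.refl _)
    refine ⟨fun {c} hc => ⟨?_⟩⟩
    exact IsColimit.ofWhiskerEquivalence e.symm
      (isColimitOfPreserves (DCoh.RpushEt X f) (hc.whiskerEquivalence e.symm))
  haveI : HasExactColimitsOfShape (Discrete J) (EtCoh.Ab X) := inferInstance
  haveI : HasExactColimitsOfShape (Discrete J) (EtCoh.Ab S) := inferInstance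
  haveI := TriCat.hasColimitsOfShape_derivedCategory (A := EtCoh.Ab X) (J := J)
  haveI := TriCat.hasColimitsOfShape_derivedCategory (A := EtCoh.Ab S) (J := J)
  haveI := RpushCop.preservesCoproducts_push f J
  let Φ := (EtCoh.push f).mapHomologicalComplex (ComplexShape.up ℤ)
  haveI : PreservesColimitsOfShape (Discrete J) Φ := HomologicalComplex.preservesColimitsOfShape_of_eval _ fun n =>
    inferInstanceAs (PreservesColimitsOfShape (Discrete J) (HomologicalComplex.eval (EtCoh.Ab X) _ n ⋙ EtCoh.push f))
  have hres : ∀ j : J, ∃ I : CochainComplex (EtCoh.Ab X) ℤ, I.IsStrictlyGE a ∧ (∀ n, Injective (I.X n)) ∧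
      Nonempty (DerivedCategory.Q.obj I ≅ C j.down) := fun j => by
    haveI : (C j.down).IsGE a := (DerivedCategory.isGE_iff _ _).2 (ha j.down)
    obtain ⟨L, hL, ⟨eL⟩⟩ := DerivedCategory.exists_iso_Q_obj_of_isGE (C j.down) a
    obtain ⟨I, r, hI1, hI2, -, hr⟩ := TriCat.exists_quasiIso_resolution (fun A : EtCoh.Ab X => Injective A)
      ⟨_, isZero_zero _, IsZero.injective (isZero_zero _)⟩
      (fun A => ⟨Injective.under A, Injective.ι A, inferInstance, inferInstance⟩) L a
    haveI : IsIso (DerivedCategory.Q.map r) := (DerivedCategory.isIso_Q_map_iff_quasiIso (φ := r)).2 hr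
    exact ⟨I, hI1, hI2, ⟨(eL ≪≫ asIso (DerivedCategory.Q.map r)).symm⟩⟩
  choose I hI hIinj eI using hres
  haveI hKI : ∀ j, (I j).IsKInjective := fun j => CochainComplex.isKInjective_of_injective (I j) a
  haveI : (∐ I).IsStrictlyGE a := by
    rw [CochainComplex.isStrictlyGE_iff]
    intro n hn
    refine IsZero.of_iso ?_ (PreservesCoproduct.iso (HomologicalComplex.eval (EtCoh.Ab X) (ComplexShape.up ℤ) n) I)
    exact IsZero.of_iso (isZero_zero _) (IsInitial.ofUniqueHom (fun Z => Sigma.desc fun j => 0)
      (fun Z g => colimit.hom_ext fun ⟨j⟩ => ((I j).isZero_of_isStrictlyGE a n hn).eq_of_src _ _) |>.uniqueUpToIso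
        (HasZeroObject.zeroIsInitial))
  obtain ⟨R, s, hR1, hR2, hsm, hs⟩ := TriCat.exists_quasiIso_resolution (fun A : EtCoh.Ab X => Injective A)
    ⟨_, isZero_zero _, IsZero.injective (isZero_zero _)⟩
    (fun A => ⟨Injective.under A, Injective.ι A, inferInstance, inferInstance⟩) (∐ I) a
  haveI : R.IsKInjective := CochainComplex.isKInjective_of_injective R a
  haveI : QuasiIso (Φ.map s) := TriCat.quasiIso_map_of_adapted (isAdapted_acyclic f) s hsm a
    (fun n => fun q hq => by
      obtain ⟨k, rfl⟩ := Nat.exists_eq_succ_of_ne_zero hq.ne'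
      exact QSheaf5.isZero_Rpush_of_acyc f _ (RpushCop.acyc_of_iso _ _
        (PreservesCoproduct.iso (HomologicalComplex.eval (EtCoh.Ab X) (ComplexShape.up ℤ) n) I).symm
        (RpushCop.acyc_sigma _ fun j => @RpushCop.acyc_of_injective _ ((I j).X n) (hIinj j n))) k)
    (fun n => TriCat.isRightAcyclic_of_injective _)
  let η := RpushCop.unitCx (EtCoh.push f)
  haveI hη : IsIso (η.app (∐ I)) := by
    haveI := RpushCop.isIso_unitCx_kInj (EtCoh.push f) R
    haveI : IsIso (DerivedCategory.Q.map (Φ.map s)) :=
      (DerivedCategory.isIso_Q_map_iff_quasiIso (φ := Φ.map s)).2 ‹_›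
    haveI : IsIso (DerivedCategory.Q.map s) := (DerivedCategory.isIso_Q_map_iff_quasiIso (φ := s)).2 hs
    have h : IsIso (η.app (∐ I) ≫ (DerivedCategory.Q ⋙ DCoh.RpushEt X f).map s) := by
      rw [← η.naturality]
      exact IsIso.comp_isIso' (inferInstanceAs (IsIso (DerivedCategory.Q.map (Φ.map s)))) inferInstance
    haveI : IsIso ((DerivedCategory.Q ⋙ DCoh.RpushEt X f).map s) :=
      inferInstanceAs (IsIso ((DCoh.RpushEt X f).map (DerivedCategory.Q.map s)))
    exact IsIso.of_isIso_comp_right _ ((DerivedCategory.Q ⋙ DCoh.RpushEt X f).map s)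
  haveI : IsIso (sigmaComparison (DCoh.RpushEt X f) fun j : J => C j.down) :=
    RpushCop.isIso_sigmaComparison (DCoh.RpushEt X f) Φ η _ I (fun j => (eI j).some)
      (fun j => RpushCop.isIso_unitCx_kInj (EtCoh.push f) (I j)) hη
  exact PreservesCoproduct.of_iso_comparison (DCoh.RpushEt X f) _

/-- Extension by zero on derived categories preserves coproducts. -/
theorem preservesColimit_extZeroD {U P : Scheme.{u}} (j : U ⟶ P) [Etale j] [EtShriek.JCont j]
    [PreservesFiniteLimits (EtShriek.extZero j)] {ι : Type u} (C : ι → DCoh.DEt U) :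
    PreservesColimit (Discrete.functor C) (DEt.extZeroD j) := by
  haveI : IsGrothendieckAbelian.{u + 1} (EtCoh.Ab U) := inferInstance
  haveI : IsGrothendieckAbelian.{u + 1} (EtCoh.Ab P) := inferInstance
  let J := ULift.{u + 1} ι
  suffices PreservesColimit (Discrete.functor fun j : J => C j.down) (DEt.extZeroD j) by
    let e : Discrete ι ≌ Discrete J := Discrete.equivalence Equiv.ulift.symm
    haveI : PreservesColimit (e.symm.functor ⋙ Discrete.functor C) (DEt.extZeroD j) :=
      preservesColimit_of_iso_diagram (K₁ := Discrete.functor fun j : J => C j.down) _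
        (Discrete.natIso fun j => Iso.refl _)
    refine ⟨fun {c} hc => ⟨?_⟩⟩
    exact IsColimit.ofWhiskerEquivalence e.symm
      (isColimitOfPreserves (DEt.extZeroD j) (hc.whiskerEquivalence e.symm))
  haveI : HasExactColimitsOfShape (Discrete J) (EtCoh.Ab U) := inferInstance
  haveI : HasExactColimitsOfShape (Discrete J) (EtCoh.Ab P) := inferInstance
  haveI := TriCat.hasColimitsOfShape_derivedCategory (A := EtCoh.Ab U) (J := J)
  haveI := TriCat.hasColimitsOfShape_derivedCategory (A := EtCoh.Ab P) (J := J)
  haveI : (EtShriek.extZero j).IsLeftAdjoint := (EtShriek.extZeroAdj j).isLeftAdjoint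
  haveI : PreservesColimitsOfShape (Discrete J) (EtShriek.extZero j) :=
    haveI : PreservesColimitsOfSize.{u + 1, u + 1} (EtShriek.extZero j) :=
      (EtShriek.extZeroAdj j).leftAdjoint_preservesColimits
    PreservesColimitsOfSize.preservesColimitsOfShape
  let Φ := (EtShriek.extZero j).mapHomologicalComplex (ComplexShape.up ℤ)
  haveI : PreservesColimitsOfShape (Discrete J) Φ := HomologicalComplex.preservesColimitsOfShape_of_eval _ fun n =>
    inferInstanceAs (PreservesColimitsOfShape (Discrete J) (HomologicalComplex.eval (EtCoh.Ab U) _ n ⋙ EtShriek.extZero j))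
  haveI : IsIso (sigmaComparison (DEt.extZeroD j) fun j : J => C j.down) :=
    RpushCop.isIso_sigmaComparison (DEt.extZeroD j) Φ (EtShriek.extZero j).mapDerivedCategoryFactors.inv _
      (fun i => DerivedCategory.Q.objPreimage (C i.down)) (fun i => DerivedCategory.Q.objObjPreimageIso _)
      (fun i => inferInstance) inferInstance
  exact PreservesCoproduct.of_iso_comparison (DEt.extZeroD j) _

end Groth.Agent.PBCThm
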