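import Groth.Agent.PBCThm.TorPart
import Groth.Agent.PBCThm.BC
import Groth.Agent.EtBCD5.Key
import Groth.Agent.EtBCD5.Pull
import Groth.Agent.TriCat.AcyclicObj
import Groth.Agent.EtLC12.RpushTorsion
import Groth.Agent.TriCat.Resolve
import Mathlib.Algebra.Homology.DerivedCategory.KInjective

/-!
# Proper base change for bounded below complexes
-/

set_option autoImplicit false
set_option linter.style.haveILetI false
set_option linter.unusedSectionVars false
set_option backward.isDefEq.respectTransparency false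
set_option backward.isDefEq.respectTransparency.types false

universe u

open CategoryTheory CategoryTheory.Limits AlgebraicGeometry Opposite Abelian

attribute [local instance] HasDerivedCategory.standard
attribute [-instance] CategoryTheory.catToReflQuiver

noncomputable section

namespace Groth.Agent.PBCThm

open EtBCD5 EtLC12

theorem isTorsion_of_iso {X : Scheme.{u}} {F G : EtCoh.Ab X} (e : F ≅ G) (h : EtCoh.IsTorsion F) :
    EtCoh.IsTorsion G := by
  rw [H9Transfer.isTorsion_iff_stalks] at h ⊢
  intro Ω _ _ ξ t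
  let e' := (EtCoh.stalk ξ).mapIso e
  have ht : e'.hom (e'.inv t) = t := ConcreteCategory.congr_hom e'.inv_hom_id t
  rw [← ht]
  exact AddMonoidHom.isOfFinAddOrder e'.hom.hom (h Ω ξ (e'.inv t))

theorem isTorsion_of_isZero {X : Scheme.{u}} {F : EtCoh.Ab X} (h : IsZero F) : EtCoh.IsTorsion F := by
  rw [H9Transfer.isTorsion_iff_stalks]
  intro Ω _ _ ξ t
  haveI := AddCommGrpCat.subsingleton_of_isZero ((EtCoh.stalk ξ).map_isZero h)
  rw [Subsingleton.elim t 0]
  exact IsOfFinAddOrder.zero

variable {X Y X' Y' : Scheme.{u}} {f : X ⟶ Y} [IsProper f] {g : Y' ⟶ Y} {f' : X' ⟶ Y'} {g' : X' ⟶ X}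

theorem isZero_Rpush_colimit (c : IsPullback g' f' f g) (D : TorsionColim.Idx.{u} ⥤ EtCoh.Ab X') (q : ℕ)
    (h : ∀ i, IsZero ((EtCoh.Rpush f' q).obj (D.obj i))) : IsZero ((EtCoh.Rpush f' q).obj (colimit D)) := by
  haveI : IsProper f' := MorphismProperty.of_isPullback (P := @IsProper) c ‹_›
  exact (IsZero.iff_id_eq_zero _).2 (RpushTorsion.Rpush_jointlyEpi f' q D _ fun i => (h i).eq_of_src _ _)

/-- Torsion parts of injectives stay acyclic after base change. -/
theorem isRightAcyclic_Tor_pull (c : IsPullback g' f' f g) (J : EtCoh.Ab X) [Injective J] :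
    TriCat.IsRightAcyclic (EtCoh.push f') ((EtCoh.pull g').obj (Tor.obj J)) := by
  intro q hq
  obtain ⟨r, rfl⟩ := Nat.exists_eq_succ_of_ne_zero hq.ne'
  haveI := (EtCoh.pullPushAdj g').leftAdjoint_preservesColimits
  refine IsZero.of_iso (isZero_Rpush_colimit c (TorsionColim.D J ⋙ EtCoh.pull g') (r + 1) fun i => ?_)
    ((EtCoh.Rpush f' (r + 1)).mapIso (preservesColimitIso (EtCoh.pull g') (TorsionColim.D J)))
  exact isZero_Rpush_tors (fibreAcyclic_of_proper f) c J (Nat.factorial_pos _) r

/-- Acyclic objects form a class adapted to the direct image. -/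
theorem isAdapted_acyclic {U V : Scheme.{u}} (h : U ⟶ V) :
    TriCat.IsAdapted (EtCoh.push h) (TriCat.IsRightAcyclic (EtCoh.push h)) := by
  haveI := EtFound.push_preservesFiniteLimits h
  haveI : (EtCoh.push h).Additive := (EtCoh.pullPushAdj h).right_adjoint_additive
  exact TriCat.IsAdapted.of_nonempty
    ⟨Injective.under (EtCoh.const U ℤ), TriCat.isRightAcyclic_of_injective _⟩
    fun S hS h1 h2 => ⟨TriCat.acyclic₃ hS h1 h2, TriCat.shortExact_map_of_subsingleton hS (h1 1 Nat.one_pos)⟩

variable [PreservesFiniteLimits (EtCoh.pull g)] [PreservesFiniteLimits (EtCoh.pull g')]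

/-- Base change on a bounded below complex of injectives with torsion cohomology. -/
theorem quasiIso_bcC (c : IsPullback g' f' f g) (I : Cx X) (n : ℤ) [I.IsStrictlyGE n] [∀ m, Injective (I.X m)]
    (hI : ∀ m, EtCoh.IsTorsion (I.homology m)) {J : Cx X'} [J.IsStrictlyGE n] [∀ m, Injective (J.X m)]
    (s : (pullC g').obj I ⟶ J) (hsm : ∀ m, Mono (s.f m)) [QuasiIso s] : QuasiIso (bcC f g f' g' c.w I s) := by
  haveI : IsProper f' := MorphismProperty.of_isPullback (P := @IsProper) c ‹_›
  haveI : (EtCoh.push f).Additive := (EtCoh.pullPushAdj f).right_adjoint_additive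
  haveI : (EtCoh.push f').Additive := (EtCoh.pullPushAdj f').right_adjoint_additive
  let T := torC I
  let a : T ⟶ I := torCι I
  haveI : T.IsStrictlyGE n := by
    rw [CochainComplex.isStrictlyGE_iff]
    exact fun i hi => Tor.map_isZero (I.isZero_of_isStrictlyGE n i hi)
  haveI : ((pullC g').obj T).IsStrictlyGE n := by
    rw [CochainComplex.isStrictlyGE_iff]
    exact fun i hi => (EtCoh.pull g').map_isZero (T.isZero_of_isStrictlyGE n i hi)
  haveI : QuasiIso a := quasiIso_torCι I hI
  have ham : ∀ m, Mono (a.f m) := fun m => mono_torι (I.X m)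
  -- upstairs
  let s' := (pullC g').map a ≫ s
  have hs'm : ∀ m, Mono (s'.f m) := fun m => by
    haveI := ham m
    haveI := hsm m
    haveI : Mono ((EtCoh.pull g').map (a.f m)) := inferInstance
    exact mono_comp ((EtCoh.pull g').map (a.f m)) (s.f m)
  haveI : QuasiIso ((pullC g').map a) := quasiIso_pullC g' a
  haveI : QuasiIso ((pushC f').map s') :=
    TriCat.quasiIso_map_of_adapted (isAdapted_acyclic f') s' hs'm n
      (fun m => isRightAcyclic_Tor_pull c (I.X m)) (fun m => TriCat.isRightAcyclic_of_injective _)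
  haveI : ∀ m, IsIso (((bc0C f g f' g' c.w).app T).f m) := fun m => S0157.result f f' g' g c _
  haveI : IsIso ((bc0C f g f' g' c.w).app T) := HomologicalComplex.Hom.isIso_of_components _
  have hT : QuasiIso (bcC f g f' g' c.w T s') := by
    unfold bcC
    infer_instance
  -- downstairs
  haveI : QuasiIso ((pushC f).map a) := by
    refine TriCat.quasiIso_map_of_adapted (isAdapted_acyclic f) a ham n (fun m => ?_)
      (fun m => TriCat.isRightAcyclic_of_injective _)
    intro q hq
    exact IsZero.of_iso (isRightAcyclic_Tor_pull (IsPullback.of_horiz_isIso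
        (⟨(Category.id_comp f).trans (Category.comp_id f).symm⟩ : CommSq (𝟙 X) f f (𝟙 Y))) (I.X m) q hq)
      ((EtCoh.Rpush f q).mapIso ((EtDescSplit.pullId X).app (Tor.obj (I.X m))).symm)
  haveI : QuasiIso ((pullC g).map ((pushC f).map a)) := quasiIso_pullC g _
  have e : (pullC g).map ((pushC f).map a) ≫ bcC f g f' g' c.w I s = bcC f g f' g' c.w T s' := by
    have hn := (bc0C f g f' g' c.w).naturality a
    show _ ≫ (bc0C f g f' g' c.w).app I ≫ (pushC f').map s = (bc0C f g f' g' c.w).app T ≫ (pushC f').map s'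
    rw [Functor.map_comp, ← Category.assoc, ← Category.assoc]
    exact congrArg (· ≫ (pushC f').map s) hn
  haveI : QuasiIso ((pullC g).map ((pushC f).map a) ≫ bcC f g f' g' c.w I s) := e ▸ hT
  exact quasiIso_of_comp_left ((pullC g).map ((pushC f).map a)) _

variable [DCoh.HasRpushEt X f] [DCoh.HasRpushEt X' f'] [DCoh.HasRpushEt Y' g]

/-- Proper base change for a bounded below object with torsion cohomology sheaves. -/
theorem isIso_bcMap (c : IsPullback g' f' f g) (adj : EtBC.pullD g ⊣ DCoh.RpushEt Y' g) (E : DCoh.DEt X)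
    (n : ℤ) [E.IsGE n] (hE : ∀ i : ℤ, EtCoh.IsTorsion (DCoh.HDEt E i)) :
    IsIso (EtBC.bcMap f g f' g' c.w adj E) := by
  obtain ⟨L, hL, ⟨eL⟩⟩ := DerivedCategory.exists_iso_Q_obj_of_isGE E n
  obtain ⟨I, r, hI1, hI2, -, hr⟩ := TriCat.exists_quasiIso_resolution (fun A : EtCoh.Ab X => Injective A)
    ⟨_, isZero_zero _, IsZero.injective (isZero_zero _)⟩
    (fun A => ⟨Injective.under A, Injective.ι A, inferInstance, inferInstance⟩) L n
  haveI : I.IsKInjective := CochainComplex.isKInjective_of_injective I n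
  haveI : ((pullC g').obj I).IsStrictlyGE n := by
    rw [CochainComplex.isStrictlyGE_iff]
    exact fun i hi => (EtCoh.pull g').map_isZero (I.isZero_of_isStrictlyGE n i hi)
  obtain ⟨J, s, hJ1, hJ2, hsm, hs⟩ := TriCat.exists_quasiIso_resolution (fun A : EtCoh.Ab X' => Injective A)
    ⟨_, isZero_zero _, IsZero.injective (isZero_zero _)⟩
    (fun A => ⟨Injective.under A, Injective.ι A, inferInstance, inferInstance⟩) ((pullC g').obj I) n
  haveI : J.IsKInjective := CochainComplex.isKInjective_of_injective J n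
  haveI := isIso_Qh_quotient r
  haveI : IsIso (DerivedCategory.Q.map r) := (DerivedCategory.isIso_Q_map_iff_quasiIso (φ := r)).2 hr
  let e : E ≅ DerivedCategory.Qh.obj (qH I) := eL ≪≫ asIso (DerivedCategory.Q.map r) ≪≫
    ((DerivedCategory.quotientCompQhIso _).app I).symm
  refine (isIso_bcMap_iff f g f' g' c.w adj I e s).2 (quasiIso_bcC c I n (fun m => ?_) s hsm)
  exact isTorsion_of_iso ((DerivedCategory.homologyFunctor (EtCoh.Ab X) m).mapIso
      (eL ≪≫ asIso (DerivedCategory.Q.map r)) ≪≫
    (DerivedCategory.homologyFunctorFactors (EtCoh.Ab X) m).app I) (hE m)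

end Groth.Agent.PBCThm
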