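import Groth.Agent.PBCThm.SepClosed
import Groth.Agent.BcQStalk5.Chi
import Groth.Agent.EtCdp5.RpushVan
import Groth.Agent.S0157
import Groth.Agent.S3054
import Groth.Agent.AcycFin.GeomFibres

/-!
# Morphisms whose geometric fibres are acyclic for torsion parts of injectives
-/

set_option autoImplicit false
set_option linter.style.haveILetI false
set_option linter.unusedSectionVars false
set_option backward.isDefEq.respectTransparency false
set_option backward.isDefEq.respectTransparency.types false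

universe u

open CategoryTheory CategoryTheory.Limits AlgebraicGeometry Opposite Abelian IsLocalRing

namespace Groth.Agent.PBCThm

open ClosedAffAcyc

attribute [local instance] EtFound.pull_preservesFiniteLimits

variable {X Y Z : Scheme.{u}}

/-- After every base change, torsion parts of injectives are acyclic on geometric fibres. -/
def FibreAcyclic (f : X ⟶ Y) : Prop :=
  ∀ ⦃X' Y' : Scheme.{u}⦄ (f' : X' ⟶ Y') (g' : X' ⟶ X) (g : Y' ⟶ Y), IsPullback g' f' f g →
    ∀ (Ω : Type u) [Field Ω] [IsSepClosed Ω] (ξ : Spec (CommRingCat.of Ω) ⟶ Y')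
      (J : EtCoh.Ab X') [Injective J] (n : ℕ), 0 < n → ∀ q : ℕ,
      Subsingleton (EtCoh.H (pullback f' ξ) ((EtCoh.pull (pullback.fst f' ξ)).obj (tors n J)) (q + 1))

theorem FibreAcyclic.baseChange {X' Y' : Scheme.{u}} {f : X ⟶ Y} (hf : FibreAcyclic f) {f' : X' ⟶ Y'}
    {g' : X' ⟶ X} {g : Y' ⟶ Y} (h : IsPullback g' f' f g) : FibreAcyclic f' :=
  fun _ _ f'' _ _ h' Ω _ _ ξ J _ n hn q => hf f'' _ _ (h'.paste_horiz h) Ω ξ J n hn q

theorem subsingleton_congr {P : Scheme.{u}} {G G' : EtCoh.Ab P} (e : G ≅ G') (q : ℕ)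
    (h : Subsingleton (EtCoh.H P G q)) : Subsingleton (EtCoh.H P G' q) :=
  (EtAcycLib.bijective_comp_mk₀ (A := EtCoh.const P ℤ) (n := q) e).2.subsingleton

/-- Transfer of vanishing between two presentations of a fibre product. -/
theorem subsingleton_of_isPullback {P S : Scheme.{u}} {f : X ⟶ Y} {g : S ⟶ Y} {a : P ⟶ X} {b : P ⟶ S}
    (c : IsPullback a b f g) (G : EtCoh.Ab X) (q : ℕ)
    (h : Subsingleton (EtCoh.H (pullback f g) ((EtCoh.pull (pullback.fst f g)).obj G) q)) :
    Subsingleton (EtCoh.H P ((EtCoh.pull a).obj G) q) :=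
  (subsingleton_pull_pull c.isoPullback.hom (pullback.fst f g) a c.isoPullback_hom_fst G q).1
    (subsingleton_of_isIso c.isoPullback.hom _ q h)

theorem subsingleton_pullback_of_isPullback {P S : Scheme.{u}} {f : X ⟶ Y} {g : S ⟶ Y} {a : P ⟶ X} {b : P ⟶ S}
    (c : IsPullback a b f g) (G : EtCoh.Ab X) (q : ℕ)
    (h : Subsingleton (EtCoh.H P ((EtCoh.pull a).obj G) q)) :
    Subsingleton (EtCoh.H (pullback f g) ((EtCoh.pull (pullback.fst f g)).obj G) q) :=
  (subsingleton_pull_pull c.isoPullback.inv a (pullback.fst f g) c.isoPullback_inv_fst G q).1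
    (subsingleton_of_isIso c.isoPullback.inv _ q h)

/-- A higher direct image vanishes if the cohomology of all strict localizations does. -/
theorem isZero_Rpush_of_strict (f : X ⟶ Y) [QuasiCompact f] [QuasiSeparated f] (G : EtCoh.Ab X) (q : ℕ)
    (H : ∀ (R : Type u) [CommRing R] [HenselianLocalRing R] [IsSepClosed (ResidueField R)]
      (h : Spec (CommRingCat.of R) ⟶ Y),
      Subsingleton (EtCoh.H (pullback h f) ((EtCoh.pull (pullback.snd h f)).obj G) q)) :
    IsZero ((EtCoh.Rpush f q).obj G) := by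
  refine (EtFound.isZero_iff_stalks _).2 fun Ω _ _ ξ => ?_
  let y := ξ.base (default : Spec (CommRingCat.of Ω))
  obtain ⟨R, _, _, _, _, hR⟩ := BcQCalc.exists_strictHens (Y.presheaf.stalk y)
  haveI := hR
  haveI : HenselianLocalRing R := _root_.Hensel.IsStrictHenselization.henselian (R := Y.presheaf.stalk y)
  haveI : IsSepClosed (ResidueField R) :=
    (_root_.Hensel.IsStrictHenselization.isSepClosure (R := Y.presheaf.stalk y) (S := R)).sep_closed
  obtain ⟨D⟩ := RpushStalk.exists_model Y y R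
  let h := Hens2.specOf Y y R
  refine EtCdp5.isZero_stalk_of_eq (EtFound.cpt R ≫ h) ξ ?_ ?_
  · rw [Scheme.Hom.comp_apply]
    exact (congrArg h (EtFound.cpt_base R _)).trans (LocAcycLib.specOf_closedPoint Y y R)
  haveI := H R h
  exact @AddCommGrpCat.isZero_of_subsingleton _
    (Function.Injective.subsingleton (BcQStalk5.bijective_chi (h := h) f D G q).1)

/-- Restriction to the closed fibre over a strictly henselian ring. -/
theorem bijective_closedIncl_strict {f : X ⟶ Y} [IsProper f] (hf : FibreAcyclic f)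
    (A : Type u) [CommRing A] [HenselianLocalRing A] [IsSepClosed (ResidueField A)]
    (b : Spec (CommRingCat.of A) ⟶ Y) (P : Scheme.{u}) (a : P ⟶ X) (p : P ⟶ Spec (CommRingCat.of A))
    (hP : IsPullback a p f b) (G : EtCoh.Ab P) (hG : EtCoh.IsTorsion G) (q : ℕ) :
    Function.Bijective (EtCore.Hpull (closedIncl p) G q) := by
  haveI : IsProper p := MorphismProperty.of_isPullback (P := @IsProper) hP ‹_›
  exact bijective_closedIncl_of_tors p (fun J _ n hn r => hf p a b hP (ResidueField A)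
    (Spec.map (CommRingCat.ofHom (residue A))) J n hn r) G hG q

/-- Higher direct images of pullbacks of torsion parts of injectives vanish. -/
theorem isZero_Rpush_tors {f : X ⟶ Y} [IsProper f] (hf : FibreAcyclic f) {X' Y' : Scheme.{u}} {f' : X' ⟶ Y'}
    {g' : X' ⟶ X} {g : Y' ⟶ Y} (c : IsPullback g' f' f g) (J : EtCoh.Ab X) [Injective J] {n : ℕ} (hn : 0 < n)
    (q : ℕ) : IsZero ((EtCoh.Rpush f' (q + 1)).obj ((EtCoh.pull g').obj (tors n J))) := by
  haveI : IsProper f' := MorphismProperty.of_isPullback (P := @IsProper) c ‹_›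
  refine isZero_Rpush_of_strict f' _ (q + 1) fun R _ _ _ h => ?_
  let p := pullback.fst h f'
  let a := pullback.snd h f'
  have hP : IsPullback (a ≫ g') p f (h ≫ g) := (IsPullback.of_hasPullback h f').flip.paste_horiz c
  have hb := bijective_closedIncl_strict hf R (h ≫ g) _ _ p hP ((EtCoh.pull a).obj ((EtCoh.pull g').obj (tors n J)))
    (H9Transfer.isTorsion_pull a _ (H9Transfer.isTorsion_pull g' _ (isTorsion_tors hn J))) (q + 1)
  have c0 : IsPullback (closedIncl p ≫ a ≫ g') (pullback.snd p (Spec.map (CommRingCat.ofHom (residue R)))) f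
      (Spec.map (CommRingCat.ofHom (residue R)) ≫ h ≫ g) := (IsPullback.of_hasPullback p _).paste_horiz hP
  have h0 := subsingleton_of_isPullback c0 (tors n J) (q + 1)
    (hf f (𝟙 X) (𝟙 Y) (IsPullback.of_horiz_isIso ⟨(Category.id_comp f).trans (Category.comp_id f).symm⟩)
      (ResidueField R) _ J n hn q)
  rw [← subsingleton_pull_pull (closedIncl p) (a ≫ g') _ rfl] at h0
  exact @Function.Injective.subsingleton _ _ _ hb.1 (subsingleton_congr ((EtCoh.pull (closedIncl p)).mapIso
    (((EtCore.pullComp a g').app (tors n J)))) (q + 1) h0)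

/-- Cohomology upstairs is cohomology of the direct image. -/
theorem subsingleton_pull_iff_push {f : X ⟶ Y} [IsProper f] (hf : FibreAcyclic f) {X' Y' : Scheme.{u}}
    {f' : X' ⟶ Y'} {g' : X' ⟶ X} {g : Y' ⟶ Y} (c : IsPullback g' f' f g) (J : EtCoh.Ab X) [Injective J] {n : ℕ}
    (hn : 0 < n) (q : ℕ) :
    Subsingleton (EtCoh.H X' ((EtCoh.pull g').obj (tors n J)) q) ↔
      Subsingleton (EtCoh.H Y' ((EtCoh.pull g).obj (tors n ((EtCoh.push f).obj J))) q) := by
  have hb := EtAcycLib.UnitRpush.HofPush_bijective f' q ((EtCoh.pull g').obj (tors n J))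
    fun j _ => isZero_Rpush_tors hf c J hn j
  haveI : IsIso (EtCoh.baseChange0 f g f' g' c.w (tors n J)) := S0157.result f f' g' g c _
  let e := (EtCoh.pull g).mapIso (pushTorsIso f n J).symm ≪≫ asIso (EtCoh.baseChange0 f g f' g' c.w (tors n J))
  refine ⟨fun h => ?_, fun h => ?_⟩
  · haveI := h
    exact subsingleton_congr e.symm q hb.1.subsingleton
  · haveI := subsingleton_congr e q h
    exact hb.2.subsingleton

/-- Acyclicity on geometric fibres gives the key property. -/
theorem key_of_fibreAcyclic {f : X ⟶ Y} [IsProper f] (hf : FibreAcyclic f) : Key f := by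
  intro A _ _ b P a p hP G hG q
  haveI : IsProper p := MorphismProperty.of_isPullback (P := @IsProper) hP ‹_›
  refine bijective_closedIncl_of_tors p (fun J _ n hn r => ?_) G hG q
  refine (subsingleton_pull_iff_push (hf.baseChange hP) (IsPullback.of_hasPullback p _) J hn (r + 1)).2 ?_
  haveI := injective_push p J
  haveI : IsClosedImmersion (Spec.map (CommRingCat.ofHom (residue A))) :=
    IsClosedImmersion.spec_of_surjective _ Ideal.Quotient.mk_surjective
  exact subsingleton_H_closed _ _ (isTorsion_tors hn _) (affAcyclic_tors hn _) r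

/-- Vanishing on the fibres of a composite. -/
theorem subsingleton_comp_iff {f : X ⟶ Y} [IsProper f] (hf : FibreAcyclic f) (g : Y ⟶ Z) {S : Scheme.{u}}
    (ξ : S ⟶ Z) (J : EtCoh.Ab X) [Injective J] {n : ℕ} (hn : 0 < n) (q : ℕ) :
    Subsingleton (EtCoh.H (pullback (f ≫ g) ξ) ((EtCoh.pull (pullback.fst (f ≫ g) ξ)).obj (tors n J)) q) ↔
      Subsingleton (EtCoh.H (pullback g ξ)
        ((EtCoh.pull (pullback.fst g ξ)).obj (tors n ((EtCoh.push f).obj J))) q) := by
  let h : pullback (f ≫ g) ξ ⟶ pullback g ξ :=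
    pullback.lift (pullback.fst (f ≫ g) ξ ≫ f) (pullback.snd (f ≫ g) ξ) (by rw [Category.assoc, pullback.condition])
  refine subsingleton_pull_iff_push hf (g := pullback.fst g ξ) (f' := h) ?_ J hn q
  refine IsPullback.of_bot ?_ (pullback.lift_fst _ _ _).symm (IsPullback.of_hasPullback g ξ)
  rw [pullback.lift_snd]
  exact IsPullback.of_hasPullback (f ≫ g) ξ

theorem FibreAcyclic.comp {f : X ⟶ Y} {g : Y ⟶ Z} [IsProper f] (hf : FibreAcyclic f) (hg : FibreAcyclic g) :
    FibreAcyclic (f ≫ g) := by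
  intro X' Z' h g' gz c Ω _ _ ξ J _ n hn q
  let f' : X' ⟶ pullback g gz := pullback.lift (g' ≫ f) h (by rw [Category.assoc]; exact c.w)
  have c1 : IsPullback g' f' f (pullback.fst g gz) :=
    IsPullback.of_bot (by rw [pullback.lift_snd]; exact c) (pullback.lift_fst _ _ _).symm
      (IsPullback.of_hasPullback g gz)
  haveI : IsProper f' := MorphismProperty.of_isPullback (P := @IsProper) c1 ‹_›
  haveI := injective_push f' J
  suffices H : ∀ h₀, h₀ = f' ≫ pullback.snd g gz →
      Subsingleton (EtCoh.H (pullback h₀ ξ) ((EtCoh.pull (pullback.fst h₀ ξ)).obj (tors n J)) (q + 1)) from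
    H h (pullback.lift_snd _ _ _).symm
  rintro h₀ rfl
  exact (subsingleton_comp_iff (hf.baseChange c1) (pullback.snd g gz) ξ J hn (q + 1)).2
    (hg _ _ gz (IsPullback.of_hasPullback g gz) Ω ξ _ n hn q)

/-- The sandwich property. -/
theorem FibreAcyclic.of_comp {f : X ⟶ Y} {g : Y ⟶ Z} [IsProper f] [Surjective f] (hf : FibreAcyclic f)
    (hgf : FibreAcyclic (f ≫ g)) : FibreAcyclic g := by
  intro Y' Z' g'' gy gz c Ω _ _ ξ J _ n hn q
  let f' := pullback.snd f gy
  have c1 : IsPullback (pullback.fst f gy) f' f gy := IsPullback.of_hasPullback f gy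
  haveI : IsProper f' := MorphismProperty.of_isPullback (P := @IsProper) c1 ‹_›
  haveI : Surjective f' := MorphismProperty.of_isPullback (P := @Surjective) c1 ‹_›
  let J' := Injective.under ((EtCoh.pull f').obj J)
  let η : J ⟶ (EtCoh.push f').obj J' :=
    (EtCoh.pullPushAdj f').unit.app J ≫ (EtCoh.push f').map (Injective.ι _)
  haveI : (EtCoh.push f').IsRightAdjoint := (EtCoh.pullPushAdj f').isRightAdjoint
  haveI := AcycFin.mono_unit f' J
  haveI : Mono η := mono_comp _ _
  obtain ⟨s, r, hsr⟩ := exists_retract_tors η (Injective.factorThru (𝟙 J) η) (Injective.comp_factorThru _ _) n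
  refine subsingleton_of_retract ((EtCoh.pull _).map s) ((EtCoh.pull _).map r)
    (by rw [← Functor.map_comp, hsr, CategoryTheory.Functor.map_id]) (q + 1) ?_
  exact (subsingleton_comp_iff (hf.baseChange c1) g'' ξ J' hn (q + 1)).1
    (hgf _ _ _ (c1.paste_vert c) Ω ξ J' n hn q)

/-- Integral morphisms have acyclic geometric fibres. -/
theorem fibreAcyclic_of_integral (f : X ⟶ Y) [IsIntegralHom f] : FibreAcyclic f := by
  intro X' Y' f' g' g c Ω _ _ ξ J _ n hn q
  haveI : IsIntegralHom f' := MorphismProperty.of_isPullback (P := @IsIntegralHom) c ‹_›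
  haveI : IsIntegralHom (pullback.snd f' ξ) :=
    MorphismProperty.of_isPullback (P := @IsIntegralHom) (IsPullback.of_hasPullback f' ξ) ‹_›
  haveI := AcycFin.subsingleton_H_sepClosed Ω
    ((EtCoh.push (pullback.snd f' ξ)).obj ((EtCoh.pull (pullback.fst f' ξ)).obj (tors n J))) (q + 1) (by omega)
  exact (EtAcycLib.UnitRpush.HofPush_bijective (pullback.snd f' ξ) (q + 1) _
    fun j _ => S3054.result _ _ (j + 1) (Nat.succ_pos j)).2.subsingleton

/-- The property is local on the target. -/
theorem fibreAcyclic_of_local (f : X ⟶ Y)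
    (h : ∀ y : Y, ∃ V : Y.Opens, y ∈ V ∧ FibreAcyclic (f ∣_ V)) : FibreAcyclic f := by
  intro X' Y' f' g' g c Ω _ _ ξ J _ n hn q
  obtain ⟨V, hyV, hV⟩ := h (g (ξ (default : Spec (CommRingCat.of Ω))))
  let U := g ⁻¹ᵁ V
  have hr : Set.range ξ ⊆ Set.range U.ι := by
    rintro _ ⟨x, rfl⟩
    rw [Scheme.Opens.range_ι, Subsingleton.elim (α := PrimeSpectrum Ω) x (default : Spec (CommRingCat.of Ω))]
    exact hyV
  let ξU := IsOpenImmersion.lift U.ι ξ hr
  have c1 : IsPullback (f' ⁻¹ᵁ U).ι (f' ∣_ U) f' U.ι := (isPullback_morphismRestrict f' U).flip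
  let gU : (f' ⁻¹ᵁ U).toScheme ⟶ (f ⁻¹ᵁ V).toScheme := (IsPullback.lift (isPullback_morphismRestrict f V).flip
    ((f' ⁻¹ᵁ U).ι ≫ g') (f' ∣_ U ≫ g ∣_ V) (by
      rw [Category.assoc, c.w, ← Category.assoc, ← morphismRestrict_ι, Category.assoc, Category.assoc,
        morphismRestrict_ι]))
  have c2 : IsPullback gU (f' ∣_ U) (f ∣_ V) (g ∣_ V) := by
    refine IsPullback.of_right ?_ (IsPullback.lift_snd _ _ _ _) (isPullback_morphismRestrict f V).flip
    rw [IsPullback.lift_fst, morphismRestrict_ι]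
    exact c1.paste_horiz c
  haveI : EtShriek.JCont (f' ⁻¹ᵁ U).ι := EtFound.jCont _
  haveI : Injective ((EtCoh.pull (f' ⁻¹ᵁ U).ι).obj J) := EtLC12.AffineLocalAcyclic.injective_pull _ J
  have h1 := hV _ gU _ c2 Ω ξU ((EtCoh.pull (f' ⁻¹ᵁ U).ι).obj J) n hn q
  have h2 := subsingleton_congr ((EtCoh.pull (pullback.fst (f' ∣_ U) ξU)).mapIso
    (pullTorsIso (f' ⁻¹ᵁ U).ι n J).symm) (q + 1) h1
  rw [subsingleton_pull_pull _ _ _ rfl] at h2
  have c3 : IsPullback (pullback.fst (f' ∣_ U) ξU ≫ (f' ⁻¹ᵁ U).ι) (pullback.snd (f' ∣_ U) ξU) f' ξ := by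
    have := (IsPullback.of_hasPullback (f' ∣_ U) ξU).paste_horiz c1
    rwa [IsOpenImmersion.lift_fac] at this
  exact subsingleton_pullback_of_isPullback c3 _ _ h2

end Groth.Agent.PBCThm
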