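import Groth.Agent.RpushStalk.BaseSys
import Groth.Agent.EtAcycLib.Compose
import Groth.Agent.BcQCalc.Criterion

/-!
# Pullback of classes between schemes over a fixed scheme
-/

set_option autoImplicit false
set_option linter.style.haveILetI false
set_option linter.unusedSectionVars false
set_option backward.isDefEq.respectTransparency false
set_option backward.isDefEq.respectTransparency.types false

universe u

open CategoryTheory CategoryTheory.Limits AlgebraicGeometry Opposite Abelian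

namespace Groth.Agent.PBCThm

open EtLim8 RpushStalk

attribute [local instance] EtFound.pull_preservesFiniteLimits

variable {T P Q R : Scheme.{u}}

/-- Pullback between schemes over `T`, for a sheaf from `T`. -/
noncomputable abbrev via (G : EtCoh.Ab T) (m : Q ⟶ P) (a : P ⟶ T) (b : Q ⟶ T) (w : m ≫ a = b) (q : ℕ) :
    EtCoh.H P ((EtCoh.pull a).obj G) q →+ EtCoh.H Q ((EtCoh.pull b).obj G) q :=
  EtCore.HpullVia m a b w G q

theorem via_eq (G : EtCoh.Ab T) (m : Q ⟶ P) (a : P ⟶ T) (b : Q ⟶ T) (w : m ≫ a = b) (q : ℕ) :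
    via G m a b w q = EtLim.HpullThen m ((EtCoh.pull a).obj G) (pullCmp a m b w G).hom q := rfl

/-- These pullbacks compose. -/
theorem via_via (G : EtCoh.Ab T) (m : Q ⟶ P) (n : R ⟶ Q) (nm : R ⟶ P) (e : n ≫ m = nm) (a : P ⟶ T) (b : Q ⟶ T)
    (c : R ⟶ T) (w : m ≫ a = b) (w' : n ≫ b = c) (w'' : nm ≫ a = c) (q : ℕ)
    (x : EtCoh.H P ((EtCoh.pull a).obj G) q) :
    via G n b c w' q (via G m a b w q x) = via G nm a c w'' q x := by
  rw [via_eq, via_eq, via_eq]
  exact HpullThen_HpullThen m n nm e _ _ _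
    (compat_of_generated w e w'' w' ((EtCoh.pullPushAdj b).unit.app G) ((EtCoh.pullPushAdj c).unit.app G) _ _ _
      (compat_pullCmp _ _ _ _ G) (compat_pullCmp _ _ _ _ G) (compat_pullCmp _ _ _ _ G)) q x

/-- These pullbacks extend pullback from `T`. -/
theorem via_Hpull (G : EtCoh.Ab T) (m : Q ⟶ P) (a : P ⟶ T) (b : Q ⟶ T) (w : m ≫ a = b) (q : ℕ)
    (x : EtCoh.H T G q) : via G m a b w q (EtCore.Hpull a G q x) = EtCore.Hpull b G q x :=
  EtAcycLib.Hpull_comp m a b w G q x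

/-- Bijectivity is that of the absolute pullback. -/
theorem bijective_via_iff (G : EtCoh.Ab T) (m : Q ⟶ P) (a : P ⟶ T) (b : Q ⟶ T) (w : m ≫ a = b) (q : ℕ) :
    Function.Bijective (via G m a b w q) ↔
      Function.Bijective (EtCore.Hpull m ((EtCoh.pull a).obj G) q) :=
  Function.Bijective.of_comp_iff'
    (EtAcycLib.bijective_comp_mk₀ (A := EtCoh.const Q ℤ) (((EtCore.pullComp m a).symm ≪≫ EtCore.pullCongr w).app G)) _

section limit

variable {ι : Type u} [Preorder ι] [IsDirected ι (· ≤ ·)] [Nonempty ι] {Xs : ιᵒᵖ ⥤ Scheme.{u}}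
  [hA : ∀ {a b : ιᵒᵖ} (h : a ⟶ b), IsAffineHom (Xs.map h)]
  (t : ∀ i, Xs.obj (op i) ⟶ T) (ht : ∀ ⦃i j : ι⦄ (h : i ≤ j), tr Xs h ≫ t i = t j) (G : EtCoh.Ab T) (c : Cone Xs)
  (r : c.pt ⟶ T) (hr : ∀ i, pr c i ≫ t i = r) (hc : IsLimit c) (hqc : ∀ a, CompactSpace ↥(Xs.obj a))
  (hqs : ∀ a, QuasiSeparatedSpace ↥(Xs.obj a)) (q : ℕ)

include hc hqc hqs ht in
/-- Classes on a limit come from a stage. -/
theorem exists_via_eq (ξ : EtCoh.H c.pt ((EtCoh.pull r).obj G) q) :
    ∃ (j : ι) (ξj : EtCoh.H (Xs.obj (op j)) ((EtCoh.pull (t j)).obj G) q),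
      via G (pr c j) (t j) r (hr j) q ξj = ξ := by
  let S := baseSys t ht G
  have hU := baseSys_isUnital t ht G
  haveI := isIso_baseColimHom t ht G c r hr
  let e := asIso (baseColimHom t ht G c r hr)
  obtain ⟨z, hz⟩ := (EtAcycLib.bijective_comp_mk₀ (A := EtCoh.const c.pt ℤ) (n := q) e).2 ξ
  obtain ⟨j, ξj, rfl⟩ := (Sys.comm hc hqc hqs q S hU).surj z
  refine ⟨j, ξj, Eq.trans ?_ hz⟩
  rw [via_eq]
  simp only [e, asIso_hom, baseColimHom]
  rw [Sys.colimH_descColim]
  rfl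

include hc hqc hqs ht in
/-- Classes vanishing on a limit vanish at a stage. -/
theorem exists_via_eq_zero (j : ι) (ξj : EtCoh.H (Xs.obj (op j)) ((EtCoh.pull (t j)).obj G) q)
    (h : via G (pr c j) (t j) r (hr j) q ξj = 0) :
    ∃ (k : ι) (hjk : j ≤ k), via G (tr Xs hjk) (t j) (t k) (ht hjk) q ξj = 0 := by
  let S := baseSys t ht G
  have hU := baseSys_isUnital t ht G
  haveI := isIso_baseColimHom t ht G c r hr
  let e := asIso (baseColimHom t ht G c r hr)
  have h0 : S.colimH c hU j q ξj = 0 := by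
    refine (EtAcycLib.bijective_comp_mk₀ (A := EtCoh.const c.pt ℤ) (n := q) e).1 ?_
    rw [via_eq] at h
    simp only [e, asIso_hom, baseColimHom, Ext.zero_comp]
    rw [Sys.colimH_descColim]
    exact h
  obtain ⟨k, hk, hk0⟩ := (Sys.comm hc hqc hqs q S hU).inj j ξj h0
  refine ⟨k, hk, Eq.trans ?_ hk0⟩
  rw [via_eq, Sys.trH]
  simp only [S, baseSys, Equiv.symm_apply_apply]

end limit

end Groth.Agent.PBCThm
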