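import Groth.Agent.PBCThm.Key
import Groth.Agent.PBCThm.Via
import Groth.Agent.EtFound.IntegralCore
import Groth.Agent.Hensel.Colim
import Mathlib.CategoryTheory.Presentable.Directed
import Mathlib.RingTheory.Jacobson.Ring
import Mathlib.CategoryTheory.Limits.Constructions.Over.Connected

/-!
# Cohomology and extensions of algebraically closed fields
-/

set_option autoImplicit false
set_option linter.style.haveILetI false
set_option linter.unusedSectionVars false
set_option backward.isDefEq.respectTransparency false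
set_option backward.isDefEq.respectTransparency.types false

universe u

open CategoryTheory CategoryTheory.Limits AlgebraicGeometry Opposite Abelian

namespace Groth.Agent.PBCThm

open EtLim8 ClosedAffAcyc
open Groth.Agent.Hensel (Henz Nbhd NbhdCat)

attribute [local instance] EtFound.pull_preservesFiniteLimits

section stages

variable {S X : Scheme.{u}} (p : X ⟶ S) {ι : Type u} [Preorder ι] [IsDirected ι (· ≤ ·)] [Nonempty ι]
  (Rs : ι ⥤ CommRingCat.{u}) (cc : Cocone Rs) (s : ∀ i, Spec (Rs.obj i) ⟶ S) (sR : Spec cc.pt ⟶ S)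
  (hs : ∀ ⦃i j : ι⦄ (h : i ⟶ j), Spec.map (Rs.map h) ≫ s i = s j) (hR : ∀ i, Spec.map (cc.ι.app i) ≫ s i = sR)

/-- Base changes of the stages. -/
noncomputable def bcStages : ιᵒᵖ ⥤ Scheme.{u} where
  obj a := pullback p (s a.unop)
  map {a b} h := pullback.lift (pullback.fst p (s a.unop))
    (pullback.snd p (s a.unop) ≫ Spec.map (Rs.map h.unop)) (by rw [pullback.condition, Category.assoc, hs])
  map_id a := by refine pullback.hom_ext ?_ ?_ <;> simp
  map_comp f g := by refine pullback.hom_ext ?_ ?_ <;> simp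

/-- The cone from the base change to the colimit. -/
noncomputable def bcCone : Cone (bcStages p Rs s hs) where
  pt := pullback p sR
  π :=
    { app := fun a => pullback.lift (pullback.fst p sR) (pullback.snd p sR ≫ Spec.map (cc.ι.app a.unop))
        (by rw [pullback.condition, Category.assoc, hR])
      naturality := fun a b h => by
        refine pullback.hom_ext ?_ ?_
        · simp [bcStages]
        · simp [bcStages, ← Spec.map_comp] }

theorem isAffineHom_bcStages {a b : ιᵒᵖ} (h : a ⟶ b) : IsAffineHom ((bcStages p Rs s hs).map h) := by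
  have big : IsPullback ((bcStages p Rs s hs).map h ≫ pullback.fst p (s b.unop)) (pullback.snd p (s a.unop)) p
      (Spec.map (Rs.map h.unop) ≫ s b.unop) := by
    rw [show (bcStages p Rs s hs).map h ≫ pullback.fst p (s b.unop) = pullback.fst p (s a.unop) from
      pullback.lift_fst _ _ _, hs]
    exact IsPullback.of_hasPullback p (s a.unop)
  exact MorphismProperty.of_isPullback (P := @IsAffineHom)
    (IsPullback.of_right big (pullback.lift_snd _ _ _) (IsPullback.of_hasPullback p (s b.unop))).flip
    (inferInstanceAs (IsAffineHom (Spec.map (Rs.map h.unop))))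

/-- The cone is a limit. -/
noncomputable def isLimitBcCone (hcc : IsColimit cc) : IsLimit (bcCone p Rs cc s sR hs hR) :=
  haveI : IsConnected ιᵒᵖ := IsCofiltered.isConnected _
  let τ : bcStages p Rs s hs ⟶ Rs.op ⋙ Scheme.Spec :=
    { app := fun a => pullback.snd p (s a.unop)
      naturality := fun _ _ g => pullback.lift_snd _ _ _ }
  isLimitOfIsPullbackOfIsConnected τ (bcCone p Rs cc s sR hs hR) (Scheme.Spec.mapCone cc.op)
    { hom := (pullback.snd p sR : pullback p sR ⟶ Spec cc.pt)
      w := fun a => (pullback.lift_snd _ _ _).symm }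
    (fun a => IsPullback.of_right (h₁₁ := (bcCone p Rs cc s sR hs hR).π.app a)
      (h₁₂ := pullback.fst p (s a.unop)) (h₂₁ := Spec.map (cc.ι.app a.unop)) (h₂₂ := s a.unop) (v₁₃ := p)
      (v₁₁ := pullback.snd p sR) (v₁₂ := pullback.snd p (s a.unop))
      (by
        show IsPullback ((pullback.lift _ _ _) ≫ pullback.fst _ _) _ _ _
        rw [pullback.lift_fst, hR]
        exact IsPullback.of_hasPullback p sR)
      (pullback.lift_snd _ _ _) (IsPullback.of_hasPullback p (s a.unop)))
    (isLimitOfPreserves Scheme.Spec hcc.op)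

theorem bcStages_fst ⦃i j : ι⦄ (h : i ≤ j) :
    tr (bcStages p Rs s hs) h ≫ pullback.fst p (s i) = pullback.fst p (s j) := pullback.lift_fst _ _ _

theorem bcCone_fst (i : ι) : pr (bcCone p Rs cc s sR hs hR) i ≫ pullback.fst p (s i) = pullback.fst p sR :=
  pullback.lift_fst _ _ _

end stages

variable (k : Type u) [Field k] (Ω : Type u) [Field Ω] [Algebra k Ω]

/-- Finitely generated subalgebras. -/
abbrev FgIdx : Type u := {B : Subalgebra k Ω // B.FG}

instance : IsDirectedOrder (FgIdx k Ω) :=
  ⟨fun a b => ⟨⟨a.1 ⊔ b.1, a.2.sup b.2⟩, (le_sup_left : a.1 ≤ a.1 ⊔ b.1), (le_sup_right : b.1 ≤ a.1 ⊔ b.1)⟩⟩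

instance : Nonempty (FgIdx k Ω) := ⟨⟨⊥, Subalgebra.fg_bot⟩⟩

/-- The finitely generated subalgebras as rings. -/
noncomputable def fgDiag : FgIdx k Ω ⥤ CommRingCat.{u} where
  obj B := CommRingCat.of B.1
  map {B B'} h := CommRingCat.ofHom (Subalgebra.inclusion (leOfHom h : B.1 ≤ B'.1)).toRingHom

/-- Their union. -/
noncomputable def fgCocone : Cocone (fgDiag k Ω) where
  pt := CommRingCat.of Ω
  ι := { app := fun B => CommRingCat.ofHom B.1.val.toRingHom }

/-- The union is the colimit. -/
noncomputable def isColimitFgCocone : IsColimit (fgCocone k Ω) := by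
  haveI : ReflectsColimitsOfShape (FgIdx k Ω) (CategoryTheory.forget CommRingCat.{u}) :=
    reflectsColimitsOfShape_of_reflectsIsomorphisms
  refine isColimitOfReflects (CategoryTheory.forget CommRingCat.{u}) ?_
  refine Types.FilteredColimit.isColimitOf _ _ (fun x => ?_) fun i j xi xj h => ?_
  · obtain ⟨B, hB⟩ : ∃ B : FgIdx k Ω, (id x : Ω) ∈ B.1 :=
      ⟨⟨Algebra.adjoin k {(id x : Ω)}, ⟨{(id x : Ω)}, by simp⟩⟩, Algebra.self_mem_adjoin_singleton k (id x : Ω)⟩
    exact ⟨B, ⟨_, hB⟩, rfl⟩
  · refine ⟨⟨i.1 ⊔ j.1, i.2.sup j.2⟩, homOfLE (le_sup_left : i.1 ≤ i.1 ⊔ j.1),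
      homOfLE (le_sup_right : j.1 ≤ i.1 ⊔ j.1), Subtype.ext h⟩

/-- Finitely generated algebras over an algebraically closed field have rational points. -/
theorem exists_point [IsAlgClosed k] (B : Type u) [CommRing B] [Algebra k B] [Algebra.FiniteType k B]
    [Nontrivial B] : Nonempty (B →ₐ[k] k) := by
  obtain ⟨m, hm⟩ := Ideal.exists_maximal B
  letI := Ideal.Quotient.field m
  haveI : Algebra.FiniteType k (B ⧸ m) :=
    Algebra.FiniteType.of_surjective (Ideal.Quotient.mkₐ k m) (Ideal.Quotient.mkₐ_surjective k m)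
  haveI : Module.Finite k (B ⧸ m) := finite_of_finite_type_of_isJacobsonRing k (B ⧸ m)
  exact ⟨(IsAlgClosed.lift : (B ⧸ m) →ₐ[k] k).comp (Ideal.Quotient.mkₐ k m)⟩

/-- Étale neighbourhoods of a point of a domain map to an algebraically closed field containing it. -/
theorem exists_algHom_of_etale (B : Type u) [CommRing B] [IsDomain B] [Algebra B Ω]
    (hB : Function.Injective (algebraMap B Ω)) [IsAlgClosed Ω] (C : Type u) [CommRing C] [Algebra B C]
    [Algebra.Etale B C] [Nontrivial C] : Nonempty (C →ₐ[B] Ω) := by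
  obtain ⟨Q, hQ⟩ := Ideal.exists_maximal C
  obtain ⟨P, -, hP, hPB⟩ := Ideal.exists_ideal_le_liesOver_of_le (R := B) (S := C)
    (p := (⊥ : Ideal B)) (q := Q.under B) Q bot_le
  letI := hPB
  let K := FractionRing B
  let L := P.ResidueField
  let φ : B →+* L := algebraMap B L
  have hφ : Function.Injective φ := by
    rw [RingHom.injective_iff_ker_eq_bot]
    show RingHom.ker (algebraMap B P.ResidueField) = ⊥
    rw [IsScalarTower.algebraMap_eq B C P.ResidueField, ← RingHom.comap_ker, Ideal.ker_algebraMap_residueField]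
    exact hPB.over.symm
  letI : Algebra K L := (IsFractionRing.lift (g := φ) hφ).toAlgebra
  haveI : IsScalarTower B K L := .of_algebraMap_eq fun b => (IsFractionRing.lift_algebraMap hφ b).symm
  haveI : IsScalarTower B C L := inferInstance
  haveI : Algebra.EssFiniteType B L := Algebra.EssFiniteType.comp B C L
  haveI : Algebra.EssFiniteType K L := Algebra.EssFiniteType.of_comp B K L
  haveI : Algebra.FormallyUnramified C (Localization.AtPrime P) :=
    Algebra.FormallyUnramified.of_isLocalization P.primeCompl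
  haveI : Algebra.FormallyUnramified (Localization.AtPrime P) L :=
    Algebra.FormallyUnramified.of_surjective (Algebra.ofId (Localization.AtPrime P) L) IsLocalRing.residue_surjective
  haveI : Algebra.FormallyUnramified C L := Algebra.FormallyUnramified.comp C (Localization.AtPrime P) L
  haveI : Algebra.FormallyUnramified B L := Algebra.FormallyUnramified.comp B C L
  haveI : Algebra.FormallyUnramified K L := Algebra.FormallyUnramified.of_restrictScalars B K L
  haveI : Module.Finite K L := Algebra.FormallyUnramified.finite_of_free K L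
  letI : Algebra K Ω := (IsFractionRing.lift (g := algebraMap B Ω) hB).toAlgebra
  haveI : IsScalarTower B K Ω := .of_algebraMap_eq fun b => (IsFractionRing.lift_algebraMap hB b).symm
  let χ : L →ₐ[K] Ω := IsAlgClosed.lift
  exact ⟨(χ.restrictScalars B).comp (IsScalarTower.toAlgHom B C L)⟩

/-- Pullback along an extension of algebraically closed fields is surjective on cohomology. -/
theorem surjective_Hpull_fieldExt [IsAlgClosed k] [IsAlgClosed Ω] {X : Scheme.{u}}
    (p : X ⟶ Spec (CommRingCat.of k)) [IsProper p] (hK : Key p) (G : EtCoh.Ab X) (hG : EtCoh.IsTorsion G) (q : ℕ) :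
    Function.Surjective
      (EtCore.Hpull (pullback.fst p (Spec.map (CommRingCat.ofHom (algebraMap k Ω)))) G q) := by
  intro ξ
  haveI : CompactSpace X := QuasiCompact.compactSpace_of_compactSpace p
  let s : ∀ B : FgIdx k Ω, Spec ((fgDiag k Ω).obj B) ⟶ Spec (CommRingCat.of k) := fun B =>
    Spec.map (CommRingCat.ofHom (algebraMap k B.1))
  let sΩ : Spec (fgCocone k Ω).pt ⟶ Spec (CommRingCat.of k) := Spec.map (CommRingCat.ofHom (algebraMap k Ω))
  have hs : ∀ ⦃i j : FgIdx k Ω⦄ (h : i ⟶ j), Spec.map ((fgDiag k Ω).map h) ≫ s i = s j := fun i j h => by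
    rw [← Spec.map_comp]; congr 1
  have hR : ∀ i, Spec.map ((fgCocone k Ω).ι.app i) ≫ s i = sΩ := fun i => by
    rw [← Spec.map_comp]; congr 1
  haveI : ∀ {a b : (FgIdx k Ω)ᵒᵖ} (h : a ⟶ b), IsAffineHom ((bcStages p _ s hs).map h) :=
    fun h => isAffineHom_bcStages p _ s hs h
  obtain ⟨j, ξj, rfl⟩ := exists_via_eq (Xs := bcStages p _ s hs) (fun i => pullback.fst p (s i))
    (fun i j h => bcStages_fst p _ s hs h) G (bcCone p _ (fgCocone k Ω) s sΩ hs hR) (pullback.fst p sΩ)
    (fun i => bcCone_fst p _ _ s sΩ hs hR i) (isLimitBcCone p _ _ s sΩ hs hR (isColimitFgCocone k Ω))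
    (fun a => QuasiCompact.compactSpace_of_compactSpace (pullback.snd p (s a.unop)))
    (fun a => quasiSeparatedSpace_of_quasiSeparated (pullback.snd p (s a.unop))) q ξ
  let B := j.1
  haveI : Algebra.FiniteType k B := (Subalgebra.fg_iff_finiteType B).1 j.2
  obtain ⟨π⟩ := exists_point k B
  letI : Algebra B k := π.toRingHom.toAlgebra
  let A := Henz B k
  haveI : IsLocalRing A := EtFound.isLocalRing_henz' B k
  haveI : HenselianLocalRing A := EtFound.henselianLocalRing_henz' B k
  let sA : Spec (CommRingCat.of A) ⟶ Spec (CommRingCat.of k) :=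
    Spec.map (CommRingCat.ofHom ((algebraMap B A).comp (algebraMap k B)))
  let a : pullback p sA ⟶ X := pullback.fst p sA
  let pA : pullback p sA ⟶ Spec (CommRingCat.of A) := pullback.snd p sA
  haveI : IsIso (Spec.map (CommRingCat.ofHom (IsLocalRing.residue A)) ≫ sA) := by
    show IsIso (Spec.map _ ≫ Spec.map _)
    rw [← Spec.map_comp, ← CommRingCat.ofHom_comp]
    haveI : IsIso (CommRingCat.ofHom ((IsLocalRing.residue A).comp ((algebraMap B A).comp (algebraMap k B)))) := by
      refine (ConcreteCategory.isIso_iff_bijective _).2 ⟨RingHom.injective _, fun y => ?_⟩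
      obtain ⟨z, rfl⟩ := IsLocalRing.residue_surjective y
      refine ⟨Henz.proj B k z, ?_⟩
      show IsLocalRing.residue A (algebraMap B A (algebraMap k B (Henz.proj B k z))) = IsLocalRing.residue A z
      rw [← sub_eq_zero, ← map_sub, IsLocalRing.residue_eq_zero_iff, EtFound.maximalIdeal_henz' B k,
        RingHom.mem_ker, map_sub, AlgHom.commutes, sub_eq_zero]
      exact π.commutes _
    infer_instance
  have hb : Function.Bijective (EtCore.Hpull a G q) := by
    have hk := hK A sA (pullback p sA) a pA (IsPullback.of_hasPullback p sA) ((EtCoh.pull a).obj G)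
      (H9Transfer.isTorsion_pull a G hG) q
    haveI : IsIso (closedIncl pA ≫ a) := by
      have sq := (IsPullback.of_hasPullback pA (Spec.map (CommRingCat.ofHom (IsLocalRing.residue A)))).paste_horiz
        (IsPullback.of_hasPullback p sA)
      exact MorphismProperty.of_isPullback (P := MorphismProperty.isomorphisms Scheme.{u}) sq.flip
        (MorphismProperty.isomorphisms.infer_property _)
    have h := ((EtAcycLib.bijective_Hpull_comp_iff (closedIncl pA) a _ rfl G q).1).1
      (EtAcycLib.bijective_Hpull_of_isIso (closedIncl pA ≫ a) G q)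
    exact (Function.Bijective.of_comp_iff' hk _).1 h
  -- the stages of the henselization
  haveI : IsConnected (NbhdCat B k) := IsFiltered.isConnected _
  obtain ⟨α, _, _, _, F, _⟩ := IsFiltered.exists_directed (NbhdCat B k)
  let Rs := F ⋙ Hensel.nbhdDiagram B k ⋙ CategoryTheory.Under.forget _
  let cc : Cocone Rs := ((CategoryTheory.Under.forget _).mapCocone (Hensel.nbhdCocone B k)).whisker F
  have hcc : IsColimit cc := (Functor.Final.isColimitWhiskerEquiv F _).symm
    (isColimitOfPreserves _ (Hensel.isColimitNbhdCocone B k))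
  let t : ∀ i, Spec (Rs.obj i) ⟶ Spec (CommRingCat.of k) := fun i =>
    Spec.map (CommRingCat.ofHom ((algebraMap B (F.obj i).N.B).comp (algebraMap k B)))
  have ht : ∀ ⦃i i' : α⦄ (h : i ⟶ i'), Spec.map (Rs.map h) ≫ t i = t i' := fun i i' h => by
    rw [← Spec.map_comp]
    exact congrArg (fun φ => Spec.map (CommRingCat.ofHom φ))
      (RingHom.ext fun x => (F.map h).1.commutes (algebraMap k B x))
  have hA : ∀ i, Spec.map (cc.ι.app i) ≫ t i = sA := fun i => by
    rw [← Spec.map_comp]
    exact congrArg (fun φ => Spec.map (CommRingCat.ofHom φ))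
      (RingHom.ext fun x => (Henz.ofB (F.obj i).N).commutes (algebraMap k B x))
  haveI : ∀ {a b : αᵒᵖ} (h : a ⟶ b), IsAffineHom ((bcStages p Rs t ht).map h) :=
    fun h => isAffineHom_bcStages p Rs t ht h
  -- the map from stage `i` to `X_B`
  let toB : ∀ i, pullback p (t i) ⟶ pullback p (s j) := fun i =>
    pullback.lift (pullback.fst p (t i))
      (pullback.snd p (t i) ≫ Spec.map (CommRingCat.ofHom (algebraMap B (F.obj i).N.B))) (by
        rw [pullback.condition, Category.assoc, ← Spec.map_comp]
        rfl)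
  have htoB : ∀ i, toB i ≫ pullback.fst p (s j) = pullback.fst p (t i) := fun i => pullback.lift_fst _ _ _
  obtain ⟨i₀⟩ := ‹Nonempty α›
  let c := bcCone p Rs cc t sA ht hA
  obtain ⟨ξ₀, hξ₀⟩ := hb.2 (via G (pr c i₀) (pullback.fst p (t i₀)) a (bcCone_fst p Rs cc t sA ht hA i₀) q
    (via G (toB i₀) _ _ (htoB i₀) q ξj))
  let δ := via G (toB i₀) _ _ (htoB i₀) q ξj - EtCore.Hpull (pullback.fst p (t i₀)) G q ξ₀
  obtain ⟨i, hi, hδ⟩ := exists_via_eq_zero (Xs := bcStages p Rs t ht) (fun i => pullback.fst p (t i))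
    (fun i j h => bcStages_fst p Rs t ht h) G c a (fun i => bcCone_fst p Rs cc t sA ht hA i)
    (isLimitBcCone p Rs cc t sA ht hA hcc)
    (fun x => QuasiCompact.compactSpace_of_compactSpace (pullback.snd p (t x.unop)))
    (fun x => quasiSeparatedSpace_of_quasiSeparated (pullback.snd p (t x.unop))) q i₀ δ
    (by
      show via G _ _ _ _ q (_ - _) = 0
      rw [map_sub]
      exact sub_eq_zero.2 (hξ₀.symm.trans (via_Hpull G _ _ _ _ q ξ₀).symm))
  haveI : Nontrivial (F.obj i).N.B := (F.obj i).N.toK.toRingHom.domain_nontrivial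
  obtain ⟨χ⟩ := exists_algHom_of_etale Ω B Subtype.val_injective (F.obj i).N.B
  let m : pullback p sΩ ⟶ pullback p (t i) := pullback.lift (pullback.fst p sΩ)
    (pullback.snd p sΩ ≫ Spec.map (CommRingCat.ofHom χ.toRingHom)) (by
      rw [pullback.condition, Category.assoc, ← Spec.map_comp]
      exact congrArg (fun φ => pullback.snd p sΩ ≫ Spec.map (CommRingCat.ofHom φ))
        (RingHom.ext fun x => (χ.commutes (algebraMap k B x)).symm))
  have hm : m ≫ pullback.fst p (t i) = pullback.fst p sΩ := pullback.lift_fst _ _ _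
  refine ⟨ξ₀, ?_⟩
  have hn : (m ≫ tr (bcStages p Rs t ht) hi) ≫ pullback.fst p (t i₀) = pullback.fst p sΩ :=
    (Category.assoc _ _ _).trans ((congrArg (m ≫ ·) (bcStages_fst p Rs t ht hi)).trans hm)
  have e : (m ≫ tr (bcStages p Rs t ht) hi) ≫ toB i₀ = pr (bcCone p _ (fgCocone k Ω) s sΩ hs hR) j := by
    refine pullback.hom_ext ?_ ?_
    · exact ((Category.assoc _ _ _).trans ((congrArg (_ ≫ ·) (htoB i₀)).trans hn)).trans
        (bcCone_fst p _ _ s sΩ hs hR j).symm
    · simp only [toB, m, tr, bcStages, bcCone, pr, Category.assoc, pullback.lift_snd, pullback.lift_snd_assoc,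
        ← Spec.map_comp]
      exact congrArg (fun φ => pullback.snd p sΩ ≫ Spec.map (CommRingCat.ofHom φ))
        (RingHom.ext fun x => (congrArg χ ((F.map (homOfLE hi)).1.commutes x)).trans (χ.commutes x))
  have h0 := (via_via G (tr (bcStages p Rs t ht) hi) m _ rfl _ _ _ (bcStages_fst p Rs t ht hi) hm hn q δ).symm.trans
    ((congrArg (via G m _ _ hm q) hδ).trans (map_zero _))
  have h1 : via G (m ≫ tr (bcStages p Rs t ht) hi) _ _ hn q (via G (toB i₀) _ _ (htoB i₀) q ξj) =
      via G (m ≫ tr (bcStages p Rs t ht) hi) _ _ hn q (EtCore.Hpull (pullback.fst p (t i₀)) G q ξ₀) :=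
    sub_eq_zero.1 ((map_sub _ _ _).symm.trans h0)
  exact ((via_via G (toB i₀) _ _ e _ _ _ (htoB i₀) hn _ q ξj).symm.trans
    (h1.trans (via_Hpull G _ _ _ hn q ξ₀))).symm

end Groth.Agent.PBCThm
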