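import Groth.Agent.PBCThm.Tors
import Groth.Agent.ClosedAffAcyc.ProperOne
import Groth.Agent.ClosedAffAcyc.Cover
import Groth.Agent.GabberAffine.Main

/-!
# Cohomology of proper schemes over henselian local rings and of their closed fibres
-/

set_option autoImplicit false
set_option linter.style.haveILetI false
set_option linter.unusedSectionVars false
set_option backward.isDefEq.respectTransparency false
set_option backward.isDefEq.respectTransparency.types false

universe u

open CategoryTheory CategoryTheory.Limits AlgebraicGeometry Opposite Abelian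

namespace Groth.Agent.PBCThm

open ClosedAffAcyc

attribute [local instance] EtFound.pull_preservesFiniteLimits

/-- Restriction to closed fibres is bijective over all henselian local rings. -/
def Key {X Y : Scheme.{u}} (f : X ⟶ Y) : Prop :=
  ∀ (A : Type u) [CommRing A] [HenselianLocalRing A] (b : Spec (CommRingCat.of A) ⟶ Y)
    (P : Scheme.{u}) (a : P ⟶ X) (p : P ⟶ Spec (CommRingCat.of A)),
    IsPullback a p f b → ∀ (G : EtCoh.Ab P), EtCoh.IsTorsion G → ∀ q : ℕ,
      Function.Bijective (EtCore.Hpull (closedIncl p) G q)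

theorem Key.baseChange {X Y X' Y' : Scheme.{u}} {f : X ⟶ Y} (hf : Key f) {f' : X' ⟶ Y'} {g' : X' ⟶ X}
    {g : Y' ⟶ Y} (h : IsPullback g' f' f g) : Key f' :=
  fun A _ _ b P a p hP G hG q => hf A (b ≫ g) P (a ≫ g') p (hP.paste_horiz h) G hG q

section criterion

variable {W W' : Scheme.{u}} (g : W' ⟶ W) [CompactSpace W] [QuasiSeparatedSpace W] [QuasiCompact g]
  [QuasiSeparated g]

/-- Bijectivity in degree zero and acyclicity of torsion parts of injectives give bijectivity in all degrees. -/
theorem bijective_Hpull_of_tors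
    (h0 : ∀ F : EtCoh.Ab W, EtCoh.IsTorsion F → Function.Bijective (EtCore.Hpull g F 0))
    (hJ : ∀ (J : EtCoh.Ab W) [Injective J] (n : ℕ), 0 < n → ∀ q : ℕ,
      Subsingleton (EtCoh.H W' ((EtCoh.pull g).obj (tors n J)) (q + 1))) :
    ∀ (q : ℕ) (F : EtCoh.Ab W), EtCoh.IsTorsion F → Function.Bijective (EtCore.Hpull g F q) := by
  intro q
  induction q with
  | zero => exact h0
  | succ q ih =>
    intro F hF
    refine ⟨AcycFin.injective_succ g q (L := Set.univ)
        (fun G hG => (ih G (GabberAffine.isTorsion_of_univ hG)).2)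
        (fun G hG => (ih G (GabberAffine.isTorsion_of_univ hG)).1) F (GabberAffine.isLTorsion_univ hF),
      AcycFin.surjective_torsion g (q + 1) (L := Set.univ) (fun E m _ hm hEm => ?_) F
        (GabberAffine.isLTorsion_univ hF)⟩
    haveI := mono_toTors m E hEm
    let S : ShortComplex (EtCoh.Ab W) :=
      ShortComplex.mk (toTors m E hEm) (cokernel.π (toTors m E hEm)) (cokernel.condition _)
    have hS : S.ShortExact :=
      { exact := ShortComplex.exact_of_g_is_cokernel _ (cokernelIsCokernel _)
        mono_f := inferInstanceAs (Mono (toTors m E hEm))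
        epi_g := inferInstanceAs (Epi (cokernel.π _)) }
    haveI : Epi S.g := hS.epi_g
    have hQ : EtCoh.IsTorsion S.X₃ := GabberAffine.isTorsion_of_univ
      (S8536.isLTorsion_of_epi Set.univ S.g (GabberAffine.isLTorsion_univ (isTorsion_tors hm.1 _)))
    intro ξ
    haveI := hJ (Injective.under E) m hm.1 q
    obtain ⟨η, hη⟩ := Ext.covariant_sequence_exact₁ _ (hS.map_of_exact (EtCoh.pull g)) ξ
      (Subsingleton.elim (α := EtCoh.H W' ((EtCoh.pull g).obj (tors m (Injective.under E))) (q + 1)) _ _)
      (rfl : q + 1 = q + 1)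
    obtain ⟨η', rfl⟩ := (ih S.X₃ hQ).2 η
    exact ⟨η'.comp hS.extClass rfl, (S8536.Hpull_comp_extClass g hS q η').trans hη⟩

end criterion

/-- Over a henselian local ring, restriction is bijective once torsion parts of injectives are acyclic on the
closed fibre. -/
theorem bijective_closedIncl_of_tors {A : Type u} [CommRing A] [HenselianLocalRing A] {P : Scheme.{u}}
    (p : P ⟶ Spec (CommRingCat.of A)) [IsProper p]
    (hJ : ∀ (J : EtCoh.Ab P) [Injective J] (n : ℕ), 0 < n → ∀ q : ℕ,
      Subsingleton (EtCoh.H _ ((EtCoh.pull (closedIncl p)).obj (tors n J)) (q + 1)))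
    (G : EtCoh.Ab P) (hG : EtCoh.IsTorsion G) (q : ℕ) :
    Function.Bijective (EtCore.Hpull (closedIncl p) G q) := by
  haveI : IsClosedImmersion (Spec.map (CommRingCat.ofHom (IsLocalRing.residue A))) :=
    IsClosedImmersion.spec_of_surjective _ Ideal.Quotient.mk_surjective
  haveI : CompactSpace P := QuasiCompact.compactSpace_of_compactSpace p
  haveI : QuasiSeparatedSpace P := quasiSeparatedSpace_of_quasiSeparated p
  exact bijective_Hpull_of_tors (closedIncl p)
    (fun F hF => bijective_Hpull_torsion p F (GabberAffine.isLTorsion_univ hF) 0 (Nat.zero_le 1)) hJ q G hG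

/-- The key property for proper schemes covered by two affines over an affine base. -/
theorem key_of_two {X Y : Scheme.{u}} (f : X ⟶ Y) [IsProper f] [IsAffine Y] (W : Fin (1 + 1) → X.Opens)
    (hW : ∀ k, IsAffineOpen (W k)) (hcov : ⨆ k, W k = ⊤) : Key f := by
  intro A _ _ b P a p hP G hG q
  haveI : IsProper p := MorphismProperty.of_isPullback (P := @IsProper) hP inferInstance
  haveI : IsAffineHom a := MorphismProperty.of_isPullback (P := @IsAffineHom) hP.flip inferInstance
  haveI : IsClosedImmersion (Spec.map (CommRingCat.ofHom (IsLocalRing.residue A))) :=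
    IsClosedImmersion.spec_of_surjective _ Ideal.Quotient.mk_surjective
  haveI : P.IsSeparated := ⟨by rw [← terminal.comp_from p]; infer_instance⟩
  refine bijective_closedIncl_of_tors p (fun J _ n hn r => ?_) G hG q
  rcases Nat.eq_zero_or_pos r with rfl | hr
  · haveI := subsingleton_H_tors hn J 0
    exact (bijective_Hpull_torsion p (tors n J) (GabberAffine.isLTorsion_univ (isTorsion_tors hn J)) 1
      le_rfl).2.subsingleton
  · exact subsingleton_H_cover 1 P (fun U V hU hV => hU.inf hV) (fun k => a ⁻¹ᵁ W k)
      (fun k => (hW k).preimage a) (by rw [← Scheme.Hom.preimage_iSup, hcov, Scheme.Hom.preimage_top]) _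
      (tors n J) (isTorsion_tors hn J) (affAcyclic_tors hn J) (r + 1) (by omega)

end Groth.Agent.PBCThm
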