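import Groth.Agent.PBCThm.Bounded
import Groth.Agent.EtModLib.PullAb
import Groth.Agent.EtModLib.ExactAb
import Groth.Agent.TriCat.RightDerivedBridge
import Groth.Agent.EtLC12.FlasqueAcyclic
import Groth.Agent.EtLC12.RpushTorsion
import Groth.Agent.S6620
import Groth.Prelude.Def_EtDl

/-!
# Bounded below derived functors on sheaves of modules, on underlying abelian sheaves
-/

set_option autoImplicit false
set_option linter.style.haveILetI false
set_option linter.unusedSectionVars false
set_option backward.isDefEq.respectTransparency false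
set_option backward.isDefEq.respectTransparency.types false
set_option maxHeartbeats 1000000

universe w w' v' v u' u

open CategoryTheory CategoryTheory.Limits AlgebraicGeometry Opposite

attribute [local instance] HasDerivedCategory.standard

noncomputable section

namespace Groth.Agent.PBCThm

section abstract

variable {A : Type u} [Category.{v} A] [Abelian A] [EnoughInjectives A] {B : Type u'} [Category.{v'} B]
  [Abelian B] (F : A ⥤ B) [F.Additive] [PreservesFiniteLimits F]

/-- Vanishing on the cycles of a bounded below complex of acyclics, from vanishing on its cohomology. -/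
theorem isZero_rightDerived_cycles (T : CochainComplex A ℤ) (a : ℤ) [T.IsStrictlyGE a]
    (hT : ∀ m, TriCat.IsRightAcyclic F (T.X m)) (N : ℕ)
    (hH : ∀ m q, N < q → IsZero ((F.rightDerived q).obj (T.homology m))) (m : ℤ) (q : ℕ) (hq : N < q) :
    IsZero ((F.rightDerived q).obj (kernel (T.d m (m + 1)))) := by
  letI := HasDerivedCategory.standard A
  letI := HasDerivedCategory.standard B
  suffices ∀ (k : ℕ) (m : ℤ), m < a + k → ∀ q, N < q → IsZero ((F.rightDerived q).obj (kernel (T.d m (m + 1)))) from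
    this (m - a + 1).toNat m (by omega) q hq
  intro k
  induction k with
  | zero =>
    intro m hm q _
    exact Functor.map_isZero _ (IsZero.of_mono (kernel.ι (T.d m (m + 1))) (T.isZero_of_isStrictlyGE a m (by omega)))
  | succ k ih =>
    intro m hm q hq
    obtain ⟨l, rfl⟩ : ∃ l, m = l + 1 := ⟨m - 1, by omega⟩
    let p : T.X l ⟶ kernel (T.d (l + 1) (l + 1 + 1)) := kernel.lift _ (T.d l (l + 1)) (T.d_comp_d _ _ _)
    let S₁ : ShortComplex A := ShortComplex.mk (kernel.ι p) (Abelian.factorThruImage p)
      ((cancel_mono (Abelian.image.ι p)).1 (by rw [Category.assoc, Abelian.image.fac, kernel.condition, zero_comp]))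
    have hS₁ : S₁.ShortExact :=
      { exact := ShortComplex.exact_of_f_is_kernel _ (KernelFork.IsLimit.ofι' _ _ fun {W} k hk =>
          ⟨kernel.lift p k (by
            rw [← Abelian.image.fac p, ← Category.assoc, show k ≫ Abelian.factorThruImage p = 0 from hk, zero_comp]),
            kernel.lift_ι _ _ _⟩)
        mono_f := inferInstanceAs (Mono (kernel.ι p))
        epi_g := inferInstanceAs (Epi (Abelian.factorThruImage p)) }
    obtain ⟨δ, w₁, w₂, w₃, -, h₂, -⟩ := TriCat.exists_rightDerived_ses F hS₁ q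
    have e : kernel p ≅ kernel (T.d l (l + 1)) :=
      (kernelCompMono p (kernel.ι _)).symm ≪≫ kernelIsoOfEq (by rw [kernel.lift_ι])
    have zB : IsZero ((F.rightDerived q).obj (Abelian.image p)) :=
      h₂.isZero_of_both_zeros ((hT l q (by omega)).eq_of_src _ _)
        ((IsZero.of_iso (ih l (by omega) (q + 1) (by omega)) ((F.rightDerived (q + 1)).mapIso e)).eq_of_tgt _ _)
    let S₂ : ShortComplex A := ShortComplex.mk (Abelian.image.ι p) (cokernel.π p) (kernel.condition _)
    have hS₂ : S₂.ShortExact :=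
      { exact := ShortComplex.exact_of_f_is_kernel _ (kernelIsKernel (cokernel.π p))
        mono_f := inferInstanceAs (Mono (Abelian.image.ι p))
        epi_g := inferInstanceAs (Epi (cokernel.π p)) }
    let eH : cokernel p ≅ T.homology (l + 1) :=
      (ShortComplex.LeftHomologyData.ofHasKernelOfHasCokernel (T.sc' l (l + 1) (l + 1 + 1))).homologyIso.symm ≪≫
        (T.homologyIsoSc' l (l + 1) (l + 1 + 1) (by simp) (by simp)).symm
    obtain ⟨δ', w₁', w₂', w₃', h₁', -, -⟩ := TriCat.exists_rightDerived_ses F hS₂ q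
    exact h₁'.isZero_of_both_zeros (zB.eq_of_src _ _)
      ((IsZero.of_iso (hH (l + 1) q hq) ((F.rightDerived q).mapIso eH)).eq_of_tgt _ _)

/-- Amplitude of the image of a bounded below complex of acyclics. -/
theorem isZero_homology_map_of_homology (T : CochainComplex A ℤ) (a : ℤ) [T.IsStrictlyGE a]
    (hT : ∀ m, TriCat.IsRightAcyclic F (T.X m)) (N : ℕ) (b : ℤ) (hb : ∀ m, b < m → T.ExactAt m)
    (hH : ∀ m q, N < q → IsZero ((F.rightDerived q).obj (T.homology m))) (i : ℤ) (hi : b + N < i) :
    IsZero (((F.mapHomologicalComplex (ComplexShape.up ℤ)).obj T).homology i) :=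
  isZero_homology_map F T hT N b hb (fun m q hq => isZero_rightDerived_cycles F T a hT N hH m q hq) i hi

end abstract

section plus

variable {C : Type u} [Category.{v} C] [Abelian C] [HasDerivedCategory.{w} C] [EnoughInjectives C]
  {D : Type u'} [Category.{v'} D] [Abelian D] [HasDerivedCategory.{w'} D]

/-- An injective model of an object and of its derived image. -/
theorem exists_inj_model (F : C ⥤ D) [F.Additive] (K : DerivedCategory.Plus C) (a : ℤ) [K.IsGE a] :
    ∃ I : CochainComplex C ℤ, I.IsStrictlyGE a ∧ (∀ m, Injective (I.X m)) ∧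
      (∀ i, Nonempty ((DerivedCategory.Plus.homologyFunctor C i).obj K ≅ I.homology i)) ∧
      (∀ i, Nonempty ((DerivedCategory.Plus.homologyFunctor D i).obj (F.rightDerivedFunctorPlus.obj K) ≅
        ((F.mapHomologicalComplex (ComplexShape.up ℤ)).obj I).homology i)) := by
  obtain ⟨L, hL, ⟨e⟩⟩ := DerivedCategory.Plus.exists_injective_nonempty_iso K a
  let e' := F.rightDerivedFunctorPlus.mapIso e.symm ≪≫
    (Groth.Agent.TriCat.rightDerivedPlusIso C F).app
      ((HomotopyCategory.Plus.quotient (InjectiveObject C)).obj L)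
  let I := ((InjectiveObject.ι C).mapHomologicalComplex (ComplexShape.up ℤ)).obj L.obj
  refine ⟨I, inferInstance, fun m => (L.obj.X m).property, fun i => ⟨?_⟩, fun i => ⟨?_⟩⟩
  · exact (DerivedCategory.homologyFunctor C i).mapIso (DerivedCategory.Plus.ι.mapIso e.symm ≪≫
      (DerivedCategory.quotientCompQhIso C).app I) ≪≫ (DerivedCategory.homologyFunctorFactors C i).app I
  · exact (DerivedCategory.homologyFunctor D i).mapIso (DerivedCategory.Plus.ι.mapIso e' ≪≫
      (DerivedCategory.quotientCompQhIso D).app _) ≪≫ (DerivedCategory.homologyFunctorFactors D i).app _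

/-- Exact functors commute with cohomology on bounded below derived categories. -/
theorem nonempty_homology_plus_exact (G : C ⥤ D) [G.Additive] [PreservesFiniteLimits G] [PreservesFiniteColimits G]
    (K : DerivedCategory.Plus C) (a : ℤ) [K.IsGE a] (i : ℤ) :
    Nonempty ((DerivedCategory.Plus.homologyFunctor D i).obj (G.rightDerivedFunctorPlus.obj K) ≅
      G.obj ((DerivedCategory.Plus.homologyFunctor C i).obj K)) := by
  obtain ⟨I, -, -, h₁, h₂⟩ := exists_inj_model G K a
  exact ⟨(h₂ i).some ≪≫ (I.sc i).mapHomologyIso G ≪≫ G.mapIso (h₁ i).some.symm⟩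

end plus

section etale

variable (Λ : Type (u + 1)) [CommRing Λ]

theorem preservesFiniteLimits_forget (X : Scheme.{u}) : PreservesFiniteLimits (EtModD.forgetToAb Λ X) :=
  (EtModLib.preserves_toAb (Λ := Λ) X.smallEtaleTopology).1

theorem preservesFiniteColimits_forget (X : Scheme.{u}) : PreservesFiniteColimits (EtModD.forgetToAb Λ X) :=
  (EtModLib.preserves_toAb (Λ := Λ) X.smallEtaleTopology).2

theorem additive_forget (X : Scheme.{u}) : (EtModD.forgetToAb Λ X).Additive :=
  haveI := preservesFiniteLimits_forget Λ X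
  Functor.additive_of_preserves_binary_products _

/-- Underlying abelian sheaves of sheaves of modules over a torsion ring are torsion. -/
theorem isTorsion_forget {X : Scheme.{u}} (n : ℕ) (hn : 0 < n) (hΛ : (n : Λ) = 0) (M : EtModW.Mod Λ X) :
    EtCoh.IsTorsion ((EtModD.forgetToAb Λ X).obj M) := by
  intro U s x
  refine ⟨U, 𝟙 U, ⟨x, rfl⟩, isOfFinAddOrder_iff_nsmul_eq_zero.2 ⟨n, hn, ?_⟩⟩
  let t : M.obj.obj (op U) := ((EtModD.forgetToAb Λ X).obj M).obj.map (𝟙 U).op s
  show n • t = 0
  rw [← Nat.cast_smul_eq_nsmul Λ, hΛ, zero_smul]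

/-- Direct images commute with underlying abelian sheaves. -/
def pushForgetIso {X Y : Scheme.{u}} (f : X ⟶ Y) :
    EtModW.push Λ f ⋙ EtModD.forgetToAb Λ Y ≅ EtModD.forgetToAb Λ X ⋙ EtCoh.push f :=
  NatIso.ofComponents (fun M => Iso.refl _)

/-- Extensions by zero commute with underlying abelian sheaves. -/
theorem nonempty_extZero_forget {U X : Scheme.{u}} (j : U ⟶ X) [IsOpenImmersion j] [EtShriek.JCont j] :
    Nonempty (EtModD.forgetToAb Λ U ⋙ EtShriek.extZero j ≅ EtDl.extZeroMod Λ j ⋙ EtModD.forgetToAb Λ X) :=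
  EtModLib.exists_toAb_leftAdjoint_iso (EtShriek.compEtale j) (EtDl.extZeroModAdj Λ j) (EtShriek.extZeroAdj j)

theorem preservesFiniteLimits_extZeroMod {U X : Scheme.{u}} (j : U ⟶ X) [IsOpenImmersion j] [EtShriek.JCont j] :
    PreservesFiniteLimits (EtDl.extZeroMod Λ j) := by
  haveI := EtFound.extZero_preservesFiniteLimits j
  haveI := preservesFiniteLimits_forget Λ U
  haveI := preservesFiniteLimits_forget Λ X
  haveI : PreservesFiniteLimits (EtDl.extZeroMod Λ j ⋙ EtModD.forgetToAb Λ X) :=
    preservesFiniteLimits_of_natIso (nonempty_extZero_forget Λ j).some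
  exact preservesFiniteLimits_of_reflects_of_preserves _ (EtModD.forgetToAb Λ X)

/-- Underlying abelian sheaves of injective sheaves of modules are acyclic for direct images. -/
theorem isRightAcyclic_forget {X Y : Scheme.{u}} (f : X ⟶ Y) [QuasiCompact f] [QuasiSeparated f]
    (I : EtModW.Mod Λ X) [Injective I] :
    TriCat.IsRightAcyclic (EtCoh.push f) ((EtModD.forgetToAb Λ X).obj I) := fun q hq => by
  obtain ⟨k, rfl⟩ := Nat.exists_eq_succ_of_ne_zero hq.ne'
  exact EtLC12.RpushTorsion.isZero_Rpush_of_isCechAcyclic f _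
    (fun U _ ι _ Uf _ _ p => EtLC12.FlasqueAcyclic.isCechAcyclic_forgetToAb Λ I U ι Uf p) k

/-- Amplitude of the derived direct image of sheaves of modules. -/
theorem isZero_homology_pushPlus {X Y : Scheme.{u}} (f : X ⟶ Y) [QuasiCompact f] [QuasiSeparated f]
    (K : DerivedCategory.Plus (EtModW.Mod Λ X)) (a b : ℤ) [K.IsGE a] (N : ℕ)
    (hb : ∀ m, b < m → IsZero ((DerivedCategory.Plus.homologyFunctor _ m).obj K))
    (hH : ∀ m q, N < q → IsZero ((EtCoh.Rpush f q).obj
      ((EtModD.forgetToAb Λ X).obj ((DerivedCategory.Plus.homologyFunctor _ m).obj K))))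
    (i : ℤ) (hi : b + N < i) :
    IsZero ((DerivedCategory.Plus.homologyFunctor _ i).obj ((EtDl.pushPlus Λ f).obj K)) := by
  haveI := preservesFiniteLimits_forget Λ X
  haveI := preservesFiniteLimits_forget Λ Y
  haveI := preservesFiniteColimits_forget Λ X
  haveI := preservesFiniteColimits_forget Λ Y
  haveI := additive_forget Λ X
  haveI := additive_forget Λ Y
  haveI := EtFound.push_preservesFiniteLimits f
  haveI : (EtCoh.push f).Additive := (EtCoh.pullPushAdj f).right_adjoint_additive
  obtain ⟨I, hI₁, hI₂, h₁, h₂⟩ := exists_inj_model (EtModW.push Λ f) K a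
  let G := (EtModD.forgetToAb Λ X).mapHomologicalComplex (ComplexShape.up ℤ)
  haveI : CochainComplex.IsStrictlyGE (G.obj I) a := by
    rw [CochainComplex.isStrictlyGE_iff]
    exact fun m hm => (EtModD.forgetToAb Λ X).map_isZero (I.isZero_of_isStrictlyGE a m hm)
  let eH : ∀ m, (G.obj I).homology m ≅ (EtModD.forgetToAb Λ X).obj ((DerivedCategory.Plus.homologyFunctor _ m).obj K) :=
    fun m => (I.sc m).mapHomologyIso (EtModD.forgetToAb Λ X) ≪≫ (EtModD.forgetToAb Λ X).mapIso (h₁ m).some.symm
  have hz := isZero_homology_map_of_homology (EtCoh.push f) (G.obj I) a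
    (fun m => haveI := hI₂ m; isRightAcyclic_forget Λ f (I.X m)) N b
    (fun m hm => (HomologicalComplex.exactAt_iff_isZero_homology _ _).2
      (IsZero.of_iso (Functor.map_isZero _ (hb m hm)) (eH m)))
    (fun m q hq => IsZero.of_iso (hH m q hq) ((EtCoh.Rpush f q).mapIso (eH m))) i hi
  have hz' : IsZero ((EtModD.forgetToAb Λ Y).obj
      (((EtModW.push Λ f).mapHomologicalComplex (ComplexShape.up ℤ)).obj I |>.homology i)) :=
    IsZero.of_iso hz (((((EtModW.push Λ f).mapHomologicalComplex (ComplexShape.up ℤ)).obj I).sc i).mapHomologyIso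
      (EtModD.forgetToAb Λ Y)).symm
  refine IsZero.of_iso ?_ (h₂ i).some
  rw [IsZero.iff_id_eq_zero] at hz' ⊢
  apply EtModLib.toAb_map_injective
  exact ((EtModD.forgetToAb Λ Y).map_id _).trans (hz'.trans ((EtModD.forgetToAb Λ Y).map_zero _ _).symm)

/-- Amplitude of `Rf_!` on sheaves of modules over a torsion ring. -/
theorem isZero_homology_RshriekPlus {X S : Scheme.{u}} {f : X ⟶ S} (c : DEt.Compactification f) (d : ℕ)
    (hdim : ∀ s : S, topologicalKrullDim ↥(f.fiber s) ≤ d) (n : ℕ) (hn : 0 < n) (hΛ : (n : Λ) = 0)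
    (K : DerivedCategory.Plus (EtModW.Mod Λ X)) (b : ℤ)
    (hK : ∀ m, b < m → IsZero ((DerivedCategory.Plus.homologyFunctor _ m).obj K)) (i : ℤ) (hi : b + 2 * d < i) :
    IsZero ((DerivedCategory.Plus.homologyFunctor _ i).obj ((EtDl.RshriekPlus Λ c).obj K)) := by
  obtain ⟨a, ha⟩ : ∃ a, K.IsGE a := by
    obtain ⟨a, h⟩ := K.property
    exact ⟨a, (DerivedCategory.Plus.isGE_ι_obj_iff K a).1 h⟩
  haveI := preservesFiniteLimits_extZeroMod Λ c.j
  let E := (EtDl.extZeroPlus Λ c.j).obj K
  haveI : E.IsGE a := S6620.result (EtDl.extZeroMod Λ c.j) K a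
  have e := fun m => nonempty_homology_plus_exact (EtDl.extZeroMod Λ c.j) K a m
  refine isZero_homology_pushPlus Λ c.fbar E a b (2 * d)
    (fun m hm => IsZero.of_iso (Functor.map_isZero _ (hK m hm)) (e m).some) (fun m q hq => ?_) i (by omega)
  refine IsZero.of_iso (isZero_Rpush_extZero c.j c.fbar d (by rw [c.fac]; exact hdim) _
    (isTorsion_forget Λ n hn hΛ ((DerivedCategory.Plus.homologyFunctor _ m).obj K)) q hq) ?_
  exact (EtCoh.Rpush c.fbar q).mapIso ((EtModD.forgetToAb Λ c.Xbar).mapIso (e m).some ≪≫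
    ((nonempty_extZero_forget Λ c.j).some.app _).symm)

end etale

end Groth.Agent.PBCThm
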