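import Groth.Agent.PBCThm.PlusBC
import Groth.Agent.PBCThm.ModPlus
import Groth.Agent.EtBCD5.Indep
import Groth.Agent.EtLC12.ModPullExact

/-!
# Proper base change for bounded below complexes of sheaves of modules
-/

set_option autoImplicit false
set_option linter.style.haveILetI false
set_option linter.unusedSectionVars false
set_option backward.isDefEq.respectTransparency false
set_option backward.isDefEq.respectTransparency.types false
set_option maxHeartbeats 1000000

universe u

open CategoryTheory CategoryTheory.Limits AlgebraicGeometry Opposite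

attribute [local instance] HasDerivedCategory.standard Groth.Agent.EtFound.pull_preservesFiniteLimits

noncomputable section

namespace Groth.Agent.PBCThm

open EtBCD5

variable (Λ : Type (u + 1)) [CommRing Λ]

/-- The degree zero base change morphism of sheaves of modules is invertible. -/
theorem isIso_baseChange0Mod {X Y X' Y' : Scheme.{u}} (f : X ⟶ Y) (g : Y' ⟶ Y) (f' : X' ⟶ Y') (g' : X' ⟶ X)
    (h : IsPullback g' f' f g) [IsProper f] (F : EtModW.Mod Λ X) :
    IsIso (EtSix.baseChange0Mod Λ f g f' g' h.w F) := by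
  haveI : PreservesFilteredColimitsOfSize.{u, u} (forget (ModuleCat.{u + 1} Λ)) :=
    preservesFilteredColimitsOfSize_of_univLE.{u + 1, u + 1, u, u} _
  haveI : HasLimitsOfSize.{u, u} (ModuleCat.{u + 1} Λ) := ModuleCat.hasLimitsOfSize.{u, u, u + 1, u + 1}
  haveI : HasProducts.{u} (ModuleCat.{u + 1} Λ) := fun J => inferInstance
  refine H0PBC.isIso_baseChange_of_proper (A := ModuleCat.{u + 1} Λ) h F _ fun V => ?_
  have hu := ((EtSix.pullPushModAdj Λ g).homEquiv _ _).apply_symm_apply
    ((EtSix.pushToPushPullMod Λ f g f' g' h.w).app F)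
  rw [Adjunction.homEquiv_unit] at hu
  refine (congr(($hu).hom.app (op V))).trans ?_
  simp [EtFound.bcSquare, EtSix.pushToPushPullMod, EtSix.pushModComp, EtSix.pushModCongr]

variable {X S X' S' : Scheme.{u}} {f : X ⟶ S} {g : S' ⟶ S} {f' : X' ⟶ S'} {g' : X' ⟶ X} [IsProper f]

/-- Underlying abelian sheaves of resolutions of inverse images push forward to quasi-isomorphisms. -/
theorem quasiIso_push_forget (c : IsPullback g' f' f g) (a : ℤ) (I : CochainComplex (EtModW.Mod Λ X) ℤ)
    [I.IsStrictlyGE a] (hI : ∀ m, Injective (I.X m))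
    (hIt : ∀ m, EtCoh.IsTorsion ((EtModD.forgetToAb Λ X).obj (I.homology m)))
    (J : CochainComplex (EtModW.Mod Λ X') ℤ) [J.IsStrictlyGE a] (hJ : ∀ m, Injective (J.X m))
    (s : ((EtModW.pull Λ g').mapHomologicalComplex (ComplexShape.up ℤ)).obj I ⟶ J) [QuasiIso s] :
    QuasiIso (((EtModW.push Λ f').mapHomologicalComplex (ComplexShape.up ℤ)).map s) := by
  haveI : IsProper f' := MorphismProperty.of_isPullback (P := @IsProper) c ‹_›
  haveI := preservesFiniteLimits_forget Λ X
  haveI := preservesFiniteLimits_forget Λ X'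
  haveI := preservesFiniteLimits_forget Λ S'
  haveI := preservesFiniteColimits_forget Λ X
  haveI := preservesFiniteColimits_forget Λ X'
  haveI := preservesFiniteColimits_forget Λ S'
  haveI := additive_forget Λ X
  haveI := additive_forget Λ X'
  haveI := additive_forget Λ S'
  haveI : (EtCoh.push f).Additive := (EtCoh.pullPushAdj f).right_adjoint_additive
  haveI : (EtCoh.push f').Additive := (EtCoh.pullPushAdj f').right_adjoint_additive
  haveI : (EtCoh.pull g').Additive := (EtCoh.pullPushAdj g').left_adjoint_additive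
  let T := (EtModD.forgetToAb Λ X).mapHomologicalComplex (ComplexShape.up ℤ)
  let T' := (EtModD.forgetToAb Λ X').mapHomologicalComplex (ComplexShape.up ℤ)
  obtain ⟨e⟩ := EtModLib.exists_toAb_leftAdjoint_iso (EtCoh.bc g') (EtSix.pullPushModAdj Λ g') (EtCoh.pullPushAdj g')
  let eC : (pullC g').obj (T.obj I) ≅ T'.obj (((EtModW.pull Λ g').mapHomologicalComplex (ComplexShape.up ℤ)).obj I) :=
    (NatIso.mapHomologicalComplex e (ComplexShape.up ℤ)).app I
  let sA : (pullC g').obj (T.obj I) ⟶ T'.obj J := eC.hom ≫ T'.map s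
  haveI : CochainComplex.IsStrictlyGE (T.obj I) a := by
    rw [CochainComplex.isStrictlyGE_iff]
    exact fun i hi => (EtModD.forgetToAb Λ X).map_isZero (I.isZero_of_isStrictlyGE a i hi)
  haveI : CochainComplex.IsStrictlyGE (T'.obj J) a := by
    rw [CochainComplex.isStrictlyGE_iff]
    exact fun i hi => (EtModD.forgetToAb Λ X').map_isZero (J.isZero_of_isStrictlyGE a i hi)
  have hinj : ∀ {Z : Scheme.{u}} (K : Cx Z) [K.IsStrictlyGE a], ∃ (W : Cx Z) (r : K ⟶ W), W.IsStrictlyGE a ∧
      (∀ n, Injective (W.X n)) ∧ (∀ n, Mono (r.f n)) ∧ QuasiIso r := fun {Z} K _ =>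
    TriCat.exists_quasiIso_resolution (fun A : EtCoh.Ab Z => Injective A)
      ⟨_, isZero_zero _, IsZero.injective (isZero_zero _)⟩
      (fun A => ⟨Injective.under A, Injective.ι A, inferInstance, inferInstance⟩) K a
  obtain ⟨W, r, hW1, hW2, hrm, hr⟩ := hinj (T.obj I)
  haveI : CochainComplex.IsStrictlyGE ((pullC g').obj W) a := by
    rw [CochainComplex.isStrictlyGE_iff]
    exact fun i hi => (EtCoh.pull g').map_isZero (W.isZero_of_isStrictlyGE a i hi)
  obtain ⟨V, t, hV1, hV2, htm, ht⟩ := hinj ((pullC g').obj W)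
  obtain ⟨V', v, hV1', hV2', hvm, hv⟩ := hinj (T'.obj J)
  haveI : V.IsKInjective := CochainComplex.isKInjective_of_injective V a
  haveI : V'.IsKInjective := CochainComplex.isKInjective_of_injective V' a
  haveI : ∀ m, IsIso (HomologicalComplex.homologyMap r m) := fun m =>
    (quasiIsoAt_iff_isIso_homologyMap r m).1 (hr.quasiIsoAt m)
  have hWt : ∀ m, EtCoh.IsTorsion (W.homology m) := fun m =>
    isTorsion_of_iso ((I.sc m).mapHomologyIso (EtModD.forgetToAb Λ X)).symm (hIt m) |> isTorsion_of_iso
      (@asIso _ _ _ _ (HomologicalComplex.homologyMap r m) inferInstance)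
  have h₁ := quasiIso_bcC c W a hWt t htm
  haveI : QuasiIso ((pullC g').map r) := quasiIso_pullC g' r
  haveI : QuasiIso ((pushC f).map r) := TriCat.quasiIso_map_of_adapted (isAdapted_acyclic f) r hrm a
    (fun m => haveI := hI m; isRightAcyclic_forget Λ f (I.X m)) (fun m => TriCat.isRightAcyclic_of_injective _)
  haveI : QuasiIso ((pullC g).map ((pushC f).map r)) := quasiIso_pullC g _
  have e₂ : bcC f g f' g' c.w (T.obj I) ((pullC g').map r ≫ t) =
      (pullC g).map ((pushC f).map r) ≫ bcC f g f' g' c.w W t := by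
    have hn := (bc0C f g f' g' c.w).naturality r
    show (bc0C f g f' g' c.w).app (T.obj I) ≫ (pushC f').map _ = _ ≫ (bc0C f g f' g' c.w).app W ≫ (pushC f').map t
    rw [Functor.map_comp, ← Category.assoc, ← Category.assoc]
    exact congrArg (· ≫ (pushC f').map t) hn.symm
  have h₂ : QuasiIso (bcC f g f' g' c.w (T.obj I) ((pullC g').map r ≫ t)) := by
    rw [e₂]; infer_instance
  haveI : QuasiIso (T'.map s) := inferInstance
  haveI : QuasiIso sA := inferInstance
  have h₃ := quasiIso_bcC_indep f g f' g' c.w (T.obj I) ((pullC g').map r ≫ t) (sA ≫ v) h₂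
  haveI : ∀ m, IsIso (((bc0C f g f' g' c.w).app (T.obj I)).f m) := fun m => S0157.result f f' g' g c _
  haveI : IsIso ((bc0C f g f' g' c.w).app (T.obj I)) := HomologicalComplex.Hom.isIso_of_components _
  haveI h₄ : QuasiIso ((pushC f').map (sA ≫ v)) := by
    haveI : QuasiIso ((bc0C f g f' g' c.w).app (T.obj I) ≫ (pushC f').map (sA ≫ v)) := h₃
    exact quasiIso_of_comp_left ((bc0C f g f' g' c.w).app (T.obj I)) _
  haveI : QuasiIso ((pushC f').map v) := TriCat.quasiIso_map_of_adapted (isAdapted_acyclic f') v hvm a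
    (fun m => haveI := hJ m; isRightAcyclic_forget Λ f' (J.X m)) (fun m => TriCat.isRightAcyclic_of_injective _)
  haveI : QuasiIso ((pushC f').map eC.hom ≫ (pushC f').map (T'.map s) ≫ (pushC f').map v) := by
    rw [← Functor.map_comp, ← Functor.map_comp, ← Category.assoc]; exact h₄
  haveI : QuasiIso ((pushC f').map (T'.map s) ≫ (pushC f').map v) :=
    quasiIso_of_comp_left ((pushC f').map eC.hom) _
  haveI h₅ : QuasiIso ((pushC f').map (T'.map s)) := quasiIso_of_comp_right _ ((pushC f').map v)
  exact (HomologicalComplex.quasiIso_map_iff_of_preservesHomology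
    (((EtModW.push Λ f').mapHomologicalComplex (ComplexShape.up ℤ)).map s) (EtModD.forgetToAb Λ S')).1 h₅

/-- Proper base change for bounded below complexes of sheaves of modules with torsion cohomology. -/
theorem isIso_bcMapMod (c : IsPullback g' f' f g)
    (adj : (EtModW.pull Λ g).rightDerivedFunctorPlus ⊣ (EtModW.push Λ g).rightDerivedFunctorPlus)
    (K : DerivedCategory.Plus (EtModW.Mod Λ X))
    (hK : ∀ i : ℤ, EtCoh.IsTorsion ((EtModD.forgetToAb Λ X).obj
      ((DerivedCategory.Plus.homologyFunctor (EtModW.Mod Λ X) i).obj K))) :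
    IsIso (EtSix.bcMapMod Λ f g f' g' c.w adj K) := by
  haveI := EtLC12.ModPullExact.pull_preservesFiniteLimits Λ g
  haveI := EtLC12.ModPullExact.pull_preservesFiniteLimits Λ g'
  haveI := EtBC.pullMod_preservesFiniteColimits Λ g
  haveI := EtBC.pullMod_preservesFiniteColimits Λ g'
  obtain ⟨a, ha⟩ : ∃ a, K.IsGE a := by
    obtain ⟨a, h⟩ := K.property
    exact ⟨a, (DerivedCategory.Plus.isGE_ι_obj_iff K a).1 h⟩
  obtain ⟨L₀, hL₀, ⟨e⟩⟩ := DerivedCategory.Plus.exists_injective_nonempty_iso K a
  let I := (InjectiveObject.ι (EtModW.Mod Λ X)).mapCochainComplexPlus.obj L₀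
  obtain ⟨L₁, s, hs, -⟩ := TriCat.exists_mono_injective_resolution ((EtModW.pull Λ g').mapCochainComplexPlus.obj I)
  let J := (InjectiveObject.ι (EtModW.Mod Λ X')).mapCochainComplexPlus.obj L₁
  haveI := hs
  have hI : ∀ n, Injective (I.obj.X n) := fun n => (L₀.obj.X n).property
  have hJ : ∀ n, Injective (J.obj.X n) := fun n => (L₁.obj.X n).property
  suffices h0 : IsIso ((adj.homEquiv _ _).symm ((EtSix.bcAdjMod Λ f g f' g' c.w ≫
      (Functor.associator _ _ _).inv).app K)) by
    simpa [EtSix.bcMapMod] using h0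
  refine PlusBC.isIso_bcMap_of_iso (M := (EtModW.pull Λ g').rightDerivedFunctorPlus ⋙
      (EtModW.push Λ f').rightDerivedFunctorPlus) adj (EtSix.bcAdjMod Λ f g f' g' c.w ≫
      (Functor.associator _ _ _).inv) e ?_
  suffices h : IsIso ((adj.homEquiv _ _).symm ((EtSix.rPlusDesc₃ (EtSix.pushToPushPullMod Λ f g f' g' c.w)).app
      (DerivedCategory.Plus.Qh.obj ((HomotopyCategory.Plus.quotient _).obj I)))) by
    simp only [NatTrans.comp_app, Functor.associator_inv_app]
    erw [Category.comp_id]
    exact h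
  rw [PlusBC.isIso_bcMap_iff (EtSix.pullPushModAdj Λ g) (EtSix.pushToPushPullMod Λ f g f' g' c.w) adj I hI J hJ s]
  let β := (NatTrans.mapHomologicalComplex (PlusBC.β₀ (EtSix.pullPushModAdj Λ g)
    (EtSix.pushToPushPullMod Λ f g f' g' c.w)) (ComplexShape.up ℤ)).app I.obj
  haveI : ∀ m, IsIso (β.f m) := fun m => by
    have h0 := isIso_baseChange0Mod Λ f g f' g' c (I.obj.X m)
    simpa [β, PlusBC.β₀, EtSix.baseChange0Mod, Adjunction.homEquiv_counit] using h0
  haveI : IsIso β := HomologicalComplex.Hom.isIso_of_components _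
  obtain ⟨n₁, hn₁⟩ := I.property
  obtain ⟨n₂, hn₂⟩ := J.property
  haveI : I.obj.IsStrictlyGE (min n₁ n₂) := CochainComplex.isStrictlyGE_of_ge I.obj _ n₁ (min_le_left _ _)
  haveI : J.obj.IsStrictlyGE (min n₁ n₂) := CochainComplex.isStrictlyGE_of_ge J.obj _ n₂ (min_le_right _ _)
  haveI := quasiIso_push_forget Λ c (min n₁ n₂) I.obj hI (fun m => isTorsion_of_iso
    ((EtModD.forgetToAb Λ X).mapIso ((DerivedCategory.homologyFunctor _ m).mapIso
      (DerivedCategory.Plus.ι.mapIso e.symm ≪≫ (DerivedCategory.quotientCompQhIso _).app I.obj) ≪≫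
      (DerivedCategory.homologyFunctorFactors _ m).app I.obj)) (hK m)) J.obj hJ s.hom
  exact inferInstanceAs (QuasiIso (β ≫ ((EtModW.push Λ f').mapHomologicalComplex (ComplexShape.up ℤ)).map s.hom))

end Groth.Agent.PBCThm
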