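import Groth.Agent.PBCThm.FibreAcyclic
import Groth.Agent.RpushStalk.Main
import Groth.Agent.BcQCalc.Exist

/-!
# The key property gives acyclic geometric fibres
-/

set_option autoImplicit false
set_option linter.style.haveILetI false
set_option linter.unusedSectionVars false
set_option backward.isDefEq.respectTransparency false
set_option backward.isDefEq.respectTransparency.types false

universe u

open CategoryTheory CategoryTheory.Limits AlgebraicGeometry Opposite Abelian IsLocalRing

namespace Groth.Agent.PBCThm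

open ClosedAffAcyc RpushStalk H0PBC H0FBC
open Groth.Agent.Hensel (Henz Nbhd NbhdCat)

attribute [local instance] EtFound.pull_preservesFiniteLimits

/-- Torsion parts of injectives are acyclic over strict localizations. -/
theorem subsingleton_H_strict {S T : Scheme.{u}} {R : Type u} [CommRing R] [HenselianLocalRing R]
    [IsSepClosed (ResidueField R)] {h : Spec (CommRingCat.of R) ⟶ S} (D : Model S R h) (f : T ⟶ S)
    [QuasiCompact f] [QuasiSeparated f] (J : EtCoh.Ab T) [Injective J] {n : ℕ} (hn : 0 < n) (q : ℕ) :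
    Subsingleton (EtCoh.H (pullback (ym D.ι R) f)
      ((EtCoh.pull (pullback.snd (ym D.ι R) f)).obj (tors n J)) (q + 1)) := by
  obtain ⟨α, _, _, _, F, _⟩ := IsFiltered.exists_directed (NbhdCat D.B D.Ω)
  haveI hA : ∀ {a b : αᵒᵖ} (g : a ⟶ b), IsAffineHom ((D.stages f F).map g) :=
    fun {a b} g => D.isAffineHom_stages f F g
  refine subsingleton_H_pull_limit_of_stages (Xs := D.stages f F) (fun a => pullback.snd (ym D.ι (F.obj a).N.B) f)
    (fun i j hij => pmap_snd f D.ι _) (tors n J) (D.cone f F) (pullback.snd (ym D.ι R) f)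
    (fun i => pmap_snd f D.ι _) (D.isLimitCone f F) (fun a => ?_) (fun a => ?_) (q + 1) (fun a => ?_)
  · exact QuasiCompact.compactSpace_of_compactSpace (pullback.fst (ym D.ι (F.obj a.unop).N.B) f)
  · exact quasiSeparatedSpace_of_quasiSeparated (pullback.fst (ym D.ι (F.obj a.unop).N.B) f)
  · haveI : AlgebraicGeometry.Etale (ym D.ι (F.obj a).N.B) := (stageEt D.ι (F.obj a).N.B).prop
    let t : pullback (ym D.ι (F.obj a).N.B) f ⟶ T := pullback.snd _ _
    haveI : AlgebraicGeometry.Etale t := inferInstance
    exact subsingleton_H_pull_nTorsion J hn t q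

/-- The key property gives acyclicity on all geometric fibres. -/
theorem fibreAcyclic_of_key {X Y : Scheme.{u}} (f : X ⟶ Y) [IsProper f] (hf : Key f) : FibreAcyclic f := by
  intro X' Y' f' g' g c Ω _ _ ξ J _ n hn q
  haveI : IsProper f' := MorphismProperty.of_isPullback (P := @IsProper) c ‹_›
  have hf' : Key f' := hf.baseChange c
  let y := ξ (closedPoint Ω)
  obtain ⟨R, _, _, _, _, hR⟩ := BcQCalc.exists_strictHens (Y'.presheaf.stalk y)
  haveI := hR
  haveI : HenselianLocalRing R := _root_.Hensel.IsStrictHenselization.henselian (R := Y'.presheaf.stalk y)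
  haveI : IsSepClosed (ResidueField R) :=
    (_root_.Hensel.IsStrictHenselization.isSepClosure (R := Y'.presheaf.stalk y) (S := R)).sep_closed
  obtain ⟨D⟩ := RpushStalk.exists_model Y' y R
  obtain ⟨l, hl⟩ := BcQCalc.exists_fac_geomPt ξ R
  obtain ⟨φ, rfl⟩ := Spec.map_surjective l
  let p := pullback.fst (ym D.ι R) f'
  let a := pullback.snd (ym D.ι R) f'
  have hP : IsPullback a p f' (ym D.ι R) := (IsPullback.of_hasPullback (ym D.ι R) f').flip
  haveI := subsingleton_H_strict D f' J hn q
  have hb := hf' R (ym D.ι R) _ a p hP ((EtCoh.pull a).obj (tors n J))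
    (H9Transfer.isTorsion_pull a _ (isTorsion_tors hn J)) (q + 1)
  let p₀ := pullback.snd p (Spec.map (CommRingCat.ofHom (residue R)))
  let G₀ := (EtCoh.pull (closedIncl p)).obj ((EtCoh.pull a).obj (tors n J))
  haveI h0 : Subsingleton (EtCoh.H _ G₀ (q + 1)) := hb.2.subsingleton
  haveI : IsProper p := MorphismProperty.of_isPullback (P := @IsProper) hP ‹_›
  have hK₀ : Key p₀ := (hf'.baseChange hP).baseChange (IsPullback.of_hasPullback p _)
  have hb2 := bijective_Hpull_sepClosed φ.hom p₀ hK₀ G₀
    (H9Transfer.isTorsion_pull _ _ (H9Transfer.isTorsion_pull a _ (isTorsion_tors hn J))) (q + 1)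
  have h1 := hb2.2.subsingleton
  rw [subsingleton_pull_pull _ _ _ rfl, subsingleton_pull_pull _ _ _ rfl] at h1
  have hc := ((IsPullback.of_hasPullback p₀ (Spec.map (CommRingCat.ofHom φ.hom))).paste_horiz
    (IsPullback.of_hasPullback p (Spec.map (CommRingCat.ofHom (residue R))))).paste_horiz hP
  have e : (Spec.map (CommRingCat.ofHom φ.hom) ≫ Spec.map (CommRingCat.ofHom (residue R))) ≫ ym D.ι R = ξ := by
    rw [Category.assoc, D.fac]
    exact hl
  rw [e] at hc
  exact subsingleton_pullback_of_isPullback hc (tors n J) (q + 1) h1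

end Groth.Agent.PBCThm
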