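import Groth.Agent.H9Misc.PlusRB
import Groth.Agent.TriCat.RPlusUnit
import Groth.Prelude.Def_SixF1

/-!
# The base change morphism of bounded below derived functors on complexes of injectives
-/

set_option autoImplicit false
set_option linter.style.haveILetI false
set_option linter.unusedSectionVars false
set_option backward.isDefEq.respectTransparency false
set_option backward.isDefEq.respectTransparency.types false

universe u

open CategoryTheory CategoryTheory.Limits

attribute [local instance] HasDerivedCategory.standard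

noncomputable section

namespace Groth.Agent.PBCThm.PlusBC

section adj

variable {B B' : Type (u + 2)} [Category.{u + 1} B] [Category.{u + 1} B'] [Abelian B] [Abelian B']
  [EnoughInjectives B] [EnoughInjectives B'] {L : B ⥤ B'} {R : B' ⥤ B} [L.Additive] [R.Additive] (adj : L ⊣ R)
  [PreservesFiniteLimits L] [PreservesFiniteColimits L]

theorem isIso_unit : IsIso L.rightDerivedFunctorPlusUnit :=
  Functor.isIso_of_isRightDerivedFunctor_of_inverts (W := HomotopyCategory.Plus.quasiIso B) _ _
    H9Misc.PlusRB.inverts_of_exact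

theorem isIso_unit_app (M : HomotopyCategory.Plus B) : IsIso (L.rightDerivedFunctorPlusUnit.app M) :=
  haveI := isIso_unit (L := L)
  NatIso.isIso_app_of_isIso L.rightDerivedFunctorPlusUnit M

/-- The injective model. -/
abbrev RB : DerivedCategory.Plus B' ⥤ HomotopyCategory.Plus B' :=
  haveI := H9Misc.PlusRB.qhPlus_isLeftAdjoint B'
  (DerivedCategory.Plus.Qh (C := B')).rightAdjoint

/-- The right adjoint of localization. -/
def adjQ : DerivedCategory.Plus.Qh (C := B') ⊣ RB (B' := B') :=
  haveI := H9Misc.PlusRB.qhPlus_isLeftAdjoint B'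
  Adjunction.ofIsLeftAdjoint (DerivedCategory.Plus.Qh (C := B'))

/-- The derived right adjoint computed by injective complexes. -/
def modelIso : RB ⋙ R.mapHomotopyCategoryPlus ⋙ DerivedCategory.Plus.Qh ≅ R.rightDerivedFunctorPlus :=
  haveI := TriCat.isRightDerivedFunctor_of_adjunction (adjQ (B' := B')) (HomotopyCategory.Plus.quasiIso B')
    (R.mapHomotopyCategoryPlus ⋙ DerivedCategory.Plus.Qh)
  Functor.rightDerivedUnique _ _ (Functor.whiskerRight adjQ.unit
    (R.mapHomotopyCategoryPlus ⋙ DerivedCategory.Plus.Qh) :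
    R.mapHomotopyCategoryPlus ⋙ DerivedCategory.Plus.Qh ⟶
      DerivedCategory.Plus.Qh ⋙ RB ⋙ R.mapHomotopyCategoryPlus ⋙ DerivedCategory.Plus.Qh)
    R.rightDerivedFunctorPlusUnit (HomotopyCategory.Plus.quasiIso B')

/-- The derived adjunction. -/
def adj₀ : L.rightDerivedFunctorPlus ⊣ R.rightDerivedFunctorPlus :=
  haveI := isIso_unit (L := L)
  (H9Misc.AdjDescend.descend DerivedCategory.Plus.Qh (HomotopyCategory.Plus.quasiIso B)
    (L' := L.rightDerivedFunctorPlus)
    (((H9Misc.PlusRB.adjPlus adj).comp adjQ).ofNatIsoLeft (asIso L.rightDerivedFunctorPlusUnit))).ofNatIsoRight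
      (Functor.associator _ _ _ ≪≫ modelIso)

theorem unit_modelIso_inv (M : HomotopyCategory.Plus B') :
    R.rightDerivedFunctorPlusUnit.app M ≫ modelIso.inv.app (DerivedCategory.Plus.Qh.obj M) =
      DerivedCategory.Plus.Qh.map (R.mapHomotopyCategoryPlus.map (adjQ.unit.app M)) := by
  haveI := TriCat.isRightDerivedFunctor_of_adjunction (adjQ (B' := B')) (HomotopyCategory.Plus.quasiIso B')
    (R.mapHomotopyCategoryPlus ⋙ DerivedCategory.Plus.Qh)
  refine (Functor.rightDerivedNatTrans_app R.rightDerivedFunctorPlus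
    (RB ⋙ R.mapHomotopyCategoryPlus ⋙ DerivedCategory.Plus.Qh) _ _
    (HomotopyCategory.Plus.quasiIso B') _ M).trans ?_
  exact Category.id_comp _

/-- The counit on bounded below homotopy categories. -/
abbrev counitH (M : HomotopyCategory.Plus B') :
    L.mapHomotopyCategoryPlus.obj (R.mapHomotopyCategoryPlus.obj M) ⟶ M :=
  (H9Misc.PlusRB.adjPlus adj).counit.app M

theorem counit_fac (M : HomotopyCategory.Plus B') :
    L.rightDerivedFunctorPlusUnit.app (R.mapHomotopyCategoryPlus.obj M) ≫
      L.rightDerivedFunctorPlus.map (R.rightDerivedFunctorPlusUnit.app M) ≫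
        (adj₀ adj).counit.app (DerivedCategory.Plus.Qh.obj M) =
      DerivedCategory.Plus.Qh.map (counitH adj M) := by
  haveI := isIso_unit (L := L)
  haveI := isIso_unit_app (L := L)
  let Z := DerivedCategory.Plus.Qh.obj M
  have h0 : (adj₀ adj).counit.app Z =
      L.rightDerivedFunctorPlus.map (modelIso.inv.app Z) ≫
        inv (L.rightDerivedFunctorPlusUnit.app (R.mapHomotopyCategoryPlus.obj (RB.obj Z))) ≫
          DerivedCategory.Plus.Qh.map (counitH adj (RB.obj Z)) ≫ adjQ.counit.app Z := by
    simp [adj₀, Adjunction.ofNatIsoRight, H9Misc.AdjDescend.descend_counit_app, Adjunction.ofNatIsoLeft,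
      Adjunction.comp_counit_app]
  rw [h0, ← Functor.map_comp_assoc, unit_modelIso_inv]
  have hn := L.rightDerivedFunctorPlusUnit.naturality (R.mapHomotopyCategoryPlus.map (adjQ.unit.app M))
  simp only [Functor.comp_map] at hn
  erw [← reassoc_of% hn, IsIso.hom_inv_id_assoc]
  simp only [← Functor.map_comp_assoc]
  erw [(H9Misc.PlusRB.adjPlus adj).counit.naturality]
  simp only [Functor.id_map, Functor.map_comp, Category.assoc]
  erw [adjQ.left_triangle_components M]
  exact Category.comp_id _

/-- Transposing along another adjunction differs by an isomorphism. -/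
theorem homEquiv_symm_eq {C D : Type*} [Category C] [Category D] {F F' : C ⥤ D} {G : D ⥤ C} (a : F ⊣ G)
    (a' : F' ⊣ G) {X : C} {Y : D} (φ : X ⟶ G.obj Y) :
    (a.homEquiv _ _).symm φ = (a.leftAdjointUniq a').hom.app X ≫ (a'.homEquiv _ _).symm φ := by
  rw [Equiv.symm_apply_eq, Adjunction.homEquiv_naturality_right, Adjunction.homEquiv_leftAdjointUniq_hom_app,
    ← Adjunction.homEquiv_unit, Equiv.apply_symm_apply]

end adj

section square

variable {A A' B B' : Type (u + 2)} [Category.{u + 1} A] [Category.{u + 1} A'] [Category.{u + 1} B]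
  [Category.{u + 1} B'] [Abelian A] [Abelian A'] [Abelian B] [Abelian B']
  [EnoughInjectives A] [EnoughInjectives A'] [EnoughInjectives B] [EnoughInjectives B']
  {P : A ⥤ B} {N : A ⥤ A'} {P' : A' ⥤ B'} {L : B ⥤ B'} {R : B' ⥤ B}
  [P.Additive] [N.Additive] [P'.Additive] [L.Additive] [R.Additive] (adj : L ⊣ R)
  [PreservesFiniteLimits L] [PreservesFiniteColimits L] [PreservesFiniteLimits N] [PreservesFiniteColimits N]
  (θ : P ⟶ N ⋙ P' ⋙ R)

/-- The degree zero base change map. -/
def β₀ : P ⋙ L ⟶ N ⋙ P' :=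
  Functor.whiskerRight θ L ≫ Functor.whiskerLeft (N ⋙ P') adj.counit

/-- The comparison on bounded below homotopy categories. -/
def βH (X : HomotopyCategory.Plus A) :
    L.mapHomotopyCategoryPlus.obj (P.mapHomotopyCategoryPlus.obj X) ⟶
      P'.mapHomotopyCategoryPlus.obj (N.mapHomotopyCategoryPlus.obj X) :=
  L.mapHomotopyCategoryPlus.map ((EtSix.plusNatTrans θ ≫
      (Functor.mapHomotopyCategoryPlusCompIso (Iso.refl (N ⋙ (P' ⋙ R)))).inv ≫
      Functor.whiskerLeft N.mapHomotopyCategoryPlus
        (Functor.mapHomotopyCategoryPlusCompIso (Iso.refl (P' ⋙ R))).inv).app X) ≫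
    counitH adj (P'.mapHomotopyCategoryPlus.obj (N.mapHomotopyCategoryPlus.obj X))

theorem βH_hom (I : CochainComplex.Plus A) :
    (βH adj θ ((HomotopyCategory.Plus.quotient A).obj I)).hom =
      (HomotopyCategory.quotient B' (ComplexShape.up ℤ)).map
        ((NatTrans.mapHomologicalComplex (β₀ adj θ) (ComplexShape.up ℤ)).app I.obj) := by
  have hc : ∀ M, (counitH adj M).hom =
      (H9Misc.SerreDerived.adjHtpy (ComplexShape.up ℤ) adj).counit.app M.obj := fun M => by
    refine (Adjunction.map_restrictFullyFaithful_counit_app (H9Misc.SerreDerived.adjHtpy (ComplexShape.up ℤ) adj)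
      (HomotopyCategory.plus B).fullyFaithfulι (HomotopyCategory.plus B').fullyFaithfulι
      (L := L.mapHomotopyCategoryPlus) (R := R.mapHomotopyCategoryPlus)
      (Iso.refl _) (Iso.refl _) M).trans ?_
    simp only [Iso.refl_inv, NatTrans.id_app]
    repeat erw [CategoryTheory.Functor.map_id]
    repeat erw [Category.id_comp]
    rfl
  simp only [βH, ObjectProperty.FullSubcategory.comp_hom, NatTrans.comp_app, hc]
  change _ = (HomotopyCategory.quotient B' (ComplexShape.up ℤ)).map _
  simp [EtSix.plusNatTrans, Functor.mapHomotopyCategoryPlusCompIso, Functor.mapHomotopyCategoryCompIso,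
    H9Misc.SerreDerived.adjHtpy, β₀]
  change (HomotopyCategory.quotient B' (ComplexShape.up ℤ)).map _ ≫ _ = _
  rw [← Functor.map_comp]
  refine congrArg _ (HomologicalComplex.hom_ext _ _ fun i => ?_)
  simp
  repeat erw [CategoryTheory.Functor.map_id]
  repeat erw [Category.id_comp]
  rfl

theorem unit_bcMap (X : HomotopyCategory.Plus A) :
    (L.rightDerivedFunctorPlusUnit.app (P.mapHomotopyCategoryPlus.obj X) ≫
        L.rightDerivedFunctorPlus.map (P.rightDerivedFunctorPlusUnit.app X)) ≫
      ((adj₀ adj).homEquiv _ _).symm ((EtSix.rPlusDesc₃ θ).app (DerivedCategory.Plus.Qh.obj X)) =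
      DerivedCategory.Plus.Qh.map (βH adj θ X) ≫
        P'.rightDerivedFunctorPlusUnit.app (N.mapHomotopyCategoryPlus.obj X) ≫
          P'.rightDerivedFunctorPlus.map (N.rightDerivedFunctorPlusUnit.app X) := by
  rw [Adjunction.homEquiv_counit, Category.assoc, ← Functor.map_comp_assoc]
  have e : P.rightDerivedFunctorPlusUnit.app X ≫ (EtSix.rPlusDesc₃ θ).app (DerivedCategory.Plus.Qh.obj X) =
      (EtSix.rPlusUnit₃ θ).app X :=
    Functor.rightDerived_fac_app P.rightDerivedFunctorPlus _ _ _ _ X
  rw [e]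
  have e2 : (EtSix.rPlusUnit₃ θ).app X =
      DerivedCategory.Plus.Qh.map ((EtSix.plusNatTrans θ ≫
        (Functor.mapHomotopyCategoryPlusCompIso (Iso.refl (N ⋙ (P' ⋙ R)))).inv ≫
        Functor.whiskerLeft N.mapHomotopyCategoryPlus
          (Functor.mapHomotopyCategoryPlusCompIso (Iso.refl (P' ⋙ R))).inv).app X) ≫
        R.rightDerivedFunctorPlusUnit.app (P'.mapHomotopyCategoryPlus.obj (N.mapHomotopyCategoryPlus.obj X)) ≫
          R.rightDerivedFunctorPlus.map (P'.rightDerivedFunctorPlusUnit.app (N.mapHomotopyCategoryPlus.obj X) ≫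
            P'.rightDerivedFunctorPlus.map (N.rightDerivedFunctorPlusUnit.app X)) := by
    simp [EtSix.rPlusUnit₃]
  rw [e2]
  simp only [Functor.map_comp, Category.assoc]
  have hn := L.rightDerivedFunctorPlusUnit.naturality ((EtSix.plusNatTrans θ ≫
        (Functor.mapHomotopyCategoryPlusCompIso (Iso.refl (N ⋙ (P' ⋙ R)))).inv ≫
        Functor.whiskerLeft N.mapHomotopyCategoryPlus
          (Functor.mapHomotopyCategoryPlusCompIso (Iso.refl (P' ⋙ R))).inv).app X)
  simp only [Functor.comp_map] at hn
  erw [← reassoc_of% hn]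
  erw [(adj₀ adj).counit.naturality (P'.rightDerivedFunctorPlus.map (N.rightDerivedFunctorPlusUnit.app X)),
    (adj₀ adj).counit.naturality_assoc (P'.rightDerivedFunctorPlusUnit.app (N.mapHomotopyCategoryPlus.obj X))]
  erw [reassoc_of% (counit_fac adj (P'.mapHomotopyCategoryPlus.obj (N.mapHomotopyCategoryPlus.obj X)))]
  simp [βH]

/-- The base change morphism on a complex of injectives. -/
theorem isIso_bcMap_iff (a : L.rightDerivedFunctorPlus ⊣ R.rightDerivedFunctorPlus) (I : CochainComplex.Plus A)
    (hI : ∀ n, Injective (I.obj.X n)) (J : CochainComplex.Plus A') (hJ : ∀ n, Injective (J.obj.X n))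
    (s : N.mapCochainComplexPlus.obj I ⟶ J) [QuasiIso s.hom] :
    IsIso ((a.homEquiv _ _).symm ((EtSix.rPlusDesc₃ θ).app
        (DerivedCategory.Plus.Qh.obj ((HomotopyCategory.Plus.quotient A).obj I)))) ↔
      QuasiIso ((NatTrans.mapHomologicalComplex (β₀ adj θ) (ComplexShape.up ℤ)).app I.obj ≫
        (P'.mapHomologicalComplex (ComplexShape.up ℤ)).map s.hom) := by
  let X := (HomotopyCategory.Plus.quotient A).obj I
  let Z := (HomotopyCategory.Plus.quotient A').obj J
  let t : N.mapHomotopyCategoryPlus.obj X ⟶ Z := (HomotopyCategory.Plus.quotient A').map s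
  haveI := isIso_unit_app (L := L)
  haveI := isIso_unit_app (L := N)
  haveI : IsIso (DerivedCategory.Plus.Qh.map t) :=
    (TriCat.isIso_plusQh_quotient_map_iff s).2 inferInstance
  haveI := hI
  haveI := hJ
  haveI : IsIso (P.rightDerivedFunctorPlusUnit.app X) := inferInstance
  haveI : IsIso (P'.rightDerivedFunctorPlusUnit.app Z) := inferInstance
  have h := unit_bcMap adj θ X
  let ψ := DerivedCategory.Plus.Qh.map (βH adj θ X ≫ P'.mapHomotopyCategoryPlus.map t)
  have h2 : (L.rightDerivedFunctorPlusUnit.app (P.mapHomotopyCategoryPlus.obj X) ≫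
        L.rightDerivedFunctorPlus.map (P.rightDerivedFunctorPlusUnit.app X)) ≫
      ((adj₀ adj).homEquiv _ _).symm ((EtSix.rPlusDesc₃ θ).app (DerivedCategory.Plus.Qh.obj X)) =
      ψ ≫ P'.rightDerivedFunctorPlusUnit.app Z ≫ inv (P'.rightDerivedFunctorPlus.map (DerivedCategory.Plus.Qh.map t)) ≫
        P'.rightDerivedFunctorPlus.map (N.rightDerivedFunctorPlusUnit.app X) := by
    rw [h]
    have hn := P'.rightDerivedFunctorPlusUnit.naturality t
    simp only [Functor.comp_map] at hn
    simp only [ψ, Functor.map_comp, Category.assoc]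
    erw [reassoc_of% hn, IsIso.hom_inv_id_assoc]
  rw [homEquiv_symm_eq a (adj₀ adj), isIso_comp_left_iff,
    ← isIso_comp_left_iff (L.rightDerivedFunctorPlusUnit.app (P.mapHomotopyCategoryPlus.obj X) ≫
        L.rightDerivedFunctorPlus.map (P.rightDerivedFunctorPlusUnit.app X))]
  erw [h2]
  rw [isIso_comp_right_iff, ← isIso_iff_of_reflects_iso ψ DerivedCategory.Plus.ι]
  change IsIso (DerivedCategory.Qh.map ((βH adj θ X ≫ P'.mapHomotopyCategoryPlus.map t).hom)) ↔ _
  rw [ObjectProperty.FullSubcategory.comp_hom, βH_hom]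
  change IsIso (DerivedCategory.Qh.map ((HomotopyCategory.quotient _ _).map _ ≫
    (HomotopyCategory.quotient _ _).map ((P'.mapHomologicalComplex (ComplexShape.up ℤ)).map s.hom))) ↔ _
  rw [← Functor.map_comp, ← DerivedCategory.isIso_Q_map_iff_quasiIso]
  exact NatIso.isIso_map_iff (DerivedCategory.quotientCompQhIso B') _

end square

end Groth.Agent.PBCThm.PlusBC

namespace Groth.Agent.PBCThm.PlusBC

/-- Whether the base change morphism is invertible depends only on the isomorphism class. -/
theorem isIso_bcMap_of_iso {A B B' : Type*} [Category A] [Category B] [Category B'] {P : A ⥤ B} {M : A ⥤ B'}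
    {L : B ⥤ B'} {R : B' ⥤ B} (a : L ⊣ R) (φ : P ⟶ M ⋙ R) {K K' : A} (e : K ≅ K')
    (h : IsIso ((a.homEquiv _ _).symm (φ.app K))) : IsIso ((a.homEquiv _ _).symm (φ.app K')) := by
  have h1 : L.map (P.map e.hom) ≫ (a.homEquiv _ _).symm (φ.app K') =
      (a.homEquiv _ _).symm (φ.app K) ≫ M.map e.hom := by
    rw [← Adjunction.homEquiv_naturality_left_symm, ← Adjunction.homEquiv_naturality_right_symm]
    exact congrArg _ (φ.naturality e.hom)
  haveI := h
  have h2 : IsIso (L.map (P.map e.hom) ≫ (a.homEquiv _ _).symm (φ.app K')) := by rw [h1]; infer_instance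
  exact IsIso.of_isIso_comp_left (L.map (P.map e.hom)) _

end Groth.Agent.PBCThm.PlusBC
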