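import Groth.Agent.PBCThm.OfKey
import Groth.Agent.H9P1Pow.Basic
import Groth.Agent.P1PowMap.Base
import Groth.Agent.PnCoh.Chow.Proper
import Groth.Agent.S7409

/-!
# All proper morphisms have the key property
-/

set_option autoImplicit false
set_option linter.style.haveILetI false
set_option linter.unusedSectionVars false
set_option backward.isDefEq.respectTransparency false
set_option backward.isDefEq.respectTransparency.types false

universe u

open CategoryTheory CategoryTheory.Limits AlgebraicGeometry Opposite Abelian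

namespace Groth.Agent.PBCThm

theorem key_P1 : Key (CohB1.ProjSpace.toSpec 1 (ULift.{u} ℤ)) := by
  haveI := PnCoh.Chow.isProper_toSpec 1 (ULift.{u} ℤ)
  refine key_of_two _ (fun i => Proj.basicOpen (CohB1.polyGrading 1 (ULift.{u} ℤ)) (MvPolynomial.X i))
    (fun i => Proj.isAffineOpen_basicOpen _ _ (MvPolynomial.isHomogeneous_X _ i) one_pos) ?_
  refine Proj.iSup_basicOpen_eq_top' _ _ (fun i => ⟨1, MvPolynomial.isHomogeneous_X _ i⟩) ?_
  refine top_le_iff.1 fun p _ => ?_
  induction p using MvPolynomial.induction_on with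
  | C r =>
    exact Subalgebra.algebraMap_mem _ (show CohB1.polyGrading 1 (ULift.{u} ℤ) 0 from
      ⟨MvPolynomial.C r, MvPolynomial.isHomogeneous_C (Fin (1 + 1)) r⟩)
  | add a b ha hb => exact add_mem (ha trivial) (hb trivial)
  | mul_X a j ha => exact mul_mem (ha trivial) (Algebra.subset_adjoin ⟨j, rfl⟩)

theorem fibreAcyclic_P1 (S : Scheme.{u}) : FibreAcyclic (CohB1.ProjSpaceOver.toBase 1 S) := by
  haveI := PnCoh.Chow.isProper_toSpec 1 (ULift.{u} ℤ)
  exact (fibreAcyclic_of_key _ key_P1).baseChange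
    (IsPullback.of_hasPullback (CohB1.ProjSpace.toSpec 1 (ULift.{u} ℤ)) (specULiftZIsTerminal.from S))

theorem fibreAcyclic_pow (S : Scheme.{u}) : ∀ n : ℕ, FibreAcyclic (H9P1Pow.base n S) ∧ IsProper (H9P1Pow.base n S)
  | 0 => by
    haveI : IsIso (H9P1Pow.base 0 S) := ⟨WidePullback.lift (𝟙 S) (fun j => j.elim0) (fun j => j.elim0),
      WidePullback.hom_ext _ _ _ (fun j => j.elim0) (by simp), WidePullback.lift_base _ _ _ _⟩
    exact ⟨fibreAcyclic_of_integral _, inferInstance⟩
  | n + 1 => by
    obtain ⟨h, hp⟩ := fibreAcyclic_pow S n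
    haveI := PnCoh.Chow.isProper_toSpec 1 (ULift.{u} ℤ)
    haveI : IsProper (CohB1.ProjSpaceOver.toBase 1 S) := MorphismProperty.of_isPullback (P := @IsProper)
      (IsPullback.of_hasPullback (CohB1.ProjSpace.toSpec 1 (ULift.{u} ℤ)) (specULiftZIsTerminal.from S)) ‹_›
    haveI : IsProper (H9P1Pow.drop n S) :=
      MorphismProperty.of_isPullback (P := @IsProper) (H9P1Pow.isPullback_succ n S) inferInstance
    rw [show H9P1Pow.base (n + 1) S = H9P1Pow.drop n S ≫ H9P1Pow.base n S from (WidePullback.lift_base _ _ _ _).symm]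
    exact ⟨((fibreAcyclic_P1 S).baseChange (H9P1Pow.isPullback_succ n S)).comp h, inferInstance⟩

theorem fibreAcyclic_Pn (S : Scheme.{u}) (n : ℕ) : FibreAcyclic (CohB1.ProjSpaceOver.toBase n S) := by
  obtain ⟨φ, hf, hs, hb⟩ := P1PowMap.exists_finite_surjective S n
  haveI := hf
  haveI := hs
  exact FibreAcyclic.of_comp (fibreAcyclic_of_integral φ) (hb.symm ▸ (fibreAcyclic_pow S n).1)

/-- Proper morphisms have acyclic geometric fibres for torsion parts of injectives. -/
theorem fibreAcyclic_of_proper {X Y : Scheme.{u}} (f : X ⟶ Y) [IsProper f] : FibreAcyclic f := by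
  refine fibreAcyclic_of_local f fun y => ?_
  obtain ⟨_, ⟨(V : Y.Opens), hV, rfl⟩, hyV, -⟩ := Y.isBasis_affineOpens.exists_subset_of_mem_open (Set.mem_univ y) isOpen_univ
  refine ⟨V, hyV, ?_⟩
  let fV := f ∣_ V
  haveI : IsProper fV := MorphismProperty.of_isPullback (P := @IsProper) (isPullback_morphismRestrict f V).flip ‹_›
  haveI : CompactSpace ((V : Scheme.{u})) := isCompact_iff_compactSpace.1 hV.isCompact
  haveI : IsAffine (V : Scheme.{u}) := hV
  obtain ⟨n, X', π, j, hj, hw, hπ, hs⟩ := S7409.result fV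
  haveI := hπ
  haveI := hj
  haveI := hs
  haveI := PnCoh.Chow.isProper_toSpec n (ULift.{u} ℤ)
  haveI : IsProper (CohB1.ProjSpaceOver.toBase n (V : Scheme.{u})) := MorphismProperty.of_isPullback (P := @IsProper)
    (IsPullback.of_hasPullback (CohB1.ProjSpace.toSpec n (ULift.{u} ℤ)) (specULiftZIsTerminal.from _)) ‹_›
  haveI : IsProper (j ≫ CohB1.ProjSpaceOver.toBase n (V : Scheme.{u})) := hw ▸ inferInstance
  haveI : IsProper j := IsProper.of_comp j (CohB1.ProjSpaceOver.toBase n (V : Scheme.{u}))
  haveI : IsClosedImmersion j := IsClosedImmersion.of_isPreimmersion j j.isClosedMap.isClosed_range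
  let k : X' ⟶ pullback (CohB1.ProjSpaceOver.toBase n (V : Scheme.{u})) fV := pullback.lift j π hw
  haveI : IsClosedImmersion k := by
    haveI : IsClosedImmersion (k ≫ pullback.fst (CohB1.ProjSpaceOver.toBase n (V : Scheme.{u})) fV) := by
      rw [show k ≫ pullback.fst _ _ = j from pullback.lift_fst _ _ _]; infer_instance
    exact IsClosedImmersion.of_comp k (pullback.fst _ _)
  have hPi : FibreAcyclic π := by
    rw [show π = k ≫ pullback.snd _ _ from (pullback.lift_snd _ _ _).symm]
    exact (fibreAcyclic_of_integral k).comp ((fibreAcyclic_Pn _ n).baseChange (IsPullback.of_hasPullback _ _))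
  exact FibreAcyclic.of_comp hPi (hw ▸ (fibreAcyclic_of_integral j).comp (fibreAcyclic_Pn _ n))

/-- Restriction to closed fibres is bijective for proper morphisms. -/
theorem key_of_proper {X Y : Scheme.{u}} (f : X ⟶ Y) [IsProper f] : Key f :=
  key_of_fibreAcyclic (fibreAcyclic_of_proper f)

end Groth.Agent.PBCThm
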