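import Groth.Agent.PBCThm.Bounded
import Groth.Agent.PBCThm.Compact
import Groth.Agent.BcHComp5.HComp
import Groth.Agent.S8603

/-!
# Independence of the compactification and base change for `Rf_!`
-/

set_option autoImplicit false
set_option linter.style.haveILetI false
set_option linter.unusedSectionVars false
set_option backward.isDefEq.respectTransparency false
set_option backward.isDefEq.respectTransparency.types false
set_option maxHeartbeats 1000000

universe u

open CategoryTheory CategoryTheory.Limits AlgebraicGeometry Opposite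

attribute [local instance] HasDerivedCategory.standard Groth.Agent.EtFound.pull_preservesFiniteLimits

noncomputable section

namespace Groth.Agent.PBCThm

open EtFound EtBCD5

section sheaf

variable {X P Q : Scheme.{u}} (j : X ⟶ P) [IsOpenImmersion j] [EtShriek.JCont j] (j₁ : X ⟶ Q) [IsOpenImmersion j₁]
  [EtShriek.JCont j₁] (p : Q ⟶ P) [IsProper p] (w : j₁ ≫ p = j)

include w in
theorem isPullback_lift : IsPullback (pullback.lift j₁ (𝟙 X) (w.trans (Category.id_comp j).symm)) (𝟙 X)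
    (pullback.fst p j) j₁ := by
  refine IsPullback.of_isLimit' ⟨by rw [pullback.lift_fst, Category.id_comp]⟩ (PullbackCone.IsLimit.mk _
    (fun s => s.snd) (fun s => ?_) (fun s => Category.comp_id _)
    (fun s m _ hm => by rw [← hm]; exact (Category.comp_id m).symm))
  rw [← cancel_mono (pullback.fst p j), Category.assoc, pullback.lift_fst]
  exact s.condition.symm

include w in
/-- Over the open, pushing forward an extension by zero changes nothing. -/
theorem nonempty_push_extZero_restr :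
    Nonempty (EtShriek.extZero j₁ ⋙ EtCoh.push p ⋙ EtShriek.restrAlong j ≅ 𝟭 (EtCoh.Ab X)) := by
  let W := pullback p j
  let k : W ⟶ Q := pullback.fst p j
  let h : W ⟶ X := pullback.snd p j
  let c : X ⟶ W := pullback.lift j₁ (𝟙 X) (w.trans (Category.id_comp j).symm)
  have hck : c ≫ k = j₁ := pullback.lift_fst _ _ _
  have hch : c ≫ h = 𝟙 X := pullback.lift_snd _ _ _
  haveI : IsOpenImmersion k := inferInstanceAs (IsOpenImmersion (pullback.fst p j))
  haveI : IsProper h := inferInstanceAs (IsProper (pullback.snd p j))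
  haveI : IsOpenImmersion (c ≫ k) := hck.symm ▸ inferInstance
  haveI : IsOpenImmersion c := IsOpenImmersion.of_comp c k
  haveI : IsProper (c ≫ h) := hch.symm ▸ inferInstance
  haveI : IsProper c := IsProper.of_comp c h
  haveI : IsClosedImmersion c := IsClosedImmersion.of_isPreimmersion c c.isClosedMap.isClosed_range
  haveI := EtFound.jCont c
  obtain ⟨e1⟩ := nonempty_pull_extZero_iso j₁ k c (𝟙 X) (isPullback_lift j j₁ p w)
  haveI : ∀ F, IsIso ((bc0Nat p j h k pullback.condition).app F) := fun F =>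
    S0157.result p h k j (IsPullback.of_hasPullback p j) F
  let b : EtCoh.push p ⋙ EtCoh.pull j ≅ EtCoh.pull k ⋙ EtCoh.push h := NatIso.ofComponents
    (fun F => asIso ((bc0Nat p j h k pullback.condition).app F)) (fun v => (bc0Nat p j h k pullback.condition).naturality v)
  let pushId : EtCoh.push (𝟙 X) ≅ 𝟭 (EtCoh.Ab X) :=
    (EtCoh.pullPushAdj (𝟙 X)).rightAdjointUniq (Adjunction.id.ofNatIsoLeft (EtDescSplit.pullId X).symm)
  exact ⟨Functor.isoWhiskerLeft (EtShriek.extZero j₁)
      (Functor.isoWhiskerLeft (EtCoh.push p) (EtCdp5.restrPullIso j) ≪≫ b) ≪≫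
    (Functor.associator _ _ _).symm ≪≫
    Functor.isoWhiskerRight (e1.symm ≪≫ Functor.isoWhiskerRight (EtDescSplit.pullId X) _ ≪≫
      Functor.leftUnitor _ ≪≫ FinEtTrace5.shriekPushIso c) (EtCoh.push h) ≪≫
    EtCoh.pushComp h c ≪≫ eqToIso (by rw [hch]) ≪≫ pushId⟩

/-- The comparison from the extension by zero to the direct image of an extension by zero. -/
def shriekToPushShriek : EtShriek.extZero j ⟶ EtShriek.extZero j₁ ⋙ EtCoh.push p :=
  (Functor.leftUnitor (EtShriek.extZero j)).inv ≫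
    Functor.whiskerRight (nonempty_push_extZero_restr j j₁ p w).some.inv (EtShriek.extZero j) ≫
      Functor.whiskerLeft (EtShriek.extZero j₁ ⋙ EtCoh.push p) (EtShriek.extZeroAdj j).counit

include w in
theorem isIso_shriekToPushShriek_app (F : EtCoh.Ab X) (hF : EtCoh.IsTorsion F) :
    IsIso ((shriekToPushShriek j j₁ p w).app F) := by
  haveI : IsIso ((EtShriek.extZeroAdj j).counit.app ((EtCoh.push p).obj ((EtShriek.extZero j₁).obj F))) := by
    refine extZero_iso_of_outside j _ fun Ω _ _ ξ hξ => ?_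
    obtain ⟨e⟩ := nonempty_extZero_Rpush j₁ j (𝟙 X) p (by rw [w, Category.id_comp]) F hF 0
    haveI := EtFound.push_preservesFiniteLimits p
    haveI : (EtCoh.push p).Additive := (EtCoh.pullPushAdj p).right_adjoint_additive
    exact IsZero.of_iso (isZero_stalk_extZero j ξ hξ _)
      ((EtCoh.stalk ξ).mapIso (((EtCoh.push p).rightDerivedZeroIsoSelf.app _).symm ≪≫ e.symm))
  simp only [shriekToPushShriek, NatTrans.comp_app, Functor.whiskerRight_app, Functor.whiskerLeft_app]
  haveI h₁ : IsIso ((EtShriek.extZero j).map ((nonempty_push_extZero_restr j j₁ p w).some.inv.app F)) :=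
    inferInstance
  exact IsIso.comp_isIso' inferInstance (IsIso.comp_isIso' h₁ ‹IsIso ((EtShriek.extZeroAdj j).counit.app _)›)

include w in
theorem isRightAcyclic_extZero (F : EtCoh.Ab X) (hF : EtCoh.IsTorsion F) :
    TriCat.IsRightAcyclic (EtCoh.push p) ((EtShriek.extZero j₁).obj F) := fun q hq => by
  obtain ⟨e⟩ := nonempty_extZero_Rpush j₁ j (𝟙 X) p (by rw [w, Category.id_comp]) F hF q
  exact IsZero.of_iso (Functor.map_isZero _ (S0071.result (𝟙 X) F q hq)) e.symm

end sheaf

variable {X P Q S : Scheme.{u}} (j : X ⟶ P) [IsOpenImmersion j] [EtShriek.JCont j]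
  [PreservesFiniteLimits (EtShriek.extZero j)] (j₁ : X ⟶ Q) [IsOpenImmersion j₁]
  [EtShriek.JCont j₁] [PreservesFiniteLimits (EtShriek.extZero j₁)] (p : Q ⟶ P) [IsProper p]

/-- `Rf_!` does not see a morphism of compactifications. -/
theorem nonempty_RpushEt_extZeroD_comp (w : j₁ ≫ p = j) (f : P ⟶ S) (g : Q ⟶ S) (hg : p ≫ f = g)
    [DCoh.HasRpushEt P f] [DCoh.HasRpushEt Q g] (K : DCoh.DEt X) (a : ℤ)
    (ha : ∀ n : ℤ, n < a → IsZero (DCoh.HDEt K n)) (hK : ∀ n : ℤ, EtCoh.IsTorsion (DCoh.HDEt K n)) :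
    Nonempty ((DCoh.RpushEt P f).obj ((DEt.extZeroD j).obj K) ≅
      (DCoh.RpushEt Q g).obj ((DEt.extZeroD j₁).obj K)) := by
  subst hg
  haveI : K.IsGE a := (DerivedCategory.isGE_iff _ _).2 ha
  haveI : (EtCoh.push p).Additive := (EtCoh.pullPushAdj p).right_adjoint_additive
  haveI := BcHComp5.hasRpushEt (𝟙 X)
  obtain ⟨T, hT1, hT2, -, ⟨eT⟩, -⟩ := exists_torsion_model (𝟙 X) K a hK
  let C := ((EtShriek.extZero j).mapHomologicalComplex (ComplexShape.up ℤ)).obj T
  let C₁ := ((EtShriek.extZero j₁).mapHomologicalComplex (ComplexShape.up ℤ)).obj T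
  haveI : CochainComplex.IsStrictlyGE C₁ a := by
    rw [CochainComplex.isStrictlyGE_iff]
    exact fun i hi => (EtShriek.extZero j₁).map_isZero (T.isZero_of_isStrictlyGE a i hi)
  obtain ⟨R, s, hR1, hR2, hsm, hs⟩ := TriCat.exists_quasiIso_resolution (fun A : EtCoh.Ab Q => Injective A)
    ⟨_, isZero_zero _, IsZero.injective (isZero_zero _)⟩
    (fun A => ⟨Injective.under A, Injective.ι A, inferInstance, inferInstance⟩) C₁ a
  haveI : R.IsKInjective := CochainComplex.isKInjective_of_injective R a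
  haveI : ∀ i, Injective (((pushC p).obj R).X i) := fun i => haveI := hR2 i; injective_push p (R.X i)
  haveI : ((pushC p).obj R).IsStrictlyGE a := by
    rw [CochainComplex.isStrictlyGE_iff]
    exact fun i hi => (EtCoh.push p).map_isZero (R.isZero_of_isStrictlyGE a i hi)
  haveI : ((pushC p).obj R).IsKInjective := CochainComplex.isKInjective_of_injective _ a
  haveI : QuasiIso ((pushC p).map s) := TriCat.quasiIso_map_of_adapted (isAdapted_acyclic p) s hsm a
    (fun m => isRightAcyclic_extZero j j₁ p w _ (hT2 m)) (fun m => TriCat.isRightAcyclic_of_injective _)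
  haveI : IsIso (DerivedCategory.Q.map s) := (DerivedCategory.isIso_Q_map_iff_quasiIso (φ := s)).2 hs
  haveI : IsIso (DerivedCategory.Q.map ((pushC p).map s)) :=
    (DerivedCategory.isIso_Q_map_iff_quasiIso (φ := (pushC p).map s)).2 ‹_›
  haveI : ∀ m, IsIso ((shriekToPushShriek j j₁ p w).app (T.X m)) := fun m =>
    isIso_shriekToPushShriek_app j j₁ p w _ (hT2 m)
  let ψ : C ≅ (pushC p).obj C₁ := HomologicalComplex.Hom.isoOfComponents
    (fun m => asIso ((shriekToPushShriek j j₁ p w).app (T.X m)))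
    (fun i k _ => ((shriekToPushShriek j j₁ p w).naturality (T.d i k)).symm)
  obtain ⟨e₁⟩ := nonempty_RpushEt_iso f ((pushC p).obj R) (K := (DEt.extZeroD j).obj K)
    ((DEt.extZeroD j).mapIso eT ≪≫ (EtShriek.extZero j).mapDerivedCategoryFactors.app T ≪≫
      DerivedCategory.Q.mapIso ψ ≪≫ asIso (DerivedCategory.Q.map ((pushC p).map s)) ≪≫
      ((DerivedCategory.quotientCompQhIso _).app _).symm)
  obtain ⟨e₂⟩ := nonempty_RpushEt_iso (p ≫ f) R (K := (DEt.extZeroD j₁).obj K)
    ((DEt.extZeroD j₁).mapIso eT ≪≫ (EtShriek.extZero j₁).mapDerivedCategoryFactors.app T ≪≫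
      asIso (DerivedCategory.Q.map s) ≪≫ ((DerivedCategory.quotientCompQhIso _).app _).symm)
  haveI : (EtCoh.push f).Additive := (EtCoh.pullPushAdj f).right_adjoint_additive
  haveI : (EtCoh.push (p ≫ f)).Additive := (EtCoh.pullPushAdj (p ≫ f)).right_adjoint_additive
  let e₃ : (pushC f).obj ((pushC p).obj R) ≅ (pushC (p ≫ f)).obj R :=
    (NatIso.mapHomologicalComplex (EtCoh.pushComp f p) (ComplexShape.up ℤ)).app R
  exact ⟨e₁ ≪≫ DerivedCategory.Q.mapIso e₃ ≪≫ e₂.symm⟩

/-- `Rf_!` is independent of the compactification. -/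
theorem nonempty_Rshriek_iso {X Y : Scheme.{u}} [CompactSpace X] [QuasiSeparatedSpace X] [CompactSpace Y]
    [QuasiSeparatedSpace Y] {f : X ⟶ Y} (c₁ : DEt.Compactification f) [PreservesFiniteLimits (EtShriek.extZero c₁.j)]
    [DCoh.HasRpushEt c₁.Xbar c₁.fbar] (c₂ : DEt.Compactification f) [PreservesFiniteLimits (EtShriek.extZero c₂.j)]
    [DCoh.HasRpushEt c₂.Xbar c₂.fbar] (K : DCoh.DEt X) (a : ℤ)
    (ha : ∀ n : ℤ, n < a → IsZero (DCoh.HDEt K n)) (hK : ∀ n : ℤ, EtCoh.IsTorsion (DCoh.HDEt K n)) :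
    Nonempty ((DEt.Rshriek c₁).obj K ≅ (DEt.Rshriek c₂).obj K) := by
  obtain ⟨c, p₁, p₂, hp₁, hp₂, h₁, h₂, hf₁, hf₂⟩ := S8603.result c₁ c₂
  haveI := EtFound.extZero_preservesFiniteLimits c.j
  haveI := BcHComp5.hasRpushEt c.fbar
  obtain ⟨e₁⟩ := nonempty_RpushEt_extZeroD_comp c₁.j c.j p₁ h₁ c₁.fbar c.fbar hf₁ K a ha hK
  obtain ⟨e₂⟩ := nonempty_RpushEt_extZeroD_comp c₂.j c.j p₂ h₂ c₂.fbar c.fbar hf₂ K a ha hK
  exact ⟨e₁ ≪≫ e₂.symm⟩


/-- Inverse images commute with extension by zero on derived categories. -/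
theorem nonempty_pullD_extZeroD {V' V Y X : Scheme.{u}} (j : V ⟶ X) [IsOpenImmersion j] [EtShriek.JCont j]
    [PreservesFiniteLimits (EtShriek.extZero j)] (f : Y ⟶ X) (j' : V' ⟶ Y) [IsOpenImmersion j'] [EtShriek.JCont j']
    [PreservesFiniteLimits (EtShriek.extZero j')] (f' : V' ⟶ V) (h : IsPullback j' f' f j)
    [PreservesFiniteLimits (EtCoh.pull f)] [PreservesFiniteLimits (EtCoh.pull f')] (K : DCoh.DEt V) :
    Nonempty ((EtCoh.pull f).mapDerivedCategory.obj ((DEt.extZeroD j).obj K) ≅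
      (DEt.extZeroD j').obj ((EtCoh.pull f').mapDerivedCategory.obj K)) := by
  obtain ⟨e⟩ := nonempty_pull_extZero_iso j f j' f' h
  haveI : (EtCoh.pull f).IsLeftAdjoint := (EtCoh.pullPushAdj f).isLeftAdjoint
  haveI : (EtCoh.pull f').IsLeftAdjoint := (EtCoh.pullPushAdj f').isLeftAdjoint
  let L := DerivedCategory.Q.objPreimage K
  let eL := DerivedCategory.Q.objObjPreimageIso K
  exact ⟨(EtCoh.pull f).mapDerivedCategory.mapIso ((DEt.extZeroD j).mapIso eL.symm ≪≫
      (EtShriek.extZero j).mapDerivedCategoryFactors.app L) ≪≫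
    (EtCoh.pull f).mapDerivedCategoryFactors.app _ ≪≫
    DerivedCategory.Q.mapIso ((NatIso.mapHomologicalComplex e (ComplexShape.up ℤ)).app L).symm ≪≫
    ((EtShriek.extZero j').mapDerivedCategoryFactors.app
      (((EtCoh.pull f').mapHomologicalComplex (ComplexShape.up ℤ)).obj L)).symm ≪≫
    (DEt.extZeroD j').mapIso (((EtCoh.pull f').mapDerivedCategoryFactors.app L).symm ≪≫
      (EtCoh.pull f').mapDerivedCategory.mapIso eL)⟩

/-- Exact functors on derived categories commute with cohomology. -/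
theorem nonempty_HDEt_map {U V : Scheme.{u}} (F : EtCoh.Ab U ⥤ EtCoh.Ab V) [F.Additive] [PreservesFiniteLimits F]
    [PreservesFiniteColimits F] (E : DCoh.DEt U) (i : ℤ) :
    Nonempty (DCoh.HDEt (F.mapDerivedCategory.obj E) i ≅ F.obj (DCoh.HDEt E i)) := by
  let L := DerivedCategory.Q.objPreimage E
  let e := DerivedCategory.Q.objObjPreimageIso E
  exact ⟨(DerivedCategory.homologyFunctor _ i).mapIso (F.mapDerivedCategory.mapIso e.symm ≪≫
      F.mapDerivedCategoryFactors.app L) ≪≫
    (DerivedCategory.homologyFunctorFactors _ i).app _ ≪≫ (L.sc i).mapHomologyIso F ≪≫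
    F.mapIso (((DerivedCategory.homologyFunctorFactors _ i).app L).symm ≪≫
      (DerivedCategory.homologyFunctor _ i).mapIso e)⟩

/-- Base change for `Rf_!`. -/
theorem nonempty_pull_Rshriek {X Y X' Y' : Scheme.{u}} [CompactSpace X'] [QuasiSeparatedSpace X'] [CompactSpace Y']
    [QuasiSeparatedSpace Y'] {f : X ⟶ Y} (g : Y' ⟶ Y) {f' : X' ⟶ Y'} (g' : X' ⟶ X) (hc : IsPullback g' f' f g)
    (c : DEt.Compactification f) [PreservesFiniteLimits (EtShriek.extZero c.j)] [DCoh.HasRpushEt c.Xbar c.fbar]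
    (c' : DEt.Compactification f') [PreservesFiniteLimits (EtShriek.extZero c'.j)]
    [DCoh.HasRpushEt c'.Xbar c'.fbar] [PreservesFiniteLimits (EtCoh.pull g)]
    [PreservesFiniteLimits (EtCoh.pull g')] (K : DCoh.DEt X) (a : ℤ)
    (ha : ∀ n : ℤ, n < a → IsZero (DCoh.HDEt K n)) (hK : ∀ n : ℤ, EtCoh.IsTorsion (DCoh.HDEt K n)) :
    Nonempty (((EtCoh.pull g).mapDerivedCategory).obj ((DEt.Rshriek c).obj K) ≅
      (DEt.Rshriek c').obj (((EtCoh.pull g').mapDerivedCategory).obj K)) := by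
  let P := pullback c.fbar g
  let q : P ⟶ c.Xbar := pullback.fst c.fbar g
  let fb : P ⟶ Y' := pullback.snd c.fbar g
  let j' : X' ⟶ P := pullback.lift (g' ≫ c.j) f' (by rw [Category.assoc, c.fac, hc.w])
  have hj : j' ≫ q = g' ≫ c.j := pullback.lift_fst _ _ _
  have hfb : j' ≫ fb = f' := pullback.lift_snd _ _ _
  have hbig : IsPullback g' (j' ≫ fb) (c.j ≫ c.fbar) g := by rw [hfb, c.fac]; exact hc
  have sq : IsPullback g' j' c.j q := IsPullback.of_bot hbig hj.symm (IsPullback.of_hasPullback c.fbar g)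
  haveI : IsOpenImmersion j' := MorphismProperty.of_isPullback (P := @IsOpenImmersion) sq inferInstance
  let c₃ : DEt.Compactification f' := ⟨P, j', fb, inferInstance, inferInstance, hfb⟩
  haveI : PreservesFiniteLimits (EtShriek.extZero c₃.j) := EtFound.extZero_preservesFiniteLimits c₃.j
  haveI : DCoh.HasRpushEt c₃.Xbar c₃.fbar := BcHComp5.hasRpushEt c₃.fbar
  haveI : DCoh.HasRpushEt P fb := BcHComp5.hasRpushEt fb
  haveI := BcHComp5.hasRpushEt g
  let E := (DEt.extZeroD c.j).obj K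
  haveI : E.IsGE a := (DerivedCategory.isGE_iff _ _).2 fun n hn =>
    IsZero.of_iso (Functor.map_isZero _ (ha n hn)) (nonempty_HDEt_extZeroD c.j K n).some
  haveI := isIso_bcMap (IsPullback.of_hasPullback c.fbar g) (adj₀ g) E a fun n =>
    isTorsion_of_iso (nonempty_HDEt_extZeroD c.j K n).some.symm (isTorsion_extZero c.j _ (hK n))
  obtain ⟨e₁⟩ := nonempty_pullD_extZeroD c.j q j' g' sq.flip K
  obtain ⟨e₂⟩ := nonempty_Rshriek_iso c₃ c' ((EtCoh.pull g').mapDerivedCategory.obj K) a (fun n hn =>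
    IsZero.of_iso (Functor.map_isZero _ (ha n hn)) (nonempty_HDEt_map (EtCoh.pull g') K n).some) fun n =>
    isTorsion_of_iso (nonempty_HDEt_map (EtCoh.pull g') K n).some.symm (H9Transfer.isTorsion_pull g' _ (hK n))
  exact ⟨asIso (EtBC.bcMap c.fbar g fb q pullback.condition (adj₀ g) E) ≪≫
    (DCoh.RpushEt P fb).mapIso e₁ ≪≫ e₂⟩

end Groth.Agent.PBCThm
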