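import Groth.Agent.PBCThm.Shriek
import Groth.Agent.EtFiltC.Main

/-!
# Composition of `Rf_!`
-/

set_option autoImplicit false
set_option linter.style.haveILetI false
set_option linter.unusedSectionVars false
set_option backward.isDefEq.respectTransparency false
set_option backward.isDefEq.respectTransparency.types false
set_option maxHeartbeats 1000000

universe u

open CategoryTheory CategoryTheory.Limits AlgebraicGeometry Opposite

attribute [local instance] HasDerivedCategory.standard Groth.Agent.EtFound.pull_preservesFiniteLimits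

noncomputable section

namespace Groth.Agent.PBCThm

open EtFound EtBCD5

section sheaf

variable {P Q X V : Scheme.{u}} (k : P ⟶ Q) [IsOpenImmersion k] [EtShriek.JCont k] (j : V ⟶ X) [IsOpenImmersion j]
  [EtShriek.JCont j] (h : P ⟶ V) [IsProper h] (q : Q ⟶ X) [IsProper q] (sq : IsPullback k h q j)

theorem isIso_unit_extZero (F : EtCoh.Ab P) : IsIso ((EtShriek.extZeroAdj k).unit.app F) :=
  (isIso_iff_stalks _).2 fun _ _ _ ξ => isIso_stalk_unit k (A := AddCommGrpCat.{u + 1}) F ξ

include sq in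
/-- Over the open, the direct image of an extension by zero is the direct image. -/
theorem nonempty_push_extZero_restr' :
    Nonempty (EtShriek.extZero k ⋙ EtCoh.push q ⋙ EtShriek.restrAlong j ≅ EtCoh.push h) := by
  haveI : ∀ F, IsIso ((bc0Nat q j h k sq.w).app F) := fun F => S0157.result q h k j sq F
  let b : EtCoh.push q ⋙ EtCoh.pull j ≅ EtCoh.pull k ⋙ EtCoh.push h := NatIso.ofComponents
    (fun F => asIso ((bc0Nat q j h k sq.w).app F)) (fun v => (bc0Nat q j h k sq.w).naturality v)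
  haveI := isIso_unit_extZero k
  let η : 𝟭 (EtCoh.Ab P) ≅ EtShriek.extZero k ⋙ EtShriek.restrAlong k := NatIso.ofComponents
    (fun F => asIso ((EtShriek.extZeroAdj k).unit.app F)) (fun v => (EtShriek.extZeroAdj k).unit.naturality v)
  exact ⟨Functor.isoWhiskerLeft (EtShriek.extZero k)
      (Functor.isoWhiskerLeft (EtCoh.push q) (EtCdp5.restrPullIso j) ≪≫ b) ≪≫
    (Functor.associator _ _ _).symm ≪≫
    Functor.isoWhiskerRight (Functor.isoWhiskerLeft (EtShriek.extZero k) (EtCdp5.restrPullIso k).symm ≪≫ η.symm)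
      (EtCoh.push h) ≪≫ Functor.leftUnitor _⟩

/-- The comparison from extension by zero of a direct image to the direct image of the extension by zero. -/
def pushShriekComm : EtCoh.push h ⋙ EtShriek.extZero j ⟶ EtShriek.extZero k ⋙ EtCoh.push q :=
  Functor.whiskerRight (nonempty_push_extZero_restr' k j h q sq).some.inv (EtShriek.extZero j) ≫
    Functor.whiskerLeft (EtShriek.extZero k ⋙ EtCoh.push q) (EtShriek.extZeroAdj j).counit

include sq in
theorem isIso_pushShriekComm_app (F : EtCoh.Ab P) (hF : EtCoh.IsTorsion F) :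
    IsIso ((pushShriekComm k j h q sq).app F) := by
  haveI : IsIso ((EtShriek.extZeroAdj j).counit.app ((EtCoh.push q).obj ((EtShriek.extZero k).obj F))) := by
    refine extZero_iso_of_outside j _ fun Ω _ _ ξ hξ => ?_
    obtain ⟨e⟩ := nonempty_extZero_Rpush k j h q sq.w F hF 0
    haveI := EtFound.push_preservesFiniteLimits q
    haveI : (EtCoh.push q).Additive := (EtCoh.pullPushAdj q).right_adjoint_additive
    exact IsZero.of_iso (isZero_stalk_extZero j ξ hξ _)
      ((EtCoh.stalk ξ).mapIso (((EtCoh.push q).rightDerivedZeroIsoSelf.app _).symm ≪≫ e.symm))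
  simp only [pushShriekComm, NatTrans.comp_app, Functor.whiskerRight_app, Functor.whiskerLeft_app]
  haveI h₁ : IsIso ((EtShriek.extZero j).map ((nonempty_push_extZero_restr' k j h q sq).some.inv.app F)) :=
    inferInstance
  exact IsIso.comp_isIso' h₁ ‹IsIso ((EtShriek.extZeroAdj j).counit.app _)›

include sq in
theorem isRightAcyclic_extZero' (F : EtCoh.Ab P) (hF : EtCoh.IsTorsion F)
    (hac : TriCat.IsRightAcyclic (EtCoh.push h) F) :
    TriCat.IsRightAcyclic (EtCoh.push q) ((EtShriek.extZero k).obj F) := fun i hi => by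
  obtain ⟨e⟩ := nonempty_extZero_Rpush k j h q sq.w F hF i
  exact IsZero.of_iso (Functor.map_isZero _ (hac i hi)) e.symm

end sheaf

variable {P Q X V S : Scheme.{u}} (k : P ⟶ Q) [IsOpenImmersion k] [EtShriek.JCont k]
  [PreservesFiniteLimits (EtShriek.extZero k)] (j : V ⟶ X) [IsOpenImmersion j] [EtShriek.JCont j]
  [PreservesFiniteLimits (EtShriek.extZero j)] (h : P ⟶ V) [IsProper h] (q : Q ⟶ X) [IsProper q]

/-- `R\bar g_* j_! Rh_* = R(\bar g q)_* k_!` on torsion objects. -/
theorem nonempty_RpushEt_extZeroD_pullback (sq : IsPullback k h q j) (g : X ⟶ S) (g' : Q ⟶ S) (hg : q ≫ g = g')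
    [DCoh.HasRpushEt P h] [DCoh.HasRpushEt X g] [DCoh.HasRpushEt Q g'] (E : DCoh.DEt P) (a : ℤ)
    (ha : ∀ n : ℤ, n < a → IsZero (DCoh.HDEt E n)) (hE : ∀ n : ℤ, EtCoh.IsTorsion (DCoh.HDEt E n)) :
    Nonempty ((DCoh.RpushEt X g).obj ((DEt.extZeroD j).obj ((DCoh.RpushEt P h).obj E)) ≅
      (DCoh.RpushEt Q g').obj ((DEt.extZeroD k).obj E)) := by
  subst hg
  haveI : E.IsGE a := (DerivedCategory.isGE_iff _ _).2 ha
  haveI : (EtCoh.push h).Additive := (EtCoh.pullPushAdj h).right_adjoint_additive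
  haveI : (EtCoh.push q).Additive := (EtCoh.pullPushAdj q).right_adjoint_additive
  obtain ⟨T, hT1, hT2, hT3, ⟨eT⟩, ⟨eT'⟩⟩ := exists_torsion_model h E a hE
  let C := ((EtShriek.extZero j).mapHomologicalComplex (ComplexShape.up ℤ)).obj ((pushC h).obj T)
  let C₁ := ((EtShriek.extZero k).mapHomologicalComplex (ComplexShape.up ℤ)).obj T
  haveI : CochainComplex.IsStrictlyGE C₁ a := by
    rw [CochainComplex.isStrictlyGE_iff]
    exact fun i hi => (EtShriek.extZero k).map_isZero (T.isZero_of_isStrictlyGE a i hi)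
  obtain ⟨R, s, hR1, hR2, hsm, hs⟩ := TriCat.exists_quasiIso_resolution (fun A : EtCoh.Ab Q => Injective A)
    ⟨_, isZero_zero _, IsZero.injective (isZero_zero _)⟩
    (fun A => ⟨Injective.under A, Injective.ι A, inferInstance, inferInstance⟩) C₁ a
  haveI : R.IsKInjective := CochainComplex.isKInjective_of_injective R a
  haveI : ∀ i, Injective (((pushC q).obj R).X i) := fun i => haveI := hR2 i; injective_push q (R.X i)
  haveI : ((pushC q).obj R).IsStrictlyGE a := by
    rw [CochainComplex.isStrictlyGE_iff]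
    exact fun i hi => (EtCoh.push q).map_isZero (R.isZero_of_isStrictlyGE a i hi)
  haveI : ((pushC q).obj R).IsKInjective := CochainComplex.isKInjective_of_injective _ a
  haveI : QuasiIso ((pushC q).map s) := TriCat.quasiIso_map_of_adapted (isAdapted_acyclic q) s hsm a
    (fun m => isRightAcyclic_extZero' k j h q sq _ (hT2 m) (hT3 m))
    (fun m => TriCat.isRightAcyclic_of_injective _)
  haveI : IsIso (DerivedCategory.Q.map s) := (DerivedCategory.isIso_Q_map_iff_quasiIso (φ := s)).2 hs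
  haveI : IsIso (DerivedCategory.Q.map ((pushC q).map s)) :=
    (DerivedCategory.isIso_Q_map_iff_quasiIso (φ := (pushC q).map s)).2 ‹_›
  haveI : ∀ m, IsIso ((pushShriekComm k j h q sq).app (T.X m)) := fun m =>
    isIso_pushShriekComm_app k j h q sq _ (hT2 m)
  let ψ : C ≅ (pushC q).obj C₁ := HomologicalComplex.Hom.isoOfComponents
    (fun m => asIso ((pushShriekComm k j h q sq).app (T.X m)))
    (fun i l _ => ((pushShriekComm k j h q sq).naturality (T.d i l)).symm)
  obtain ⟨e₁⟩ := nonempty_RpushEt_iso g ((pushC q).obj R) (K := (DEt.extZeroD j).obj ((DCoh.RpushEt P h).obj E))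
    ((DEt.extZeroD j).mapIso eT' ≪≫ (EtShriek.extZero j).mapDerivedCategoryFactors.app _ ≪≫
      DerivedCategory.Q.mapIso ψ ≪≫ asIso (DerivedCategory.Q.map ((pushC q).map s)) ≪≫
      ((DerivedCategory.quotientCompQhIso _).app _).symm)
  obtain ⟨e₂⟩ := nonempty_RpushEt_iso (q ≫ g) R (K := (DEt.extZeroD k).obj E)
    ((DEt.extZeroD k).mapIso eT ≪≫ (EtShriek.extZero k).mapDerivedCategoryFactors.app T ≪≫
      asIso (DerivedCategory.Q.map s) ≪≫ ((DerivedCategory.quotientCompQhIso _).app _).symm)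
  haveI : (EtCoh.push g).Additive := (EtCoh.pullPushAdj g).right_adjoint_additive
  haveI : (EtCoh.push (q ≫ g)).Additive := (EtCoh.pullPushAdj (q ≫ g)).right_adjoint_additive
  let e₃ : (pushC g).obj ((pushC q).obj R) ≅ (pushC (q ≫ g)).obj R :=
    (NatIso.mapHomologicalComplex (EtCoh.pushComp g q) (ComplexShape.up ℤ)).app R
  exact ⟨e₁ ≪≫ DerivedCategory.Q.mapIso e₃ ≪≫ e₂.symm⟩


/-- Extension by zero on derived categories is functorial. -/
theorem nonempty_extZeroD_comp {U V X : Scheme.{u}} (a : U ⟶ V) [IsOpenImmersion a] [EtShriek.JCont a]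
    [PreservesFiniteLimits (EtShriek.extZero a)] (j : V ⟶ X) [IsOpenImmersion j] [EtShriek.JCont j]
    [PreservesFiniteLimits (EtShriek.extZero j)] (b : U ⟶ X) [IsOpenImmersion b] [EtShriek.JCont b]
    [PreservesFiniteLimits (EtShriek.extZero b)] (h : a ≫ j = b) (K : DCoh.DEt U) :
    Nonempty ((DEt.extZeroD j).obj ((DEt.extZeroD a).obj K) ≅ (DEt.extZeroD b).obj K) := by
  let L := DerivedCategory.Q.objPreimage K
  let eL := DerivedCategory.Q.objObjPreimageIso K
  exact ⟨(DEt.extZeroD j).mapIso ((DEt.extZeroD a).mapIso eL.symm ≪≫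
      (EtShriek.extZero a).mapDerivedCategoryFactors.app L) ≪≫
    (EtShriek.extZero j).mapDerivedCategoryFactors.app _ ≪≫
    DerivedCategory.Q.mapIso ((NatIso.mapHomologicalComplex (EtFiltC.extZeroCompIso a j b h) (ComplexShape.up ℤ)).app L) ≪≫
    ((EtShriek.extZero b).mapDerivedCategoryFactors.app L).symm ≪≫ (DEt.extZeroD b).mapIso eL⟩

/-- `Rg_! Rf_! = R(g f)_!`. -/
theorem nonempty_Rshriek_comp {X Y Z : Scheme.{u}} [CompactSpace X] [QuasiSeparatedSpace X] [CompactSpace Y]
    [QuasiSeparatedSpace Y] [CompactSpace Z] [QuasiSeparatedSpace Z] {f : X ⟶ Y} {g : Y ⟶ Z}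
    (c : DEt.Compactification f) [PreservesFiniteLimits (EtShriek.extZero c.j)] [DCoh.HasRpushEt c.Xbar c.fbar]
    (d : DEt.Compactification g) [PreservesFiniteLimits (EtShriek.extZero d.j)] [DCoh.HasRpushEt d.Xbar d.fbar]
    (e : DEt.Compactification (f ≫ g)) [PreservesFiniteLimits (EtShriek.extZero e.j)]
    [DCoh.HasRpushEt e.Xbar e.fbar] (K : DCoh.DEt X) (a : ℤ)
    (ha : ∀ n : ℤ, n < a → IsZero (DCoh.HDEt K n)) (hK : ∀ n : ℤ, EtCoh.IsTorsion (DCoh.HDEt K n)) :
    Nonempty ((DEt.Rshriek d).obj ((DEt.Rshriek c).obj K) ≅ (DEt.Rshriek e).obj K) := by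
  let R : Scheme.{u} := pullback d.fbar e.fbar
  let m : X ⟶ R := pullback.lift (f ≫ d.j) e.j (by rw [Category.assoc, d.fac, e.fac])
  have hm₁ : m ≫ pullback.fst d.fbar e.fbar = f ≫ d.j := pullback.lift_fst _ _ _
  have hm₂ : m ≫ pullback.snd d.fbar e.fbar = e.j := pullback.lift_snd _ _ _
  haveI : IsImmersion (m ≫ pullback.snd d.fbar e.fbar) := hm₂.symm ▸ inferInstance
  haveI : IsImmersion m := IsImmersion.of_comp m (pullback.snd d.fbar e.fbar)
  haveI : IsProper (pullback.snd d.fbar e.fbar ≫ e.fbar) := inferInstance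
  haveI : QuasiSeparatedSpace R := quasiSeparatedSpace_of_quasiSeparated (pullback.snd d.fbar e.fbar ≫ e.fbar)
  haveI : QuasiCompact m := inferInstance
  let q : m.image ⟶ d.Xbar := m.imageι ≫ pullback.fst d.fbar e.fbar
  haveI : IsProper q := inferInstanceAs (IsProper (m.imageι ≫ pullback.fst d.fbar e.fbar))
  haveI : IsProper (q ≫ d.fbar) := inferInstance
  have hq : m.toImage ≫ q = f ≫ d.j := by
    rw [show m.toImage ≫ q = (m.toImage ≫ m.imageι) ≫ pullback.fst d.fbar e.fbar from
      (Category.assoc _ _ _).symm, m.toImage_imageι, hm₁]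
  let e₁ : DEt.Compactification (f ≫ g) := ⟨m.image, m.toImage, q ≫ d.fbar, inferInstance, inferInstance, by
    rw [← Category.assoc, hq, Category.assoc, d.fac]⟩
  let P := pullback q d.j
  let k : P ⟶ m.image := pullback.fst q d.j
  let h : P ⟶ Y := pullback.snd q d.j
  let a' : X ⟶ P := pullback.lift m.toImage f hq
  have hak : a' ≫ k = m.toImage := pullback.lift_fst _ _ _
  have hah : a' ≫ h = f := pullback.lift_snd _ _ _
  haveI : IsOpenImmersion k := inferInstanceAs (IsOpenImmersion (pullback.fst q d.j))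
  haveI : IsProper h := inferInstanceAs (IsProper (pullback.snd q d.j))
  haveI : IsOpenImmersion (a' ≫ k) := hak.symm ▸ inferInstance
  haveI : IsOpenImmersion a' := IsOpenImmersion.of_comp a' k
  let c₁ : DEt.Compactification f := ⟨P, a', h, inferInstance, inferInstance, hah⟩
  haveI : PreservesFiniteLimits (EtShriek.extZero c₁.j) := EtFound.extZero_preservesFiniteLimits c₁.j
  haveI : PreservesFiniteLimits (EtShriek.extZero a') := EtFound.extZero_preservesFiniteLimits a'
  haveI : PreservesFiniteLimits (EtShriek.extZero k) := EtFound.extZero_preservesFiniteLimits k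
  haveI : PreservesFiniteLimits (EtShriek.extZero e₁.j) := EtFound.extZero_preservesFiniteLimits e₁.j
  haveI : DCoh.HasRpushEt c₁.Xbar c₁.fbar := BcHComp5.hasRpushEt c₁.fbar
  haveI : DCoh.HasRpushEt e₁.Xbar e₁.fbar := BcHComp5.hasRpushEt e₁.fbar
  haveI := BcHComp5.hasRpushEt h
  haveI := BcHComp5.hasRpushEt (q ≫ d.fbar)
  obtain ⟨i₁⟩ := nonempty_Rshriek_iso c c₁ K a ha hK
  obtain ⟨i₂⟩ := nonempty_RpushEt_extZeroD_pullback k d.j h q (IsPullback.of_hasPullback q d.j) d.fbar
    (q ≫ d.fbar) rfl ((DEt.extZeroD a').obj K) a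
    (fun n hn => IsZero.of_iso (Functor.map_isZero _ (ha n hn)) (nonempty_HDEt_extZeroD a' K n).some)
    (fun n => isTorsion_of_iso (nonempty_HDEt_extZeroD a' K n).some.symm (isTorsion_extZero a' _ (hK n)))
  obtain ⟨i₃⟩ := nonempty_extZeroD_comp a' k m.toImage hak K
  obtain ⟨i₄⟩ := nonempty_Rshriek_iso e₁ e K a ha hK
  exact ⟨(DEt.Rshriek d).mapIso i₁ ≪≫ i₂ ≪≫ (DCoh.RpushEt m.image (q ≫ d.fbar)).mapIso i₃ ≪≫ i₄⟩

end Groth.Agent.PBCThm
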