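import Groth.Agent.PBCThm.Shriek
import Groth.Agent.LocImmLib.ZMT
import Groth.Agent.EtCdp5.Main
import Groth.Agent.EtFound.PushExact

/-!
# `Rf_!` for quasi-finite morphisms
-/

set_option autoImplicit false
set_option linter.style.haveILetI false
set_option linter.unusedSectionVars false
set_option backward.isDefEq.respectTransparency false
set_option backward.isDefEq.respectTransparency.types false

universe u

open CategoryTheory CategoryTheory.Limits AlgebraicGeometry Opposite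

attribute [local instance] HasDerivedCategory.standard Groth.Agent.EtFound.pull_preservesFiniteLimits

namespace Groth.Agent.PBCThm

open EtFound EtBCD5

/-- Cohomology sheaves of derived direct images by finite morphisms. -/
theorem nonempty_HDEt_RpushEt_finite {X Y : Scheme.{u}} (π : X ⟶ Y) [IsFinite π] [DCoh.HasRpushEt X π]
    (K : DCoh.DEt X) (a : ℤ) (ha : ∀ n : ℤ, n < a → IsZero (DCoh.HDEt K n))
    (hK : ∀ n : ℤ, EtCoh.IsTorsion (DCoh.HDEt K n)) (n : ℤ) :
    Nonempty (DCoh.HDEt ((DCoh.RpushEt X π).obj K) n ≅ (EtCoh.push π).obj (DCoh.HDEt K n)) := by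
  haveI : K.IsGE a := (DerivedCategory.isGE_iff _ _).2 ha
  haveI : (EtCoh.push π).Additive := (EtCoh.pullPushAdj π).right_adjoint_additive
  haveI := EtFound.push_preservesFiniteLimits π
  haveI := EtFound.push_preservesFiniteColimits π
  obtain ⟨T, -, -, -, ⟨eT⟩, ⟨eT'⟩⟩ := exists_torsion_model π K a hK
  exact ⟨(DerivedCategory.homologyFunctor _ n).mapIso eT' ≪≫
    (DerivedCategory.homologyFunctorFactors _ n).app _ ≪≫ (T.sc n).mapHomologyIso (EtCoh.push π) ≪≫
    (EtCoh.push π).mapIso (((DerivedCategory.homologyFunctorFactors _ n).app T).symm ≪≫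
      (DerivedCategory.homologyFunctor _ n).mapIso eT.symm)⟩

/-- Cohomology sheaves of a single object. -/
theorem HDEt_single {X : Scheme.{u}} (F : EtCoh.Ab X) :
    Nonempty (DCoh.HDEt ((DerivedCategory.singleFunctor (EtCoh.Ab X) 0).obj F) 0 ≅ F) ∧
      ∀ n : ℤ, n ≠ 0 → IsZero (DCoh.HDEt ((DerivedCategory.singleFunctor (EtCoh.Ab X) 0).obj F) n) := by
  let e := fun n => (DerivedCategory.homologyFunctor (EtCoh.Ab X) n).mapIso
      ((DerivedCategory.singleFunctorIsoCompQ (EtCoh.Ab X) 0).app F) ≪≫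
    (DerivedCategory.homologyFunctorFactors (EtCoh.Ab X) n).app _
  exact ⟨⟨e 0 ≪≫ HomologicalComplex.singleObjHomologySelfIso (ComplexShape.up ℤ) 0 F⟩, fun n hn =>
    IsZero.of_iso ((HomologicalComplex.exactAt_iff_isZero_homology _ _).1
      (HomologicalComplex.exactAt_single_obj (ComplexShape.up ℤ) 0 F n hn)) (e n)⟩

theorem nonempty_Rshriek_quasiFinite {X Y : Scheme.{u}} [CompactSpace X] [QuasiSeparatedSpace X] [CompactSpace Y]
    [QuasiSeparatedSpace Y] {f : X ⟶ Y} [IsSeparated f] [LocallyOfFiniteType f] [LocallyQuasiFinite f]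
    [QuasiCompact f] (c : DEt.Compactification f) [PreservesFiniteLimits (EtShriek.extZero c.j)]
    [DCoh.HasRpushEt c.Xbar c.fbar] (F : EtCoh.Ab X) (hF : EtCoh.IsTorsion F) :
    Nonempty (DCoh.HDEt ((DEt.Rshriek c).obj ((DerivedCategory.singleFunctor (EtCoh.Ab X) 0).obj F)) 0 ≅
      (EtShriek.lowerShriek f).obj F) ∧
    ∀ n : ℤ, n ≠ 0 →
      IsZero (DCoh.HDEt ((DEt.Rshriek c).obj ((DerivedCategory.singleFunctor (EtCoh.Ab X) 0).obj F)) n) := by
  obtain ⟨T, j, π, hj, -, hπ, h⟩ := LocImmLib.exists_openImmersion_finite f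
  haveI := hj
  haveI := hπ
  let c' : DEt.Compactification f := ⟨T, j, π, hj, inferInstance, h⟩
  haveI : PreservesFiniteLimits (EtShriek.extZero c'.j) := EtFound.extZero_preservesFiniteLimits c'.j
  haveI : DCoh.HasRpushEt c'.Xbar c'.fbar := BcHComp5.hasRpushEt c'.fbar
  haveI := BcHComp5.hasRpushEt π
  haveI := EtFound.extZero_preservesFiniteLimits j
  let S := (DerivedCategory.singleFunctor (EtCoh.Ab X) 0).obj F
  obtain ⟨⟨e₀⟩, hz⟩ := HDEt_single F
  have hS : ∀ n : ℤ, EtCoh.IsTorsion (DCoh.HDEt S n) := fun n => by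
    rcases eq_or_ne n 0 with rfl | hn
    · exact isTorsion_of_iso e₀.symm hF
    · exact isTorsion_of_isZero (hz n hn)
  have ha : ∀ n : ℤ, n < 0 → IsZero (DCoh.HDEt S n) := fun n hn => hz n hn.ne
  obtain ⟨i⟩ := nonempty_Rshriek_iso c c' S 0 ha hS
  have key : ∀ n : ℤ, Nonempty (DCoh.HDEt ((DEt.Rshriek c).obj S) n ≅
      (EtCoh.push π).obj ((EtShriek.extZero j).obj (DCoh.HDEt S n))) := fun n => by
    obtain ⟨e₁⟩ := nonempty_HDEt_RpushEt_finite π ((DEt.extZeroD j).obj S) 0
      (fun m hm => IsZero.of_iso (Functor.map_isZero _ (ha m hm)) (nonempty_HDEt_extZeroD j S m).some)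
      (fun m => isTorsion_of_iso (nonempty_HDEt_extZeroD j S m).some.symm (isTorsion_extZero j _ (hS m))) n
    obtain ⟨e₂⟩ := nonempty_HDEt_extZeroD j S n
    exact ⟨(DerivedCategory.homologyFunctor _ n).mapIso i ≪≫ e₁ ≪≫ (EtCoh.push π).mapIso e₂⟩
  refine ⟨⟨(key 0).some ≪≫ (EtCoh.push π).mapIso ((EtShriek.extZero j).mapIso e₀) ≪≫
    ((Shriek.compactifyIso j π).symm ≪≫ EtCdp5.lowerShriekCongr h).app F⟩, fun n hn => ?_⟩
  exact IsZero.of_iso (Functor.map_isZero _ (Functor.map_isZero _ (hz n hn))) (key n).some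

end Groth.Agent.PBCThm
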