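import Groth.Agent.PBCThm.Cd
import Groth.Agent.EtFound.ExtZeroExact
import Groth.Agent.EtFound.AbRecollement
import Groth.Agent.EtFound.ExtZeroBC
import Groth.Agent.FibDim.Minimal
import Groth.Agent.CurveCd.TorsionCd
import Groth.Agent.FibDim.AffineSpaceFibre

/-!
# Higher direct images of extensions by zero
-/

set_option autoImplicit false
set_option linter.style.haveILetI false
set_option linter.unusedSectionVars false
set_option backward.isDefEq.respectTransparency false
set_option backward.isDefEq.respectTransparency.types false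

universe u

open CategoryTheory CategoryTheory.Limits AlgebraicGeometry Opposite Abelian IsLocalRing

namespace Groth.Agent.PBCThm

open EtFound

attribute [local instance] EtFound.pull_preservesFiniteLimits

/-- The extension by zero of a torsion sheaf is torsion. -/
theorem isTorsion_extZero {U X : Scheme.{u}} (j : U ⟶ X) [IsOpenImmersion j] [EtShriek.JCont j] (F : EtCoh.Ab U)
    (hF : EtCoh.IsTorsion F) : EtCoh.IsTorsion ((EtShriek.extZero j).obj F) := by
  rw [H9Transfer.isTorsion_iff_stalks] at hF ⊢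
  intro Ω _ _ ξ t
  by_cases hξ : ξ.base (default : Spec (CommRingCat.of Ω)) ∈ Set.range j.base
  · obtain ⟨z, rfl⟩ : ∃ z : Spec (CommRingCat.of Ω) ⟶ U, z ≫ j = ξ := by
      haveI := FibDim.subsingleton_spec_field Ω
      refine ⟨IsOpenImmersion.lift j ξ ?_, IsOpenImmersion.lift_fac _ _ _⟩
      rintro _ ⟨w, rfl⟩
      rwa [Subsingleton.elim w default]
    haveI : IsIso ((EtCoh.stalk z).map ((EtShriek.extZeroAdj j).unit.app F)) :=
      isIso_stalk_unit j (A := AddCommGrpCat.{u + 1}) F z
    let e : (EtCoh.stalk z).obj F ≅ (EtCoh.stalk (z ≫ j)).obj ((EtShriek.extZero j).obj F) :=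
      @asIso _ _ _ _ _ ((ConcreteCategory.isIso_iff_bijective
        ((EtCoh.stalk z).map ((EtShriek.extZeroAdj j).unit.app F) ≫ restrStalkMap j z _)).2
        ((restrStalkMap_bijective j z ((EtShriek.extZero j).obj F)).comp (ConcreteCategory.bijective_of_isIso _)))
    have h : e.hom (e.inv t) = t := ConcreteCategory.congr_hom e.inv_hom_id t
    rw [← h]
    exact AddMonoidHom.isOfFinAddOrder e.hom.hom (hF Ω z (e.inv t))
  · haveI := AddCommGrpCat.subsingleton_of_isZero (isZero_stalk_extZero j ξ hξ F)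
    rw [Subsingleton.elim t 0]
    exact IsOfFinAddOrder.zero

/-- Torsion cohomology over a separably closed field vanishes above twice the dimension of the support. -/
theorem subsingleton_H_above_supp {k : Type u} [Field k] [IsSepClosed k] {P : Scheme.{u}}
    (a : P ⟶ Spec (CommRingCat.of k)) [LocallyOfFiniteType a] [QuasiCompact a] [QuasiSeparatedSpace P] {n : ℕ}
    (F : EtCoh.Ab P) (hF : EtCoh.IsTorsion F) (hn : ∀ x ∈ EtPBC.supp F, VarDim.deg a x ≤ n) (q : ℕ)
    (hq : 2 * n < q) : Subsingleton (EtCoh.H P F q) := by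
  haveI : IsLocallyNoetherian P := LocallyOfFiniteType.isLocallyNoetherian a
  haveI : CompactSpace P := QuasiCompact.compactSpace_of_compactSpace a
  haveI : IsNoetherian P := {}
  haveI : IsSepClosed (ResidueField k) := EtCdFun.isSepClosed_of_equiv
    (RingEquiv.ofBijective (residue k) ⟨RingHom.injective _, residue_surjective⟩)
  refine CurveCd.subsingleton_H_of_torsion_sub q F hF fun ℓ hℓ G e g _ hG => ?_
  have hk : FieldCd.Vd ℓ k 0 := FieldCd.vanAbove_of_cohDimLEAt (EtCdFun.cohDimLEAt_zero_of_sepClosed k ℓ)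
  have hsub : ∀ x ∈ EtPBC.supp G, VarDim.deg a x ≤ n := fun x hx => by
    obtain ⟨Ω, _, _, ξ, hr, hz⟩ := hx
    exact hn x ⟨Ω, _, _, ξ, hr, fun h0 => hz (EtCdp5.isZero_of_mono_stalk g ξ h0)⟩
  refine EtCdFun.main ℓ hℓ (fun x => 2 * VarDim.deg a x)
    (fun x => FieldCd.cohDimLEAt_of_vanAbove hℓ (FieldCd.vd_mono (by omega) (FieldCd.vd_residueField a hℓ hk x))) ?_ q G
    (GalCd5.isLTorsion_of_killed ℓ e hG) (fun x hx => ?_) q (fun x hx => ?_)
  · intro x y hxy hne R _ _ _ _ _ Q hQ
    haveI : Q.IsPrime := hQ.1.1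
    have := FieldCd.deg_lt_of_specializes a hxy hne
    refine ⟨VarDim.deg a x - VarDim.deg a y, ?_,
      FieldCd.cohDimLEAt_of_vanAbove hℓ (FieldCd.vd_frac_trdeg a hℓ hxy R Q hQ)⟩
    show _ + 1 + (2 * VarDim.deg a y) ≤ 2 * VarDim.deg a x
    omega
  all_goals
    have := hsub x hx
    show 2 * VarDim.deg a x < q
    omega

/-- Inverse images of extensions by zero are supported over the open. -/
theorem mem_range_of_mem_supp {U X P : Scheme.{u}} (j : U ⟶ X) [IsOpenImmersion j] [EtShriek.JCont j] (a : P ⟶ X)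
    (F : EtCoh.Ab U) {z : P} (hz : z ∈ EtPBC.supp ((EtCoh.pull a).obj ((EtShriek.extZero j).obj F))) :
    a z ∈ Set.range j.base := by
  obtain ⟨Ω, _, _, ξ, hr, hne⟩ := hz
  by_contra h
  refine hne (IsZero.of_iso (isZero_stalk_extZero j (ξ ≫ a) ?_ F) ((stalkPullIso a ξ).app _))
  rw [Scheme.Hom.comp_apply, show ξ.base (default : Spec (CommRingCat.of Ω)) = z from
    Set.mem_singleton_iff.1 (hr ▸ Set.mem_range_self _)]
  exact h

/-- Vanishing of compactly supported higher direct images above twice the fibre dimension. -/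
theorem isZero_Rpush_extZero {U P S : Scheme.{u}} (j : U ⟶ P) [IsOpenImmersion j] [EtShriek.JCont j] (p : P ⟶ S)
    [IsProper p] (d : ℕ) (hdim : ∀ s : S, topologicalKrullDim ((j ≫ p).fiber s) ≤ d) (F : EtCoh.Ab U)
    (hF : EtCoh.IsTorsion F) (q : ℕ) (hq : 2 * d < q) :
    IsZero ((EtCoh.Rpush p q).obj ((EtShriek.extZero j).obj F)) := by
  refine (EtFound.isZero_iff_stalks _).2 fun Ω _ _ ξ => ?_
  obtain ⟨e⟩ := nonempty_stalk_Rpush p ξ _ (isTorsion_extZero j F hF) q
  let a := pullback.fst p ξ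
  let b := pullback.snd p ξ
  haveI : IsProper b := inferInstanceAs (IsProper (pullback.snd p ξ))
  haveI : QuasiSeparatedSpace ↥(pullback p ξ) := quasiSeparatedSpace_of_quasiSeparated b
  haveI := subsingleton_H_above_supp b (n := d) _ (H9Transfer.isTorsion_pull a _ (isTorsion_extZero j F hF))
    (fun z hz => ?_) q hq
  · exact IsZero.of_iso (AddCommGrpCat.isZero_of_subsingleton _) e
  obtain ⟨v, hv⟩ := mem_range_of_mem_supp j a F hz
  haveI : LocallyOfFiniteType j := inferInstance
  have h1 : FibDim.rd b z ≤ FibDim.rd p (a z) := FibDim.rd_baseChange_le (IsPullback.of_hasPullback p ξ) z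
  have h2 : FibDim.rd (j ≫ p) v ≤ d := (FibDim.topologicalKrullDim_fiber_le_iff (j ≫ p) _ d).1 (hdim _) v rfl
  rw [FibDim.rd_comp, hv, FibDim.rd_eq_zero_of_quasiFinite j v, add_zero] at h2
  have h3 : VarDim.deg b z = FibDim.rd b z := by
    have h := (VarDim.deg_eq_tdeg b z).trans ((VarDim.tdeg_eq_rdeg b z).trans (FibDim.rd_eq_rdeg b z).symm)
    exact_mod_cast h
  omega

end Groth.Agent.PBCThm
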