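import Groth.Agent.EtLC12.TorsionColim
import Groth.Agent.EtFound.Efface
import Groth.Agent.EtFound.Stalk
import Groth.Agent.H9Transfer.TorsionSheaf
import Groth.Agent.TriCat.Adapted
import Mathlib.Algebra.Homology.HomologySequence
import Mathlib.Algebra.Homology.ShortComplex.Ab

/-!
# Torsion subcomplexes of complexes of injective sheaves
-/

set_option autoImplicit false
set_option linter.style.haveILetI false
set_option linter.unusedSectionVars false
set_option backward.isDefEq.respectTransparency false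
set_option backward.isDefEq.respectTransparency.types false

universe u

open CategoryTheory CategoryTheory.Limits AlgebraicGeometry Opposite Abelian HomologicalComplex

noncomputable section

namespace Groth.Agent.PBCThm

open EtLC12

variable {X : Scheme.{u}}

/-- The stages of the torsion part, functorially. -/
def torD : EtCoh.Ab X ⥤ (TorsionColim.Idx.{u} ⥤ EtCoh.Ab X) where
  obj F := TorsionColim.D F
  map {F G} φ :=
    { app := fun i => kernel.map (TorsionColim.ex i • 𝟙 F) (TorsionColim.ex i • 𝟙 G) φ φ (by simp)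
      naturality := fun i j h => equalizer.hom_ext (by simp [TorsionColim.D]) }
  map_id F := NatTrans.ext (funext fun i => equalizer.hom_ext (by simp [TorsionColim.D]))
  map_comp φ ψ := NatTrans.ext (funext fun i => equalizer.hom_ext (by simp [TorsionColim.D]))

/-- The torsion part. -/
def Tor : EtCoh.Ab X ⥤ EtCoh.Ab X := torD ⋙ colim

/-- The inclusion of the torsion part. -/
def torι : Tor (X := X) ⟶ 𝟭 (EtCoh.Ab X) where
  app F := colimit.desc (TorsionColim.D F) (TorsionColim.cocone F)
  naturality F G φ := by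
    refine colimit.hom_ext fun i => ?_
    simp [Tor, torD, TorsionColim.cocone]

local instance stalk_additive' {K : Type u} [Field K] [IsSepClosed K] (z : Spec (CommRingCat.of K) ⟶ X) :
    (EtCoh.stalk z).Additive := Functor.additive_of_preserves_binary_products _

variable {Ω : Type u} [Field Ω] [IsSepClosed Ω] (ξ : Spec (CommRingCat.of Ω) ⟶ X) (F : EtCoh.Ab X)

theorem exists_stalk_stage (t : (EtCoh.stalk ξ).obj (Tor.obj F)) :
    ∃ (i : TorsionColim.Idx.{u}) (a : (EtCoh.stalk ξ).obj (kernel (TorsionColim.ex i • 𝟙 F))),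
      (EtCoh.stalk ξ).map (colimit.ι (TorsionColim.D F) i) a = t :=
  Concrete.isColimit_exists_rep _ (isColimitOfPreserves (EtCoh.stalk ξ) (colimit.isColimit (TorsionColim.D F))) t

theorem stalk_torι_ι (i : TorsionColim.Idx.{u}) (a : (EtCoh.stalk ξ).obj (kernel (TorsionColim.ex i • 𝟙 F))) :
    (EtCoh.stalk ξ).map (torι.app F) ((EtCoh.stalk ξ).map (colimit.ι (TorsionColim.D F) i) a) =
      (EtCoh.stalk ξ).map (kernel.ι (TorsionColim.ex i • 𝟙 F)) a := by
  refine Eq.trans ?_ (congrArg (fun k => (EtCoh.stalk ξ).map k a) (colimit.ι_desc (TorsionColim.cocone F) i))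
  exact (congrArg (fun k => k a) ((EtCoh.stalk ξ).map_comp (colimit.ι (TorsionColim.D F) i) (torι.app F))).symm

theorem stalk_map_nsmul (n : ℕ) (x : (EtCoh.stalk ξ).obj F) :
    (EtCoh.stalk ξ).map (n • 𝟙 F) x = n • x := by
  rw [Functor.map_nsmul, CategoryTheory.Functor.map_id]
  rfl

theorem injective_stalk_kernel_ι (n : ℕ) :
    Function.Injective ((EtCoh.stalk ξ).map (kernel.ι (n • 𝟙 F))) := by
  haveI := EtFound.stalk_preservesFiniteLimits ξ
  exact (AddCommGrpCat.mono_iff_injective _).1 inferInstance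

theorem injective_stalk_torι : Function.Injective ((EtCoh.stalk ξ).map (torι.app F)) := by
  refine (injective_iff_map_eq_zero _).2 fun t ht => ?_
  obtain ⟨i, a, rfl⟩ := exists_stalk_stage ξ F t
  rw [stalk_torι_ι] at ht
  rw [injective_stalk_kernel_ι ξ F _ (ht.trans (map_zero _).symm), map_zero]

theorem isOfFinAddOrder_stalk_torι (t : (EtCoh.stalk ξ).obj (Tor.obj F)) : IsOfFinAddOrder t := by
  obtain ⟨i, a, rfl⟩ := exists_stalk_stage ξ F t
  refine AddMonoidHom.isOfFinAddOrder (((EtCoh.stalk ξ).map (colimit.ι (TorsionColim.D F) i)).hom)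
    (isOfFinAddOrder_iff_nsmul_eq_zero.2 ⟨TorsionColim.ex i, Nat.factorial_pos _, injective_stalk_kernel_ι ξ F _ ?_⟩)
  rw [map_nsmul, map_zero, ← stalk_map_nsmul, ← ConcreteCategory.comp_apply, ← Functor.map_comp, kernel.condition,
    Functor.map_zero]
  rfl

theorem mem_range_stalk_torι (x : (EtCoh.stalk ξ).obj F) (hx : IsOfFinAddOrder x) :
    ∃ t, (EtCoh.stalk ξ).map (torι.app F) t = x := by
  obtain ⟨m, hm0, hm⟩ := isOfFinAddOrder_iff_nsmul_eq_zero.1 hx
  let i : TorsionColim.Idx.{u} := ⟨m⟩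
  haveI := EtFound.stalk_preservesFiniteLimits ξ
  let S := ShortComplex.mk (kernel.ι (TorsionColim.ex i • 𝟙 F)) (TorsionColim.ex i • 𝟙 F) (kernel.condition _)
  have hS := (ShortComplex.exact_of_f_is_kernel S (kernelIsKernel _)).map_of_mono_of_preservesKernel (EtCoh.stalk ξ)
    inferInstance inferInstance
  obtain ⟨a, ha⟩ := (ShortComplex.ab_exact_iff _).1 hS x (by
    show (EtCoh.stalk ξ).map (TorsionColim.ex i • 𝟙 F) x = 0
    obtain ⟨c, hc⟩ := Nat.dvd_factorial hm0 (Nat.le_succ m)
    rw [stalk_map_nsmul, show TorsionColim.ex i = c * m by rw [TorsionColim.ex, hc, Nat.mul_comm], mul_smul, hm,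
      smul_zero])
  exact ⟨_, (stalk_torι_ι ξ F i a).trans ha⟩

theorem mono_torι : Mono (torι.app F) :=
  (EtFound.mono_iff_stalks _).2 fun _ _ _ ξ => injective_stalk_torι ξ F

instance Tor_additive : (Tor (X := X)).Additive where
  map_add {F G φ ψ} := by
    haveI := mono_torι G
    rw [← cancel_mono (torι.app G), Preadditive.add_comp, torι.naturality, torι.naturality, torι.naturality,
      ← Preadditive.comp_add]
    rfl

theorem epi_nsmul_of_injective (I : EtCoh.Ab X) [Injective I] {n : ℕ} (hn : 0 < n) : Epi (n • 𝟙 I) := by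
  haveI : Sheaf.IsLocallySurjective (n • 𝟙 I) := ⟨fun {U} s => by
    obtain ⟨t, ht⟩ := EtFound.TorsionInd.sections_divisible I hn U s
    refine (EtFound.mem_topology_iff _).2 fun x => ⟨U, 𝟙 U, x, ⟨t, ?_⟩, rfl⟩
    rw [op_id, CategoryTheory.Functor.map_id]
    exact (EtFound.nsmul_hom_app (𝟙 I) n U t).trans ht⟩
  exact (Sheaf.isLocallySurjective_iff_epi' AddCommGrpCat.{u + 1} _).1 inferInstance

/-- Multiplication by positive integers is invertible on the quotient of an injective sheaf by its torsion. -/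
theorem isIso_nsmul_cokernel (I : EtCoh.Ab X) [Injective I] {n : ℕ} (hn : 0 < n) :
    IsIso (n • 𝟙 (cokernel (torι.app I))) := by
  have hepi : Epi (n • 𝟙 (cokernel (torι.app I))) := by
    haveI := epi_nsmul_of_injective I hn
    have : cokernel.π (torι.app I) ≫ (n • 𝟙 (cokernel (torι.app I))) = (n • 𝟙 I) ≫ cokernel.π (torι.app I) := by
      simp
    haveI : Epi (cokernel.π (torι.app I) ≫ (n • 𝟙 (cokernel (torι.app I)))) := this ▸ epi_comp _ _
    exact epi_of_epi (cokernel.π (torι.app I)) _
  have hmono : Mono (n • 𝟙 (cokernel (torι.app I))) := by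
    refine (EtFound.mono_iff_stalks _).2 fun K _ _ z => ?_
    refine (injective_iff_map_eq_zero _).2 fun y hy => ?_
    haveI := EtFound.stalk_preservesFiniteLimits z
    obtain ⟨x, rfl⟩ := (AddCommGrpCat.epi_iff_surjective ((EtCoh.stalk z).map (cokernel.π (torι.app I)))).1
      inferInstance y
    have hy' : n • (EtCoh.stalk z).map (cokernel.π (torι.app I)) x = 0 := (stalk_map_nsmul z _ n _).symm.trans hy
    rw [← map_nsmul] at hy'
    have hS := (ShortComplex.exact_of_g_is_cokernel (ShortComplex.mk (torι.app I) (cokernel.π (torι.app I))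
      (cokernel.condition _)) (cokernelIsCokernel _)).map (EtCoh.stalk z)
    obtain ⟨t, ht⟩ := (ShortComplex.ab_exact_iff _).1 hS _ hy'
    obtain ⟨m, hm0, hm⟩ := isOfFinAddOrder_iff_nsmul_eq_zero.1 (isOfFinAddOrder_stalk_torι z I t)
    have hfin : IsOfFinAddOrder x := isOfFinAddOrder_iff_nsmul_eq_zero.2
      ⟨m * n, Nat.mul_pos hm0 hn, by
        rw [mul_smul, ← show _ = n • x from ht]
        exact (map_nsmul _ m t).symm.trans ((congrArg _ hm).trans (map_zero _))⟩
    obtain ⟨t', rfl⟩ := mem_range_stalk_torι z I x hfin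
    rw [← ConcreteCategory.comp_apply, ← Functor.map_comp, cokernel.condition, Functor.map_zero]
    rfl
  exact isIso_of_mono_of_epi _

theorem shortExact_cokernel {A : Type*} [Category A] [Abelian A] {K L : CochainComplex A ℤ} (f : K ⟶ L) [Mono f] :
    (ShortComplex.mk f (cokernel.π f) (cokernel.condition f)).ShortExact :=
  { exact := ShortComplex.exact_of_g_is_cokernel _ (cokernelIsCokernel f) }

/-- The torsion subcomplex. -/
abbrev torC (I : CochainComplex (EtCoh.Ab X) ℤ) : CochainComplex (EtCoh.Ab X) ℤ :=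
  ((Tor (X := X)).mapHomologicalComplex _).obj I

/-- Its inclusion. -/
def torCι (I : CochainComplex (EtCoh.Ab X) ℤ) : torC I ⟶ I where
  f m := torι.app (I.X m)
  comm' i j _ := (torι.naturality (I.d i j)).symm

/-- For a complex of injectives with torsion cohomology the torsion subcomplex is quasi-isomorphic to it. -/
theorem quasiIso_torCι (I : CochainComplex (EtCoh.Ab X) ℤ) [∀ m, Injective (I.X m)]
    (hI : ∀ m, EtCoh.IsTorsion (I.homology m)) : QuasiIso (torCι I) := by
  haveI : ∀ m, Mono ((torCι I).f m) := fun m => mono_torι (I.X m)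
  haveI := HomologicalComplex.mono_of_mono_f (torCι I) inferInstance
  let S := ShortComplex.mk (torCι I) (cokernel.π (torCι I)) (cokernel.condition _)
  have hS : S.ShortExact := shortExact_cokernel (torCι I)
  refine TriCat.quasiIso_of_shortExact_of_exactAt hS fun m => ?_
  rw [exactAt_iff_isZero_homology]
  refine (EtFound.isZero_iff_stalks _).2 fun K _ _ z => ?_
  refine @AddCommGrpCat.isZero_of_subsingleton _ (subsingleton_of_forall_eq 0 fun w => ?_)
  haveI := EtFound.stalk_preservesFiniteLimits z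
  -- torsion
  have hfinT : ∀ t : (EtCoh.stalk z).obj ((torC I).homology (m + 1)), IsOfFinAddOrder t := fun t => by
    obtain ⟨c, rfl⟩ := (AddCommGrpCat.epi_iff_surjective ((EtCoh.stalk z).map ((torC I).homologyπ (m + 1)))).1
      inferInstance t
    obtain ⟨r, hr0, hr⟩ := isOfFinAddOrder_iff_nsmul_eq_zero.1
      (isOfFinAddOrder_stalk_torι z _ ((EtCoh.stalk z).map ((torC I).iCycles (m + 1)) c))
    refine AddMonoidHom.isOfFinAddOrder ((EtCoh.stalk z).map ((torC I).homologyπ (m + 1))).hom
      (isOfFinAddOrder_iff_nsmul_eq_zero.2 ⟨r, hr0,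
        (AddCommGrpCat.mono_iff_injective ((EtCoh.stalk z).map ((torC I).iCycles (m + 1)))).1 inferInstance ?_⟩)
    rw [map_nsmul, hr, map_zero]
  have hfin : IsOfFinAddOrder w := by
    obtain ⟨r, hr0, hr⟩ := isOfFinAddOrder_iff_nsmul_eq_zero.1
      (hfinT ((EtCoh.stalk z).map (hS.δ m (m + 1) (by simp)) w))
    have h3 := (hS.homology_exact₃ m (m + 1) (by simp)).map (EtCoh.stalk z)
    obtain ⟨v, hv⟩ := (ShortComplex.ab_exact_iff _).1 h3 (r • w) (by
      show (EtCoh.stalk z).map (hS.δ m (m + 1) (by simp)) (r • w) = 0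
      rw [map_nsmul, hr])
    obtain ⟨r', hr'0, hr'⟩ := isOfFinAddOrder_iff_nsmul_eq_zero.1
      ((H9Transfer.isTorsion_iff_stalks _).1 (hI m) K z v)
    refine isOfFinAddOrder_iff_nsmul_eq_zero.2 ⟨r' * r, Nat.mul_pos hr'0 hr0, ?_⟩
    rw [mul_smul, ← show _ = r • w from hv]
    exact (map_nsmul _ r' v).symm.trans ((congrArg _ hr').trans (map_zero _))
  -- divisibility
  obtain ⟨r, hr0, hr⟩ := isOfFinAddOrder_iff_nsmul_eq_zero.1 hfin
  haveI : ∀ j, IsIso ((r • 𝟙 S.X₃ : S.X₃ ⟶ S.X₃).f j) := fun j => by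
    haveI := isIso_nsmul_cokernel (I.X j) hr0
    let e : cokernel (torι.app (I.X j)) ≅ S.X₃.X j :=
      cokernelIsoOfEq (show torι.app (I.X j) = (eval _ (ComplexShape.up ℤ) j).map (torCι I) from rfl) ≪≫
        (PreservesCokernel.iso (eval _ (ComplexShape.up ℤ) j) (torCι I)).symm
    have : (r • 𝟙 S.X₃ : S.X₃ ⟶ S.X₃).f j = e.inv ≫ (r • 𝟙 _) ≫ e.hom := by
      simp
    rw [this]
    infer_instance
  haveI : IsIso (r • 𝟙 S.X₃) := HomologicalComplex.Hom.isIso_of_components _
  have hiso : IsIso ((EtCoh.stalk z).map (homologyMap (r • 𝟙 S.X₃) m)) := inferInstance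
  have hinj := (ConcreteCategory.bijective_of_isIso ((EtCoh.stalk z).map (homologyMap (r • 𝟙 S.X₃) m))).1
  refine hinj (Eq.trans ?_ (map_zero _).symm)
  have e : homologyMap (r • 𝟙 S.X₃) m = r • 𝟙 (S.X₃.homology m) := by
    show (HomologicalComplex.homologyFunctor _ _ m).map (r • 𝟙 S.X₃) = _
    rw [Functor.map_nsmul, CategoryTheory.Functor.map_id]
    rfl
  rw [e, stalk_map_nsmul, hr]

end Groth.Agent.PBCThm
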