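import Groth.Agent.ClosedAffAcyc.Killed
import Groth.Agent.EtFound.Efface

/-!
# Torsion parts of injective sheaves
-/

set_option autoImplicit false
set_option linter.style.haveILetI false
set_option linter.unusedSectionVars false
set_option backward.isDefEq.respectTransparency false
set_option backward.isDefEq.respectTransparency.types false

universe u

open CategoryTheory CategoryTheory.Limits AlgebraicGeometry Opposite Abelian

namespace Groth.Agent.PBCThm

attribute [local instance] EtFound.pull_preservesFiniteLimits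

variable {X Y : Scheme.{u}} {n : ℕ}

/-- The `n`-torsion of a sheaf. -/
noncomputable abbrev tors (n : ℕ) (J : EtCoh.Ab X) : EtCoh.Ab X := kernel (n • 𝟙 J)

theorem tors_killedBy (n : ℕ) (J : EtCoh.Ab X) : n • 𝟙 (tors n J) = 0 := by
  rw [← cancel_mono (kernel.ι (n • 𝟙 J)), Preadditive.nsmul_comp, Category.id_comp, zero_comp]
  refine Eq.trans ?_ (kernel.condition (n • 𝟙 J))
  rw [Preadditive.comp_nsmul, Category.comp_id]

theorem isTorsion_tors (hn : 0 < n) (J : EtCoh.Ab X) : EtCoh.IsTorsion (tors n J) :=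
  ClosedAffAcyc.isTorsion_of_killedBy hn ((EtFound.killedBy_iff_nsmul n _).2 (tors_killedBy n J))

/-- Torsion parts commute with left exact additive functors. -/
noncomputable def mapTorsIso {A B : Type*} [Category A] [Category B] [Preadditive A] [Preadditive B]
    (F : A ⥤ B) [F.Additive] (J : A) (n : ℕ) [HasKernel (n • 𝟙 J)] [HasKernel (n • 𝟙 (F.obj J))]
    [HasKernel (F.map (n • 𝟙 J))] [PreservesLimit (parallelPair (n • 𝟙 J) 0) F] :
    F.obj (kernel (n • 𝟙 J)) ≅ kernel (n • 𝟙 (F.obj J)) :=
  PreservesKernel.iso F (n • 𝟙 J) ≪≫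
    kernelIsoOfEq (by rw [Functor.map_nsmul, CategoryTheory.Functor.map_id])

/-- Direct images commute with torsion parts. -/
noncomputable def pushTorsIso (f : X ⟶ Y) (n : ℕ) (J : EtCoh.Ab X) :
    (EtCoh.push f).obj (tors n J) ≅ tors n ((EtCoh.push f).obj J) :=
  haveI : (EtCoh.push f).IsRightAdjoint := (EtCoh.pullPushAdj f).isRightAdjoint
  mapTorsIso (EtCoh.push f) J n

/-- Inverse images commute with torsion parts. -/
noncomputable def pullTorsIso (f : X ⟶ Y) (n : ℕ) (J : EtCoh.Ab Y) :
    (EtCoh.pull f).obj (tors n J) ≅ tors n ((EtCoh.pull f).obj J) :=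
  haveI : (EtCoh.pull f).Additive := EtCore.pull_additive f
  mapTorsIso (EtCoh.pull f) J n

/-- Direct images of injective sheaves are injective. -/
theorem injective_push (f : X ⟶ Y) (J : EtCoh.Ab X) [Injective J] : Injective ((EtCoh.push f).obj J) :=
  Injective.injective_of_adjoint (EtCoh.pullPushAdj f) J

/-- Every sheaf killed by `n` embeds in the torsion part of an injective sheaf. -/
noncomputable def toTors (n : ℕ) (E : EtCoh.Ab X) (hE : n • 𝟙 E = 0) : E ⟶ tors n (Injective.under E) :=
  kernel.lift _ (Injective.ι E) (by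
    rw [Preadditive.comp_nsmul, Category.comp_id]
    calc n • Injective.ι E = (n • 𝟙 E) ≫ Injective.ι E := by rw [Preadditive.nsmul_comp, Category.id_comp]
      _ = 0 := by rw [hE, zero_comp])

theorem mono_toTors (n : ℕ) (E : EtCoh.Ab X) (hE : n • 𝟙 E = 0) : Mono (toTors n E hE) := by
  haveI : Mono (toTors n E hE ≫ kernel.ι (n • 𝟙 (Injective.under E))) := by
    rw [toTors, kernel.lift_ι]; infer_instance
  exact mono_of_mono _ (kernel.ι (n • 𝟙 (Injective.under E)))

/-- Torsion parts of a retract. -/
theorem exists_retract_tors {J K : EtCoh.Ab X} (s : J ⟶ K) (r : K ⟶ J) (h : s ≫ r = 𝟙 J) (n : ℕ) :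
    ∃ (s' : tors n J ⟶ tors n K) (r' : tors n K ⟶ tors n J), s' ≫ r' = 𝟙 _ := by
  refine ⟨kernel.map _ _ s s (by simp), kernel.map _ _ r r (by simp), ?_⟩
  rw [← cancel_mono (kernel.ι (n • 𝟙 J))]
  simp [h]

/-- Torsion parts of injective sheaves are acyclic. -/
theorem subsingleton_H_tors (hn : 0 < n) (J : EtCoh.Ab X) [Injective J] (q : ℕ) :
    Subsingleton (EtCoh.H X (tors n J) (q + 1)) :=
  EtFound.TorsionInd.subsingleton_H_nTorsion J hn q

/-- Torsion parts of injective sheaves are acyclic on affine étale schemes. -/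
theorem affAcyclic_tors (hn : 0 < n) (J : EtCoh.Ab X) [Injective J] :
    ClosedAffAcyc.AffAcyclic (tors n J) := fun V j hj _ q => by
  haveI := hj
  exact ClosedAffAcyc.subsingleton_H_pull_nTorsion J hn j q

end Groth.Agent.PBCThm
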